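import Cfsg.Agent.BM.JBase

/-!
Kernel checker for coverings `Fi23 = ⋃ S κ_e J`, `J = ⟨all generators but a⟩ = ⟨t1, …, t7, t9, t10⟩`.

Words are hexadecimal numbers (`Script.ev`, letters `1, …, 10`).  A node consists of words `sg` for elements of `S`,
the words `ks` of the double coset representatives `κ_e`, and for every `e`
* `qs`: pairs `(q, τ)`: `κ_e q = τ κ_e`, `q ∈ J`, `τ` a product of words of `sg` (list of indices),
* `ms`: tuples `(u, e', s, x)`: `κ_e = s κ_{e'} x t8 u`, `u, x ∈ J`, `s` a list of indices;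
the points `u⁻¹ (p8)` meet all orbits of `⟨q⟩` on the `J`-orbit of `p8`.
-/

set_option autoImplicit false
set_option linter.constructorNameAsVariable false
set_option maxRecDepth 100000

namespace Cfsg.Agent.BM.CoverChk

open Cfsg.Agent.Lib.PermNet Cfsg.Agent.Fischer.Fi23Rel Cfsg.Agent.Fischer.Fi23Hom
  Cfsg.Agent.Fischer.Fi23Final Cfsg.Agent.BM.JBase Cfsg.Agent.BM.Script Cfsg.Agent.BM.CoverPts
open Cfsg.Spor Cfsg.Spor.Fi23
open Cfsg.Agent.BM.OracleFi23 (fgen act pbase lt img_injective act_img img_base tab_spec)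
open Cfsg.Agent.BM.PermOracle (img)

/-- The value of a word in `Fi23`. -/
noncomputable def wd (w : ℕ) : Fi23 := Script.ev (fgen 0) w

/-- Mask of the letters of `J`. -/
abbrev mJ : ℕ := 0x6fe

theorem letters_J (d : ℕ) (hd : mJ.testBit d = true) : fgen 0 d ∈ J := by
  have hlt : d < 11 := by
    by_contra hc
    have : mJ < 2 ^ d := lt_of_lt_of_le (by norm_num : mJ < 2 ^ 11) (Nat.pow_le_pow_right (by norm_num) (by omega))
    rw [Nat.testBit_lt_two_pow this] at hd
    exact absurd hd (by simp)
  interval_cases d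
  all_goals first
    | exact absurd hd (by decide)
    | exact gen_mem_J (by decide)

theorem wd_mem_J {w : ℕ} (h : wordIn mJ w = true) : wd w ∈ J := ev_mem letters_J w h

theorem wd_eight : wd 8 = gen .a := by
  show Script.evF (fgen 0) 4096 8 = _
  rw [evF_succ, if_neg (by norm_num), evF_zero_right, mul_one]
  rfl

/-! ### Products of words -/

/-- Entry of a list. -/
noncomputable def nth (l : List ℕ) : ℕ → ℕ :=
  List.rec (motive := fun _ => ℕ → ℕ) (fun _ => 0)
    (fun a _ ih c => Bool.rec (ih (Nat.pred c)) a (Nat.beq c 0)) l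

theorem nth_mem {l : List ℕ} (P : ℕ → Prop) (h0 : P 0) (h : ∀ a ∈ l, P a) (c : ℕ) : P (nth l c) := by
  induction l generalizing c with
  | nil => exact h0
  | cons a l ih =>
    show P (Bool.rec (nth l (Nat.pred c)) a (Nat.beq c 0) : ℕ)
    cases Nat.beq c 0 with
    | true => exact h a List.mem_cons_self
    | false => exact ih (fun b hb => h b (List.mem_cons_of_mem _ hb)) _

/-- Product of the words with the given indices. -/
noncomputable def prodC (sg : List ℕ) (cs : List ℕ) : Fi23 := (cs.map (fun c => wd (nth sg c))).prod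

theorem prodC_mem {sg : List ℕ} {S : Subgroup Fi23} (h : ∀ w ∈ sg, wd w ∈ S) (cs : List ℕ) : prodC sg cs ∈ S := by
  unfold prodC
  apply S.list_prod_mem
  intro x hx
  obtain ⟨c, _, rfl⟩ := List.mem_map.1 hx
  refine nth_mem (fun w => wd w ∈ S) ?_ h c
  show Script.ev (fgen 0) 0 ∈ S
  rw [ev_zero]; exact S.one_mem

/-- Trace of a product. -/
noncomputable def traceC (sg cs : List ℕ) : ℕ → ℕ :=
  List.rec (motive := fun _ => ℕ → ℕ) (fun P => P)
    (fun c _ ih P => seq (trace (act 0) (nth sg c) P) ih) cs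

noncomputable abbrev im (x : Fi23) : ℕ := img rho OracleFi23.base x

theorem trace_im (w : ℕ) (x : Fi23) : trace (act 0) w (im x) = im (x * wd w) := trace_img (act_img 0) w x

theorem traceC_im (sg cs : List ℕ) (x : Fi23) : traceC sg cs (im x) = im (x * prodC sg cs) := by
  unfold prodC
  induction cs generalizing x with
  | nil => rw [List.map_nil, List.prod_nil, mul_one]; rfl
  | cons c cs ih =>
    show seq (trace (act 0) (nth sg c) (im x)) (traceC sg cs) = _
    rw [seq_eq, trace_im, ih, List.map_cons, List.prod_cons, mul_assoc]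

theorem im_inj : Function.Injective im := img_injective Psi.card_Fi23.le

/-- `κ q = τ κ`. -/
noncomputable def chkQ (sg : List ℕ) (k q : ℕ) (cs : List ℕ) : Bool :=
  and (wordIn mJ q) (Nat.beq (trace (act 0) q (trace (act 0) k pbase)) (trace (act 0) k (traceC sg cs pbase)))

theorem chkQ_spec {sg : List ℕ} {k q : ℕ} {cs : List ℕ} (h : chkQ sg k q cs = true) :
    wd q ∈ J ∧ wd k * wd q = prodC sg cs * wd k := by
  unfold chkQ at h
  rw [Bool.and_eq_true] at h
  refine ⟨wd_mem_J h.1, im_inj ?_⟩
  have h2 := Nat.eq_of_beq_eq_true h.2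
  rw [← img_base, trace_im, trace_im, traceC_im, trace_im, one_mul, one_mul] at h2
  exact h2

/-- `κ_e = s κ_{e'} x t8 u`. -/
noncomputable def chkM (sg ks : List ℕ) (E k u e' : ℕ) (cs : List ℕ) (x : ℕ) : Bool :=
  and (and (and (wordIn mJ u) (wordIn mJ x)) (Nat.blt e' E))
    (Nat.beq (trace (act 0) k pbase)
      (trace (act 0) u (trace (act 0) 8 (trace (act 0) x (trace (act 0) (nth ks e') (traceC sg cs pbase))))))

theorem chkM_spec {sg ks : List ℕ} {E k u e' : ℕ} {cs : List ℕ} {x : ℕ} (h : chkM sg ks E k u e' cs x = true) :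
    wd u ∈ J ∧ wd x ∈ J ∧ e' < E ∧ wd k * (wd u)⁻¹ * gen .a = prodC sg cs * wd (nth ks e') * wd x := by
  unfold chkM at h
  rw [Bool.and_eq_true, Bool.and_eq_true, Bool.and_eq_true] at h
  obtain ⟨⟨⟨h1, h2⟩, h3⟩, h4⟩ := h
  refine ⟨wd_mem_J h1, wd_mem_J h2, Nat.le_of_ble_eq_true h3, ?_⟩
  have h5 := Nat.eq_of_beq_eq_true h4
  rw [← img_base, traceC_im, trace_im, trace_im, trace_im, trace_im, trace_im] at h5
  have h6 := im_inj h5
  simp only [one_mul] at h6
  rw [h6, wd_eight]
  have ha : (gen .a : Fi23) * gen .a = 1 := gen_sq .a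
  calc prodC sg cs * wd (nth ks e') * wd x * gen .a * wd u * (wd u)⁻¹ * gen .a
      = prodC sg cs * wd (nth ks e') * wd x * (gen .a * gen .a) := by group
    _ = _ := by rw [ha, mul_one]

/-! ### Generators and inverses -/

/-- The second word is the inverse of the first. -/
noncomputable def chkInv (w w' : ℕ) : Bool := Nat.beq (trace (act 0) w' (trace (act 0) w pbase)) pbase

theorem chkInv_spec {w w' : ℕ} (h : chkInv w w' = true) : wd w' = (wd w)⁻¹ := by
  have h2 := Nat.eq_of_beq_eq_true h
  rw [← img_base, trace_im, trace_im, one_mul] at h2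
  exact eq_inv_of_mul_eq_one_right (im_inj h2)

/-- The words at even positions. -/
def evens : List ℕ → List ℕ
  | [] => []
  | [a] => [a]
  | a :: _ :: l => a :: evens l

/-- Each word at an odd position is the inverse of the one before. -/
noncomputable def chkInvs : List ℕ → Bool
  | [] => true
  | [_] => true
  | a :: b :: l => and (chkInv a b) (chkInvs l)

theorem sg_mem {S : Subgroup Fi23} : ∀ {sg : List ℕ} (_ : chkInvs sg = true) (_ : ∀ w ∈ evens sg, wd w ∈ S),
    ∀ w ∈ sg, wd w ∈ S
  | [], _, _ => fun w hw => absurd hw (by simp)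
  | [a], _, h => fun w hw => h w hw
  | a :: b :: l, h, hS => by
    have h' : and (chkInv a b) (chkInvs l) = true := by rw [chkInvs] at h; exact h
    rw [Bool.and_eq_true] at h'
    have ha : wd a ∈ S := hS a (by rw [evens]; exact List.mem_cons_self)
    have ih := sg_mem h'.2 (fun w hw => hS w (by rw [evens]; exact List.mem_cons_of_mem _ hw))
    intro w hw
    rcases List.mem_cons.1 hw with rfl | hw
    · exact ha
    · rcases List.mem_cons.1 hw with rfl | hw
      · rw [chkInv_spec h'.1]; exact S.inv_mem ha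
      · exact ih w hw

/-! ### Saturation -/

/-- Letters acting on sets of points. -/
noncomputable def actB (d V : ℕ) : ℕ := (net (lt 0 d)).app V

theorem testBit_actB (d V p : ℕ) : (actB d V).testBit p = V.testBit (rho (fgen 0 d) p) := by
  show ((net (lt 0 d)).app V).testBit p = V.testBit (rho (gen (lt 0 d)) p)
  rw [testBit_app (ok_net _), rho_gen]

theorem testBit_traceB (w V p : ℕ) : (trace actB w V).testBit p = V.testBit (rho (wd w) p) := by
  have key : ∀ n w V p, (traceF actB n w V).testBit p = V.testBit (rho (evF (fgen 0) n w) p) := by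
    intro n
    induction n with
    | zero => intro w V p; rw [traceF_zero, evF_zero, map_one]; rfl
    | succ n ih =>
      intro w V p
      rw [traceF_succ, evF_succ]
      split_ifs with h0
      · rw [map_one]; rfl
      · rw [ih, testBit_actB, map_mul, Equiv.Perm.mul_apply]
  exact key _ w V p

/-- One round of saturation. -/
noncomputable def rnd (qs : List (ℕ × List ℕ)) : ℕ → ℕ :=
  List.rec (motive := fun _ => ℕ → ℕ) (fun V => V)
    (fun q _ ih V => seq (Nat.lor V (trace actB q.1 V)) ih) qs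

/-- Saturation, `r` rounds. -/
noncomputable def satN (qs : List (ℕ × List ℕ)) (r : ℕ) : ℕ → ℕ :=
  Nat.rec (motive := fun _ => ℕ → ℕ) (fun V => V) (fun _ ih V => seq (rnd qs V) ih) r

theorem rnd_cons (q : ℕ × List ℕ) (qs : List (ℕ × List ℕ)) (V : ℕ) :
    rnd (q :: qs) V = rnd qs (V ||| trace actB q.1 V) := by
  show seq (Nat.lor V (trace actB q.1 V)) (rnd qs) = _
  rw [seq_eq]; rfl

theorem satN_succ (qs : List (ℕ × List ℕ)) (r V : ℕ) : satN qs (r + 1) V = satN qs r (rnd qs V) := by
  show seq (rnd qs V) (satN qs r) = _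
  rw [seq_eq]

theorem rnd_spec {Q : Subgroup Fi23} {qs : List (ℕ × List ℕ)} (h : ∀ q ∈ qs, wd q.1 ∈ Q) {V p : ℕ}
    (hp : (rnd qs V).testBit p = true) : ∃ g ∈ Q, V.testBit (rho g p) = true := by
  induction qs generalizing V with
  | nil => exact ⟨1, Q.one_mem, by rw [map_one]; exact hp⟩
  | cons q qs ih =>
    rw [rnd_cons] at hp
    obtain ⟨g, hg, hp⟩ := ih (fun q hq => h q (List.mem_cons_of_mem _ hq)) hp
    rw [Nat.testBit_or, Bool.or_eq_true, testBit_traceB] at hp
    rcases hp with hp | hp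
    · exact ⟨g, hg, hp⟩
    · exact ⟨wd q.1 * g, Q.mul_mem (h q List.mem_cons_self) hg, by rw [map_mul]; exact hp⟩

theorem satN_spec {Q : Subgroup Fi23} {qs : List (ℕ × List ℕ)} (h : ∀ q ∈ qs, wd q.1 ∈ Q) (r : ℕ) {V p : ℕ}
    (hp : (satN qs r V).testBit p = true) : ∃ g ∈ Q, V.testBit (rho g p) = true := by
  induction r generalizing V with
  | zero => exact ⟨1, Q.one_mem, by rw [map_one]; exact hp⟩
  | succ r ih =>
    rw [satN_succ] at hp
    obtain ⟨g, hg, hp⟩ := ih hp
    obtain ⟨g', hg', hp⟩ := rnd_spec h hp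
    exact ⟨g' * g, Q.mul_mem hg' hg, by rw [map_mul]; exact hp⟩

/-! ### Start points -/

/-- Letters acting on points (`p ↦ t⁻¹ p`). -/
noncomputable def actP (d p : ℕ) : ℕ := Tab.Tr.get (TabChk.tabG (lt 0 d)) 16384 p

theorem trace_actP (w : ℕ) {p : ℕ} (hp : p < 2 ^ 15) : trace actP w p = rho (wd w)⁻¹ p := by
  have key : ∀ n w p, p < 2 ^ 15 → traceF actP n w p = rho (evF (fgen 0) n w)⁻¹ p := by
    intro n
    induction n with
    | zero => intro w p _; rw [traceF_zero, evF_zero, inv_one, map_one]; rfl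
    | succ n ih =>
      intro w p hp
      rw [traceF_succ, evF_succ]
      split_ifs with h0
      · rw [inv_one, map_one]; rfl
      · have h1 : actP (w % 16) p = rho (fgen 0 (w % 16))⁻¹ p := tab_spec _ p hp
        have h2 : rho (fgen 0 (w % 16))⁻¹ p < 2 ^ 15 := OracleFi23.rho_lt _ p hp
        rw [h1, ih _ _ h2, mul_inv_rev, map_mul, Equiv.Perm.mul_apply]
  exact key _ w p hp

/-- The tuple `(u, e', s, x)`. -/
structure M4 : Type where
  u : ℕ
  e : ℕ
  s : List ℕ
  x : ℕ

/-- The start set. -/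
noncomputable def start (ms : List M4) : ℕ → ℕ :=
  List.rec (motive := fun _ => ℕ → ℕ) (fun V => V)
    (fun m _ ih V => seq (Nat.lor V (Nat.shiftLeft 1 (trace actP (M4.rec (fun u _ _ _ => u) m) 11589))) ih) ms

theorem start_cons (m : M4) (ms : List M4) (V : ℕ) :
    start (m :: ms) V = start ms (V ||| 1 <<< trace actP m.u 11589) := by
  show seq _ (start ms) = _
  rw [seq_eq]; rfl

theorem start_spec {ms : List M4} {V p : ℕ} (h : (start ms V).testBit p = true) :
    V.testBit p = true ∨ ∃ m ∈ ms, p = rho (wd m.u)⁻¹ 11589 := by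
  induction ms generalizing V with
  | nil => exact Or.inl h
  | cons m ms ih =>
    rw [start_cons] at h
    rcases ih h with h | ⟨m', hm', rfl⟩
    · rw [Nat.testBit_or, Bool.or_eq_true] at h
      rcases h with h | h
      · exact Or.inl h
      · right
        refine ⟨m, List.mem_cons_self, ?_⟩
        rw [Nat.one_shiftLeft, Nat.testBit_two_pow, trace_actP _ (by norm_num)] at h
        exact (of_decide_eq_true h).symm
    · exact Or.inr ⟨m', List.mem_cons_of_mem _ hm', rfl⟩

/-- The data of a double coset. -/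
structure Edge : Type where
  qs : List (ℕ × List ℕ)
  ms : List M4
  r : ℕ

/-- Check of all `q`. -/
noncomputable def allQ (sg : List ℕ) (k : ℕ) (qs : List (ℕ × List ℕ)) : Bool :=
  List.rec (motive := fun _ => Bool) true (fun q _ ih => and (chkQ sg k q.1 q.2) ih) qs

theorem allQ_spec {sg : List ℕ} {k : ℕ} {qs : List (ℕ × List ℕ)} (h : allQ sg k qs = true) :
    ∀ q ∈ qs, chkQ sg k q.1 q.2 = true := by
  induction qs with
  | nil => intro q hq; exact absurd hq (by simp)
  | cons a qs ih =>
    have h' : and (chkQ sg k a.1 a.2) (allQ sg k qs) = true := h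
    rw [Bool.and_eq_true] at h'
    intro q hq
    rcases List.mem_cons.1 hq with rfl | hq
    · exact h'.1
    · exact ih h'.2 q hq

/-- Check of all `m`. -/
noncomputable def allM (sg ks : List ℕ) (E k : ℕ) (ms : List M4) : Bool :=
  List.rec (motive := fun _ => Bool) true
    (fun m _ ih => and (M4.rec (fun u e s x => chkM sg ks E k u e s x) m) ih) ms

theorem allM_spec {sg ks : List ℕ} {E k : ℕ} {ms : List M4} (h : allM sg ks E k ms = true) :
    ∀ m ∈ ms, chkM sg ks E k m.u m.e m.s m.x = true := by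
  induction ms with
  | nil => intro m hm; exact absurd hm (by simp)
  | cons a ms ih =>
    have h' : and (chkM sg ks E k a.u a.e a.s a.x) (allM sg ks E k ms) = true := h
    rw [Bool.and_eq_true] at h'
    intro m hm
    rcases List.mem_cons.1 hm with rfl | hm
    · exact h'.1
    · exact ih h'.2 m hm

theorem allQ_nil (sg : List ℕ) (k : ℕ) : allQ sg k [] = true := rfl

theorem allQ_cons {sg : List ℕ} {k q : ℕ} {cs : List ℕ} {qs : List (ℕ × List ℕ)} (h : chkQ sg k q cs = true)
    (h' : allQ sg k qs = true) : allQ sg k ((q, cs) :: qs) = true := by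
  show and (chkQ sg k q cs) (allQ sg k qs) = true
  rw [h, h']; rfl

theorem allM_nil (sg ks : List ℕ) (E k : ℕ) : allM sg ks E k [] = true := rfl

theorem allM_cons {sg ks : List ℕ} {E k u e : ℕ} {s : List ℕ} {x : ℕ} {ms : List M4}
    (h : chkM sg ks E k u e s x = true) (h' : allM sg ks E k ms = true) :
    allM sg ks E k (M4.mk u e s x :: ms) = true := by
  show and (chkM sg ks E k u e s x) (allM sg ks E k ms) = true
  rw [h, h']; rfl

theorem satN_step {qs : List (ℕ × List ℕ)} {r V V' U : ℕ} (h : Nat.beq (rnd qs V) V' = true)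
    (h' : satN qs r V' = U) : satN qs (r + 1) V = U := by
  rw [satN_succ, Nat.eq_of_beq_eq_true h, h']

theorem satN_nil (qs : List (ℕ × List ℕ)) (V : ℕ) : satN qs 0 V = V := rfl

/-- A double coset is verified. -/
structure Ok (sg ks : List ℕ) (E k U : ℕ) (d : Edge) : Prop where
  q : allQ sg k d.qs = true
  m : allM sg ks E k d.ms = true
  s : satN d.qs d.r (start d.ms 0) = U

theorem Ok.of {sg ks : List ℕ} {E k U V : ℕ} {qs : List (ℕ × List ℕ)} {ms : List M4} {r : ℕ}
    (hq : allQ sg k qs = true) (hm : allM sg ks E k ms = true) (hV : Nat.beq (start ms 0) V = true)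
    (hs : satN qs r V = U) : Ok sg ks E k U ⟨qs, ms, r⟩ :=
  ⟨hq, hm, by show satN qs r (start ms 0) = U; rw [Nat.eq_of_beq_eq_true hV, hs]⟩

/-- **Soundness.** -/
theorem cover_of_check {U : ℕ} (hU : U.testBit 11589 = true)
    (hUc : ∀ x ∈ noA, ∀ p, U.testBit (rho (gen x) p) = U.testBit p)
    (S : Subgroup Fi23) (sg ks : List ℕ) (E : ℕ) (hS : ∀ w ∈ sg, wd w ∈ S) (data : ℕ → Edge)
    (hA : ∀ e < E, Ok sg ks E (nth ks e) U (data e))
    (h0 : 0 < E) (hk0 : nth ks 0 = 0) :
    ∀ k : Fi23, ∃ e < E, ∃ s ∈ S, ∃ x ∈ J, k = s * wd (nth ks e) * x := by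
  have key := cover_points rho J 11589 (gen .a) (gen_sq .a) (fun x _ hx => comm_a x hx) closure_J_a S
    (E := Fin E) (fun e => wd (nth ks e)) (fun e => Subgroup.closure {g | ∃ q ∈ (data e).qs, wd q.1 = g})
    (by
      intro e
      rw [Subgroup.closure_le]
      rintro _ ⟨q, hq, rfl⟩
      exact (chkQ_spec (allQ_spec (hA e e.2).q q hq)).1)
    (by
      intro e q hq
      induction hq using Subgroup.closure_induction with
      | mem x hx =>
        obtain ⟨q, hq, rfl⟩ := hx
        have h := (chkQ_spec (allQ_spec (hA e e.2).q q hq)).2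
        rw [h, mul_inv_cancel_right]
        exact prodC_mem hS _
      | one => rw [mul_one, mul_inv_cancel]; exact S.one_mem
      | mul x y _ _ hx hy =>
        have := S.mul_mem hx hy
        have e1 : wd (nth ks e) * x * (wd (nth ks e))⁻¹ * (wd (nth ks e) * y * (wd (nth ks e))⁻¹) =
          wd (nth ks e) * (x * y) * (wd (nth ks e))⁻¹ := by group
        rwa [e1] at this
      | inv x _ hx =>
        have := S.inv_mem hx
        have e1 : (wd (nth ks e) * x * (wd (nth ks e))⁻¹)⁻¹ = wd (nth ks e) * x⁻¹ * (wd (nth ks e))⁻¹ := by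
          group
        rwa [e1] at this)
    (M := fun e => {m : M4 // m ∈ (data e).ms}) (fun e m => (wd m.1.u)⁻¹)
    (by
      rintro e ⟨m, hm⟩
      exact J.inv_mem (chkM_spec (allM_spec (hA e e.2).m m hm)).1)
    (by
      intro e
      refine sat_of rho J 11589 {p | U.testBit p = true} hU {g | ∃ x ∈ noA, gen x = g} rfl ?_ _ _ ?_
      · rintro _ ⟨x, hx, rfl⟩ q
        show U.testBit q = true ↔ U.testBit (rho (gen x) q) = true
        rw [hUc x hx]
      · intro q hq
        have hq' : U.testBit q = true := hq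
        rw [← (hA e e.2).s] at hq'
        obtain ⟨g, hg, h⟩ := satN_spec (Q := Subgroup.closure {g | ∃ q ∈ (data e).qs, wd q.1 = g})
          (fun q hq => Subgroup.subset_closure ⟨q, hq, rfl⟩) _ hq'
        rcases start_spec h with h | ⟨m, hm, h⟩
        · rw [Nat.zero_testBit] at h; exact absurd h (by simp)
        · refine ⟨⟨m, hm⟩, g⁻¹, Subgroup.inv_mem _ hg, ?_⟩
          show rho g⁻¹ (rho (wd m.u)⁻¹ 11589) = q
          rw [← h, map_inv]; simp)
    (by
      rintro e ⟨m, hm⟩
      obtain ⟨_, hx, he, h⟩ := chkM_spec (allM_spec (hA e e.2).m m hm)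
      exact ⟨⟨m.e, he⟩, _, prodC_mem hS _, _, hx, h⟩)
    ⟨⟨0, h0⟩, 1, S.one_mem, 1, J.one_mem, by
      show (1 : Fi23) = 1 * wd (nth ks 0) * 1
      rw [hk0]
      show (1 : Fi23) = 1 * Script.ev (fgen 0) 0 * 1
      rw [ev_zero]; simp⟩
  intro k
  obtain ⟨e, s, hs, x, hx, h⟩ := key k
  exact ⟨e, e.2, s, hs, x, hx, h⟩

end Cfsg.Agent.BM.CoverChk
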