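import Cfsg.Agent.BM.PairOracle

/-!
Containers for large certificates of `Script`: search trees of facts and lists of items (number of a fact, rule, path).
-/

set_option autoImplicit false

namespace Cfsg.Agent.BM.Script

open Cfsg.Agent.Lib.PermNet

/-- Search trees of facts (left if the index is smaller than the number at the node). -/
inductive FTree : Type
  | leaf (f : Fact) : FTree
  | node (m : ℕ) (l r : FTree) : FTree

/-- Look up a fact. -/
noncomputable def FTree.get (t : FTree) (n : ℕ) : Fact :=
  FTree.rec (motive := fun _ => Fact) (fun f => f) (fun m _ _ ihl ihr => Bool.rec ihl ihr (Nat.ble m n)) t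

/-- The number of a fact, the rule and the path of its proof. -/
structure Item : Type where
  n : ℕ
  r : ℕ
  st : List Step

/-- Check a list of items. -/
noncomputable def chkItems (S : Sys) (l : List Item) : Bool :=
  List.rec (motive := fun _ => Bool) true (fun it _ ih => and (check S it.n it.r it.st) ih) l

theorem chkItems_spec {S : Sys} {l : List Item} (h : chkItems S l = true) :
    ∀ it ∈ l, check S it.n it.r it.st = true := by
  induction l with
  | nil => intro it hit; exact absurd hit (by simp)
  | cons a l ih =>
    have h' : (check S a.n a.r a.st && chkItems S l) = true := h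
    rw [Bool.and_eq_true] at h'
    intro it hit
    rcases List.mem_cons.1 hit with rfl | hit
    · exact h'.1
    · exact ih h'.2 it hit

/-- `n` is the number of one of the items. -/
noncomputable def hasItem (n : ℕ) (l : List Item) : Bool :=
  List.rec (motive := fun _ => Bool) false (fun it _ ih => or (Nat.beq it.n n) ih) l

theorem hasItem_spec {n : ℕ} {l : List Item} (h : hasItem n l = true) : ∃ it ∈ l, it.n = n := by
  induction l with
  | nil => exact absurd (show false = true from h) (by simp)
  | cons a l ih =>
    have h' : (Nat.beq a.n n || hasItem n l) = true := h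
    rw [Bool.or_eq_true] at h'
    rcases h' with h' | h'
    · exact ⟨a, List.mem_cons_self, Nat.eq_of_beq_eq_true h'⟩
    · obtain ⟨it, hit, h1⟩ := ih h'
      exact ⟨it, List.mem_cons_of_mem _ hit, h1⟩

/-- `n` is an element of the list. -/
noncomputable def hasNat (n : ℕ) (l : List ℕ) : Bool :=
  List.rec (motive := fun _ => Bool) false (fun a _ ih => or (Nat.beq a n) ih) l

theorem hasNat_spec {n : ℕ} {l : List ℕ} (h : hasNat n l = true) : n ∈ l := by
  induction l with
  | nil => exact absurd (show false = true from h) (by simp)
  | cons a l ih =>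
    have h' : (Nat.beq a n || hasNat n l) = true := h
    rw [Bool.or_eq_true] at h'
    rcases h' with h' | h'
    · rw [Nat.eq_of_beq_eq_true h']; exact List.mem_cons_self
    · exact List.mem_cons_of_mem _ (ih h')

/-- `n` is the number of an item of one of the lists. -/
noncomputable def hasItemL (n : ℕ) (L : List (List Item)) : Bool :=
  List.rec (motive := fun _ => Bool) false (fun l _ ih => or (hasItem n l) ih) L

theorem hasItemL_spec {n : ℕ} {L : List (List Item)} (h : hasItemL n L = true) :
    ∃ l ∈ L, ∃ it ∈ l, it.n = n := by
  induction L with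
  | nil => exact absurd (show false = true from h) (by simp)
  | cons a l ih =>
    have h' : (hasItem n a || hasItemL n l) = true := h
    rw [Bool.or_eq_true] at h'
    rcases h' with h' | h'
    · exact ⟨a, List.mem_cons_self, hasItem_spec h'⟩
    · obtain ⟨it, hit, h1⟩ := ih h'
      exact ⟨it, List.mem_cons_of_mem _ hit, h1⟩

/-- All numbers below `m` are given or have an item. -/
noncomputable def complete (gv : List ℕ) (L : List (List Item)) (m : ℕ) : Bool :=
  Nat.rec (motive := fun _ => Bool) true (fun n ih => and (or (hasNat n gv) (hasItemL n L)) ih) m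

theorem complete_spec {gv : List ℕ} {L : List (List Item)} {m : ℕ} (h : complete gv L m = true) :
    ∀ n < m, n ∈ gv ∨ ∃ l ∈ L, ∃ it ∈ l, it.n = n := by
  induction m with
  | zero => intro n hn; omega
  | succ m ih =>
    have h' : ((hasNat m gv || hasItemL m L) && complete gv L m) = true := h
    rw [Bool.and_eq_true, Bool.or_eq_true] at h'
    intro n hn
    rcases Nat.lt_succ_iff_lt_or_eq.1 hn with hn | rfl
    · exact ih h'.2 n hn
    · rcases h'.1 with h1 | h1
      · exact Or.inl (hasNat_spec h1)
      · exact Or.inr (hasItemL_spec h1)

/-- All facts with numbers below `m` hold: the given ones, and the others by their scripts. -/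
theorem Model.all_hold_of_items {S : Sys} {P G : Type*} [Group P] [Group G] (M : Model S P G) (m : ℕ)
    (gv : List ℕ) (L : List (List Item)) (hc : ∀ l ∈ L, chkItems S l = true)
    (hcomp : complete gv L m = true) (hg : ∀ n ∈ gv, M.Holds (S.fact n))
    (hr : ∀ r, M.syls (S.rsyl r) = M.g (S.rty r)) :
    ∀ n < m, M.Holds (S.fact n) := by
  refine M.all_hold m fun n hn => ?_
  rcases complete_spec hcomp n hn with h | ⟨l, hl, it, hit, rfl⟩
  · exact Or.inl (hg n h)
  · exact Or.inr ⟨it.r, it.st, hr _, chkItems_spec (hc l hl) it hit⟩

/-- Value of a word with one letter. -/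
theorem ev_letter {M : Type*} [Monoid M] (g : ℕ → M) (d : ℕ) (h0 : d ≠ 0) (h : d < 16) : ev g d = g d := by
  unfold ev
  rw [show (4096 : ℕ) = 4094 + 1 + 1 by norm_num, evF_succ, if_neg h0, evF_succ, Nat.mod_eq_of_lt h,
    if_pos (Nat.div_eq_of_lt h), mul_one]

end Cfsg.Agent.BM.Script
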