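import Cfsg.Agent.BM.DCE
import Cfsg.Prelude.Def_Spor_Fi22

/-!
Stage A of S1704 (helper606): the abstract assembly.  `ψ : Fi22 →* G`, an involution `x` commuting with the image
of `L ≤ Fi22`, `H` a finite subgroup, nodes `w i` with stabilisers `S i ≤ Fi22` (their images fix the coset
`H w i`), edges `a i j ∈ Fi22` covering `Fi22 = ⋃ S i * a i j * L`, and the facts `H w i ψ(a i j) x = H w i' ψ(b)`.
Then `T = ⟨ψ(Fi22), x⟩` is finite of order at most `|H| * ∑ [Fi22 : S i]`.
-/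

set_option autoImplicit false

namespace Cfsg.Agent.BM.StageA

open Cfsg.Agent.BM.DCE

variable {F G : Type*} [Group F] [Group G]

/-- The index of the image of `S` in the range of `ψ` is at most the index of `S`. -/
theorem relIndex_map_range_le (ψ : F →* G) (S : Subgroup F) (h0 : S.index ≠ 0) :
    (S.map ψ).relIndex ψ.range ≠ 0 ∧ (S.map ψ).relIndex ψ.range ≤ S.index := by
  have hsurj : Function.Surjective ψ.rangeRestrict := ψ.rangeRestrict_surjective
  have hdvd := Subgroup.index_map_dvd (f := ψ.rangeRestrict) S hsurj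
  have heq : (S.map ψ).relIndex ψ.range = (S.map ψ.rangeRestrict).index := by
    unfold Subgroup.relIndex
    congr 1
    ext ⟨g, hg⟩
    simp only [Subgroup.mem_subgroupOf, Subgroup.mem_map]
    constructor
    · rintro ⟨s, hs, h⟩
      exact ⟨s, hs, Subtype.ext h⟩
    · rintro ⟨s, hs, h⟩
      exact ⟨s, hs, congrArg Subtype.val h⟩
  rw [heq]
  constructor
  · intro h
    rw [h, zero_dvd_iff] at hdvd
    exact h0 hdvd
  · exact Nat.le_of_dvd (Nat.pos_of_ne_zero h0) hdvd

/-- Assembly of a double coset enumeration over a fixed group `F` (a quotient of which is `K`). -/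
theorem assemble {ι : Type*} [Fintype ι] {J : ι → Type*} (ψ : F →* G) (x : G) (H : Subgroup G)
    (L : Subgroup F) (hx : x * x = 1) (hL : ∀ l ∈ L, x⁻¹ * ψ l * x = ψ l)
    (w : ι → G) (S : ι → Subgroup F)
    (hwT : ∀ i, w i ∈ Subgroup.closure ((ψ.range : Set G) ∪ {x}))
    (hS : ∀ i, ∀ s ∈ S i, w i * ψ s * (w i)⁻¹ ∈ H)
    (a : ∀ i, J i → F)
    (cov : ∀ i, ∀ k : F, ∃ j : J i, ∃ s ∈ S i, ∃ l ∈ L, k = s * a i j * l)
    (fact : ∀ i (j : J i), ∃ i' b, SameC H (w i * ψ (a i j) * x) (w i' * ψ b))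
    (one : ∃ i, ∃ k : F, SameC H 1 (w i * ψ k))
    (h0 : ∀ i, (S i).index ≠ 0) (T : Subgroup G) (hT : T = Subgroup.closure ((ψ.range : Set G) ∪ {x})) :
    H.relIndex T ≠ 0 ∧ H.relIndex T ≤ ∑ i, (S i).index := by
  subst hT
  have inDC_of : ∀ (g : G) (i : ι) (b : F), SameC H g (w i * ψ b) → InDC H ψ.range (w i) g := by
    intro g i b h
    refine ⟨ψ b, ⟨b, rfl⟩, ?_⟩
    have e : g * (ψ b)⁻¹ * (w i)⁻¹ = g * (w i * ψ b)⁻¹ := by group
    rw [e]; exact h
  have hcov := cover H ψ.range (L.map ψ) x hx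
    (by
      rintro _ ⟨l, hl, rfl⟩
      exact ⟨l, (hL l hl).symm⟩)
    w (fun i => (S i).map ψ)
    (by
      rintro i _ ⟨s, hs, rfl⟩
      exact hS i s hs)
    (fun i j => ψ (a i j))
    (by
      rintro i _ ⟨k, rfl⟩
      obtain ⟨j, s, hs, l, hl, rfl⟩ := cov i k
      exact ⟨j, ψ s, ⟨s, hs, rfl⟩, ψ l, ⟨l, hl, rfl⟩, by simp⟩)
    (by
      intro i j
      obtain ⟨i', b, h⟩ := fact i j
      exact ⟨i', inDC_of _ i' b h⟩)
    (by
      obtain ⟨i, k, h⟩ := one
      exact ⟨i, inDC_of _ i k h⟩)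
  have key := relIndex_le H ψ.range (Subgroup.closure ((ψ.range : Set G) ∪ {x})) w
    (fun i => (S i).map ψ)
    (fun g hg => Subgroup.subset_closure (Or.inl hg)) hwT
    (by
      rintro i _ ⟨s, hs, rfl⟩
      exact hS i s hs)
    hcov (fun i => (relIndex_map_range_le ψ (S i) (h0 i)).1)
  refine ⟨key.1, key.2.trans (Finset.sum_le_sum fun i _ => (relIndex_map_range_le ψ (S i) (h0 i)).2)⟩

/-- order bound from the relative index -/
theorem card_le_of_relIndex (H T : Subgroup G) (hHT : H ≤ T) (hfin : Finite H) {m n : ℕ}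
    (hm : Nat.card H ≤ m) (h0 : H.relIndex T ≠ 0) (hn : H.relIndex T ≤ n) :
    Finite T ∧ Nat.card T ≤ m * n := by
  have e : Nat.card H * H.relIndex T = Nat.card T := by
    have h1 := (H.subgroupOf T).card_mul_index
    have h2 : Nat.card (H.subgroupOf T) = Nat.card H :=
      Nat.card_congr (Subgroup.subgroupOfEquivOfLe hHT).toEquiv
    rw [h2] at h1
    exact h1
  refine ⟨Nat.finite_of_card_ne_zero ?_, ?_⟩
  · rw [← e]
    exact Nat.mul_ne_zero Nat.card_pos.ne' h0
  · rw [← e]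
    exact Nat.mul_le_mul hm hn

end Cfsg.Agent.BM.StageA
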