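import Cfsg.Agent.BM.FactsB
import Cfsg.Agent.BM.CoverChk
import Cfsg.Agent.BM.FactTree
import Cfsg.Agent.BM.StageA

/-!
# Stage B of S1704: assembly

The facts of the certificate, the coverings `Fi23 = ⋃ S κ_e J` and the index bounds `[Fi23 : S_i] ≤ n_i` give
`[G : H] ≤ ∑ n_i` for `H = ⟨t2, …, t11⟩`.
-/

set_option autoImplicit false
set_option maxRecDepth 100000
set_option linter.constructorNameAsVariable false

namespace Cfsg.Agent.BM.AssembleB

open Cfsg.Agent.Lib.PermNet Cfsg.Agent.BM.Script Cfsg.Agent.BM.Psi Cfsg.Agent.BM.FactsB Cfsg.Agent.BM.DCE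
open Cfsg.Agent.BM.CoverChk (wd nth)
open Cfsg.Agent.BM.JBase (J)
open Cfsg.Spor

/-! ### Items -/

/-- Check a list of items: the item of the fact `n` of the certificate is checked at the place `2 n`. -/
noncomputable def chkItemsB (S : Sys) (l : List Item) : Bool :=
  List.rec (motive := fun _ => Bool) true (fun it _ ih => and (check S (Nat.mul 2 it.n) it.r it.st) ih) l

theorem chkItemsB_spec {S : Sys} {l : List Item} (h : chkItemsB S l = true) :
    ∀ it ∈ l, check S (2 * it.n) it.r it.st = true := by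
  induction l with
  | nil => intro it hit; exact absurd hit (by simp)
  | cons a l ih =>
    have h' : (check S (2 * a.n) a.r a.st && chkItemsB S l) = true := h
    rw [Bool.and_eq_true] at h'
    intro it hit
    rcases List.mem_cons.1 hit with rfl | hit
    · exact h'.1
    · exact ih h'.2 it hit

section

variable {G : Type*} [Group G] {x : BabyMonster.Gen → G}

/-- Words in `t1, …, t10`. -/
noncomputable def e0 (h : Rel x) (u : ℕ) : G := psi h (wd u)

theorem tsrc_zero : tsrc 0 = 0 := rfl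
theorem ttgt_zero : ttgt 0 = 0 := by rw [ttgt_eq]; rfl
theorem tsrc_two : tsrc 2 = 0 := rfl
theorem ttgt_two : ttgt 2 = 1 := by rw [ttgt_eq]; rfl

theorem holds_zero_iff (arm : G →* G) (h : Rel x) (w : ℕ → G) (F : ℕ → Fact) {i j u v : ℕ} :
    (model h arm w F).Holds ⟨0, 2 * i, u, 2 * j, v⟩ ↔
      wB arm w (2 * i) * phi h 0 (evB 0 u) * (wB arm w (2 * j) * phi h 0 (evB 0 v))⁻¹ ∈ HB x := by
  rw [holds_iff]
  simp only [tsrc_zero, ttgt_zero]

theorem holds_two_iff (arm : G →* G) (h : Rel x) (w : ℕ → G) (F : ℕ → Fact) {i j u v : ℕ} :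
    (model h arm w F).Holds ⟨2, 2 * i, u, 2 * j + 1, v⟩ ↔
      wB arm w (2 * i) * phi h 0 (evB 0 u) * (wB arm w (2 * j + 1) * phi h 1 (evB 1 v))⁻¹ ∈ HB x := by
  rw [holds_iff]
  simp only [tsrc_two, ttgt_two]

theorem evB_zero (u : ℕ) : evB 0 u = wd u := by
  unfold evB wd
  congr 1

/-- All facts hold. -/
theorem all_hold_of_items {arm : G →* G} (harm : ∀ t, arm (x t) = x (swap t)) (harm2 : ∀ y, arm (arm y) = y)
    (h : Rel x) (w : ℕ → G) (F : ℕ → Fact) (N : ℕ) (gv : List ℕ) (L : List (List Item))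
    (hc : ∀ l ∈ L, chkItemsB (sys F) l = true) (hcomp : complete gv L N = true)
    (hg : ∀ n ∈ gv, (model h arm w F).Holds (F n)) : ∀ n < N, (model h arm w F).Holds (F n) := by
  refine all_hold harm harm2 h w F N fun n hn => ?_
  rcases complete_spec hcomp n hn with h1 | ⟨l, hl, it, hit, rfl⟩
  · exact Or.inl (hg n h1)
  · exact Or.inr ⟨it.r, it.st, chkItemsB_spec (hc l hl) it hit⟩

/-! ### Given facts -/

/-- `w_j = w_i k`, all of sort 0: the fact `(0, i, k, j, 0)`. -/
theorem given_zero (arm : G →* G) (h : Rel x) (w : ℕ → G) (F : ℕ → Fact) {i j u v : ℕ}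
    (hw : w i * e0 h u * (w j * e0 h v)⁻¹ ∈ HB x) : (model h arm w F).Holds ⟨0, 2 * i, u, 2 * j, v⟩ := by
  rw [holds_zero_iff, wB_even, wB_even, phi_zero, evB_zero, evB_zero]
  exact hw

/-- The letters `t2, …, t10` fix the coset `H`. -/
theorem given_letter (arm : G →* G) (h : Rel x) (w : ℕ → G) (F : ℕ → Fact) {i d : ℕ} (hw : w i = 1)
    (h0 : (0x7fc : ℕ).testBit d = true) : (model h arm w F).Holds ⟨0, 2 * i, d, 2 * i, 0⟩ := by
  refine given_zero arm h w F ?_
  have hd : d < 11 := by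
    by_contra hc
    rw [Nat.testBit_lt_two_pow (lt_of_lt_of_le (show 0x7fc < 2 ^ 11 by norm_num)
      (Nat.pow_le_pow_right (by norm_num) (by omega)))] at h0
    exact absurd h0 (by simp)
  have hd0 : d ≠ 0 := by rintro rfl; exact absurd h0 (by decide)
  have h1 : (0x7fe : ℕ).testBit d = true := by
    have e1 : (0x7fc : ℕ) &&& 0x7fe = 0x7fc := by decide
    rw [← e1, Nat.testBit_and, Bool.and_eq_true] at h0
    exact h0.2
  have e1 : e0 h d = x (tl d) := by
    unfold e0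
    rw [← evB_zero]
    unfold evB
    rw [ev_letter _ d hd0 (by omega)]
    exact psi_bgen h d h1
  have e2 : e0 h 0 = 1 := by
    unfold e0 wd
    rw [ev_zero, map_one]
  rw [e1, e2, hw, one_mul, one_mul, inv_one, mul_one]
  refine mem_HB x ?_
  interval_cases d
  · exact absurd h0 (by decide)
  · exact absurd h0 (by decide)
  all_goals exact fun hh => BabyMonster.Gen.noConfusion hh

/-- The fact `(2, i, u, j, v)` as an equation in the model: `v` is a word of sort 1. -/
theorem holds_two (arm : G →* G) (harm : ∀ t, arm (x t) = x (swap t)) (h : Rel x) (w : ℕ → G) (F : ℕ → Fact)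
    {i j u v : ℕ} : (model h arm w F).Holds ⟨2, 2 * i, u, 2 * j + 1, v⟩ ↔
      w i * e0 h u * (arm (w j * psi h (evB 1 v)))⁻¹ ∈ HB x := by
  rw [holds_two_iff, wB_even, wB_odd, phi_zero, phi_one, evB_zero, map_mul, arm_psi harm]
  rfl

/-- The value of the mirror image. -/
theorem evB_one_sww (u : ℕ) : evB 1 (sww u) = wd u := by
  rw [← evB_zero]
  unfold evB
  rw [ev_sww']
  congr 1
  funext d
  rw [bgen_eq, bgen_eq, if_pos rfl, if_neg one_ne_zero, swd_swd]

/-- A definition `w_j = arm (w_i k)`: the fact `(2, i, k, j*, 0)`. -/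
theorem given_two (arm : G →* G) (harm : ∀ t, arm (x t) = x (swap t)) (harm2 : ∀ y, arm (arm y) = y)
    (h : Rel x) (w : ℕ → G) (F : ℕ → Fact)
    {i j u : ℕ} (hw : w j = arm (w i * e0 h u)) : (model h arm w F).Holds ⟨2, 2 * i, u, 2 * j + 1, 0⟩ := by
  rw [holds_two arm harm, hw]
  have e2 : evB 1 0 = 1 := ev_zero _
  rw [e2, map_one, mul_one, harm2, mul_inv_cancel]
  exact (HB x).one_mem

/-- A definition `w_j = arm (w_i k) m⁻¹`: the fact `(2, i, k, j*, m*)`. -/
theorem given_two' (arm : G →* G) (harm : ∀ t, arm (x t) = x (swap t)) (harm2 : ∀ y, arm (arm y) = y)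
    (h : Rel x) (w : ℕ → G) (F : ℕ → Fact)
    {i j u v : ℕ} (v' : ℕ) (hv : sww v' = v) (hw : w j = arm (w i * e0 h u) * (e0 h v')⁻¹) :
    (model h arm w F).Holds ⟨2, 2 * i, u, 2 * j + 1, v⟩ := by
  rw [holds_two arm harm, hw, ← hv, evB_one_sww]
  have e3 : arm (w i * e0 h u) * (e0 h v')⁻¹ * psi h (wd v') = arm (w i * e0 h u) := by
    unfold e0; group
  rw [e3, harm2, mul_inv_cancel]
  exact (HB x).one_mem

/-- The node `w_i = 1` is its own mirror image. -/
theorem given_self (arm : G →* G) (harm : ∀ t, arm (x t) = x (swap t))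
    (h : Rel x) (w : ℕ → G) (F : ℕ → Fact) {i : ℕ} (hw : w i = 1) :
    (model h arm w F).Holds ⟨2, 2 * i, 0, 2 * i + 1, 0⟩ := by
  rw [holds_two arm harm, hw]
  have e2 : evB 1 0 = 1 := ev_zero _
  have e3 : e0 h 0 = 1 := by
    unfold e0 wd
    rw [ev_zero, map_one]
  rw [e2, e3, map_one, mul_one, map_one, inv_one, mul_one]
  exact (HB x).one_mem

/-! ### Using the facts -/

/-- A stabiliser fact. -/
theorem stab_of (arm : G →* G) (h : Rel x) (w : ℕ → G) (F : ℕ → Fact) {n i u : ℕ}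
    (hn : (model h arm w F).Holds (F n)) (hf : F n = ⟨0, 2 * i, u, 2 * i, 0⟩) :
    w i * psi h (wd u) * (w i)⁻¹ ∈ HB x := by
  rw [hf, holds_zero_iff] at hn
  have e2 : evB 0 0 = 1 := ev_zero _
  rwa [wB_even, phi_zero, evB_zero, e2, map_one, mul_one] at hn

/-- An edge fact. -/
theorem edge_of (arm : G →* G) (harm : ∀ t, arm (x t) = x (swap t)) (h : Rel x) (w : ℕ → G) (F : ℕ → Fact)
    {n i j u v : ℕ} (hn : (model h arm w F).Holds (F n)) (hf : F n = ⟨2, 2 * i, u, 2 * j + 1, v⟩) :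
    ∃ y, SameC (HB x) (w i * psi h (wd u)) (arm (w j * psi h y)) := by
  rw [hf, holds_two arm harm] at hn
  exact ⟨_, hn⟩

end

/-! ### The abstract assembly -/

/-- One-sided double coset enumeration, without bookkeeping of pairs. -/
theorem oneSided' {G : Type*} [Group G] {ι : Type*} (H K J₀ : Subgroup G) (φ : G →* G) (hφφ : ∀ g, φ (φ g) = g)
    (hφH : ∀ a ∈ H, φ a ∈ H) (hφJ : ∀ a ∈ J₀, φ a ∈ K)
    (w : ι → G) (S : ι → Subgroup G) (hS : ∀ i, ∀ s ∈ S i, w i * s * (w i)⁻¹ ∈ H)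
    (M : ι → Set G) (edge : ∀ i, ∀ m ∈ M i, ∃ j, ∃ k ∈ K, SameC H (w i * m) (φ (w j * k)))
    (cov : ∀ i, ∀ k ∈ K, ∃ m ∈ M i, ∃ s ∈ S i, ∃ y ∈ J₀, k = s * m * y)
    (one : ∃ i, InDC H K (w i) 1) :
    ∀ g ∈ Subgroup.closure ((K : Set G) ∪ (K.map φ : Subgroup G)), ∃ i, InDC H K (w i) g := by
  have flip : ∀ g, (∃ i, InDC H K (w i) g) → ∃ i, InDC H K (w i) (φ g) := by
    rintro g ⟨i, hg⟩
    obtain ⟨a, ha, k, hk, rfl⟩ := hg.exists
    obtain ⟨m, hm, s, hs, y, hy, rfl⟩ := cov i k hk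
    obtain ⟨j, k', hk', hsame⟩ := edge i m hm
    refine ⟨j, InDC.of_eq (a := φ (a * (w i * s * (w i)⁻¹) * (w i * m * (φ (w j * k'))⁻¹))) (k := k' * φ y)
      (hφH _ (H.mul_mem (H.mul_mem ha (hS i s hs)) hsame)) (K.mul_mem hk' (hφJ y hy)) ?_⟩
    have e1 : a * w i * (s * m * y) =
        a * (w i * s * (w i)⁻¹) * (w i * m * (φ (w j * k'))⁻¹) * (φ (w j * k') * y) := by group
    rw [e1, map_mul, map_mul φ (φ (w j * k')), hφφ]
    simp only [mul_assoc]
  have step : ∀ g, (∃ i, InDC H K (w i) g) → ∀ k ∈ K.map φ, ∃ i, InDC H K (w i) (g * k) := by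
    rintro g hg _ ⟨k, hk, rfl⟩
    obtain ⟨i, hi⟩ := flip g hg
    obtain ⟨j, hj⟩ := flip _ ⟨i, hi.mul_right hk⟩
    refine ⟨j, ?_⟩
    rwa [map_mul, hφφ] at hj
  intro g hg
  induction hg using Subgroup.closure_induction_right with
  | one => exact one
  | mul_right a _ b hb ih =>
    rcases hb with hb | hb
    · obtain ⟨i, hi⟩ := ih; exact ⟨i, hi.mul_right hb⟩
    · exact step a ih b hb
  | mul_inv_cancel a _ b hb ih =>
    rcases hb with hb | hb
    · obtain ⟨i, hi⟩ := ih; exact ⟨i, hi.mul_right (K.inv_mem hb)⟩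
    · exact step a ih _ ((K.map φ).inv_mem hb)

theorem closure_top_of_range {G : Type*} [Group G] {x : BabyMonster.Gen → G} {arm : G →* G}
    (harm : ∀ t, arm (x t) = x (swap t)) (h : Rel x) (htop : Subgroup.closure (Set.range x) = ⊤) :
    Subgroup.closure (((psi h).range : Set G) ∪ ((psi h).range.map arm : Subgroup G)) = ⊤ := by
  rw [eq_top_iff, ← htop, Subgroup.closure_le]
  rintro _ ⟨t, rfl⟩
  have h1 : ∀ g : Fi23.Gen, x (m1 g) ∈ (psi h).range := fun g => ⟨_, psi_gen h g⟩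
  have h2 : ∀ g : Fi23.Gen, x (m2 g) ∈ (psi h).range.map arm := fun g =>
    ⟨x (m1 g), h1 g, by rw [harm, swap_m1]⟩
  cases t
  · exact Subgroup.subset_closure (Or.inl (h1 .j))
  · exact Subgroup.subset_closure (Or.inl (h1 .g))
  · exact Subgroup.subset_closure (Or.inl (h1 .f))
  · exact Subgroup.subset_closure (Or.inl (h1 .e))
  · exact Subgroup.subset_closure (Or.inl (h1 .d))
  · exact Subgroup.subset_closure (Or.inl (h1 .c))
  · exact Subgroup.subset_closure (Or.inl (h1 .b))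
  · exact Subgroup.subset_closure (Or.inl (h1 .a))
  · exact Subgroup.subset_closure (Or.inl (h1 .h))
  · exact Subgroup.subset_closure (Or.inl (h1 .i))
  · exact Subgroup.subset_closure (Or.inr (h2 .a))

theorem arm_J {G : Type*} [Group G] {x : BabyMonster.Gen → G} {arm : G →* G}
    (harm : ∀ t, arm (x t) = x (swap t)) (h : Rel x) : ∀ y ∈ J.map (psi h), arm y ∈ (psi h).range := by
  rintro _ ⟨k, hk, rfl⟩
  have : J ≤ (psi h).range.comap (arm.comp (psi h)) := by
    unfold J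
    rw [Subgroup.closure_le]
    rintro _ ⟨g, hg, rfl⟩
    show arm (psi h (Cfsg.Agent.Fischer.Fi23Hom.gen g)) ∈ (psi h).range
    rw [psi_gen, harm, swap_m1]
    have h1 : ∀ g : Fi23.Gen, x (m1 g) ∈ (psi h).range := fun g => ⟨_, psi_gen h g⟩
    have h2 : ∃ g', m2 g = m1 g' := by
      cases g
      case a => exact absurd hg (by decide)
      case b => exact ⟨.i, rfl⟩
      case c => exact ⟨.h, rfl⟩
      case d => exact ⟨.d, rfl⟩
      case e => exact ⟨.e, rfl⟩
      case f => exact ⟨.f, rfl⟩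
      case g => exact ⟨.g, rfl⟩
      case h => exact ⟨.c, rfl⟩
      case i => exact ⟨.b, rfl⟩
      case j => exact ⟨.j, rfl⟩
    obtain ⟨g', hg'⟩ := h2
    rw [hg']
    exact h1 g'
  exact this hk

/-- **The index bound of stage B.** -/
theorem index_le_of_facts {G : Type*} [Group G] {x : BabyMonster.Gen → G} {arm : G →* G}
    (harm : ∀ t, arm (x t) = x (swap t)) (harm2 : ∀ y, arm (arm y) = y) (h : Rel x)
    (htop : Subgroup.closure (Set.range x) = ⊤) (m : ℕ) (w : ℕ → G) (hw : ∃ i < m, w i = 1)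
    (sg ks : ℕ → List ℕ)
    (stab : ∀ i < m, ∀ u ∈ sg i, w i * psi h (wd u) * (w i)⁻¹ ∈ HB x)
    (edge : ∀ i < m, ∀ e < (ks i).length, ∃ j < m, ∃ y,
      SameC (HB x) (w i * psi h (wd (nth (ks i) e))) (arm (w j * psi h y)))
    (cov : ∀ i < m, ∀ S : Subgroup Fi23, (∀ u ∈ sg i, wd u ∈ S) →
      ∀ k : Fi23, ∃ e < (ks i).length, ∃ s ∈ S, ∃ y ∈ J, k = s * wd (nth (ks i) e) * y)
    (nn : ℕ → ℕ) (ind : ∀ i < m, ∀ S : Subgroup Fi23, (∀ u ∈ sg i, wd u ∈ S) → S.index ≠ 0 ∧ S.index ≤ nn i) :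
    (HB x).index ≠ 0 ∧ (HB x).index ≤ ∑ i ∈ Finset.range m, nn i := by
  classical
  -- the stabilisers
  let S : Fin m → Subgroup Fi23 := fun i => Subgroup.closure {g | ∃ u ∈ sg i, wd u = g}
  have hS0 : ∀ i : Fin m, ∀ u ∈ sg i, wd u ∈ S i := fun i u hu => Subgroup.subset_closure ⟨u, hu, rfl⟩
  have hS : ∀ i : Fin m, ∀ s ∈ (S i).map (psi h), w i * s * (w i)⁻¹ ∈ HB x := by
    rintro i _ ⟨s, hs, rfl⟩
    induction hs using Subgroup.closure_induction with
    | mem y hy =>
      obtain ⟨u, hu, rfl⟩ := hy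
      exact stab i i.2 u hu
    | one => rw [map_one, mul_one, mul_inv_cancel]; exact (HB x).one_mem
    | mul y z _ _ hy hz =>
      have := (HB x).mul_mem hy hz
      have e1 : w i * psi h y * (w i)⁻¹ * (w i * psi h z * (w i)⁻¹) = w i * psi h (y * z) * (w i)⁻¹ := by
        rw [map_mul]; group
      rwa [e1] at this
    | inv y _ hy =>
      have := (HB x).inv_mem hy
      have e1 : (w i * psi h y * (w i)⁻¹)⁻¹ = w i * psi h y⁻¹ * (w i)⁻¹ := by rw [map_inv]; group
      rwa [e1] at this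
  have key := oneSided' (ι := Fin m) (HB x) (psi h).range (J.map (psi h)) arm harm2
    (fun a ha => arm_HB harm ha) (arm_J harm h) (fun i => w i) (fun i => (S i).map (psi h)) hS
    (fun i => {g | ∃ e < (ks i).length, g = psi h (wd (nth (ks i) e))})
    (by
      rintro i _ ⟨e, he, rfl⟩
      obtain ⟨j, hj, y, hy⟩ := edge i i.2 e he
      exact ⟨⟨j, hj⟩, psi h y, ⟨y, rfl⟩, hy⟩)
    (by
      rintro i _ ⟨k, rfl⟩
      obtain ⟨e, he, s, hs, y, hy, hk⟩ := cov i i.2 (S i) (hS0 i) k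
      refine ⟨_, ⟨e, he, rfl⟩, psi h s, ⟨s, hs, rfl⟩, psi h y, ⟨y, hy, rfl⟩, ?_⟩
      rw [hk, map_mul, map_mul])
    (by
      obtain ⟨i, hi, hw⟩ := hw
      refine ⟨⟨i, hi⟩, 1, (psi h).range.one_mem, ?_⟩
      show 1 * 1⁻¹ * (w i)⁻¹ ∈ HB x
      rw [hw, inv_one, mul_one, mul_one]
      exact (HB x).one_mem)
  rw [closure_top_of_range harm h htop] at key
  have h1 : ∀ i : Fin m, ((S i).map (psi h)).relIndex (psi h).range ≠ 0 ∧
      ((S i).map (psi h)).relIndex (psi h).range ≤ nn i := by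
    intro i
    have h2 := ind i i.2 (S i) (hS0 i)
    have h3 := StageA.relIndex_map_range_le (psi h) (S i) h2.1
    exact ⟨h3.1, h3.2.trans h2.2⟩
  have h2 := index_le (HB x) (psi h).range (fun i : Fin m => w i) (fun i => (S i).map (psi h)) hS
    (fun g => key g (Subgroup.mem_top g)) (fun i => (h1 i).1)
  refine ⟨h2.1, h2.2.trans ?_⟩
  rw [Finset.sum_range]
  exact Finset.sum_le_sum fun i _ => (h1 i).2

/-! ### The arm swap of the presented group -/

/-- The automorphism of the presented Baby Monster exchanging the arms of length three. -/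
noncomputable def armB : Spor.BabyMonster →* Spor.BabyMonster :=
  PresentedGroup.toGroup (f := fun t => (PresentedGroup.of (swap t) : Spor.BabyMonster)) (rel_swap rel_of)

theorem armB_of (t : BabyMonster.Gen) :
    armB (PresentedGroup.of t) = (PresentedGroup.of (swap t) : Spor.BabyMonster) :=
  PresentedGroup.toGroup.of _

theorem armB_armB (y : Spor.BabyMonster) : armB (armB y) = y := by
  have : armB.comp armB = MonoidHom.id Spor.BabyMonster := by
    apply PresentedGroup.ext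
    intro t
    show armB (armB (PresentedGroup.of t)) = PresentedGroup.of t
    rw [armB_of, armB_of, swap_swap]
  exact DFunLike.congr_fun this y

end Cfsg.Agent.BM.AssembleB
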