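import Cfsg.Agent.Lib.PermNet

/-!
# Scripts for double coset enumeration over a word oracle

A kernel-checkable proof format for facts about right cosets of a subgroup `H` of a group `G`.

* Words are natural numbers: hexadecimal digits are letters, the first letter is the lowest digit.
* A *sort* `s` is a homomorphism `φ s : P →* G` together with letters `gen s d : P`; elements of `P` are compared by
  means of an injective map `img : P → ℕ` with `act s d (img x) = img (x * gen s d)` (for example the packed images of
  the points of a base of a permutation representation of `P`).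
* A *node* `i` is an element `w i` of `G`, it has the sort `srt i`.
* A *type* `τ` is an element `g τ` of `G` with `φ s (gen s d) * g τ = g τ * φ s' (gen s' d)` for the letters `d` of the
  mask of `τ` (`s = src τ`, `s' = tgt τ`). A type is *silent* if `g τ = 1`.
* A *fact* `(τ, i, a, j, b)` says that `H w_i a g_τ = H w_j b`.
* An item is a fact `(τ, i, a, j, b)` with a path: one starts with the state `(i, a)`; a step `K u` multiplies by the
  word `u`; a step `U n dir s l` uses the earlier fact `n` (backwards if `dir`): if the state is `(i, x)` and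
  `x = s * a * l` where `s` is a product of earlier stabiliser facts of `i` (codes `2 n + dir`) and `l` is a word in the
  letters of the mask, then the new state is `(j, b * l)`. The final state must be `(j, b)`, and the syllables of the
  path (silent ones left out) must be those of the rule of the item, whose product is `g τ`.
-/

set_option autoImplicit false

namespace Cfsg.Agent.BM.Script

open Cfsg.Agent.Lib.PermNet

/-! ### Words -/

/-- Value of a word with at most `n` letters. -/
noncomputable def evF {M : Type*} [Monoid M] (g : ℕ → M) : ℕ → ℕ → M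
  | 0, _ => 1
  | n + 1, w => if w = 0 then 1 else g (w % 16) * evF g n (w / 16)

theorem evF_zero {M : Type*} [Monoid M] (g : ℕ → M) (w : ℕ) : evF g 0 w = 1 := by rw [evF]
theorem evF_succ {M : Type*} [Monoid M] (g : ℕ → M) (n w : ℕ) :
    evF g (n + 1) w = if w = 0 then 1 else g (w % 16) * evF g n (w / 16) := by rw [evF]

/-- Value of a word. -/
noncomputable def ev {M : Type*} [Monoid M] (g : ℕ → M) (w : ℕ) : M := evF g 4096 w

theorem evF_zero_right {M : Type*} [Monoid M] (g : ℕ → M) (n : ℕ) : evF g n 0 = 1 := by
  cases n with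
  | zero => rw [evF_zero]
  | succ n => rw [evF_succ, if_pos rfl]

@[simp] theorem ev_zero {M : Type*} [Monoid M] (g : ℕ → M) : ev g 0 = 1 := evF_zero_right g _

theorem map_evF {M N : Type*} [Monoid M] [Monoid N] (f : M →* N) (g : ℕ → M) (n w : ℕ) :
    f (evF g n w) = evF (fun d => f (g d)) n w := by
  induction n generalizing w with
  | zero => rw [evF_zero, evF_zero, map_one]
  | succ n ih =>
    rw [evF_succ, evF_succ]
    split_ifs with h
    · exact map_one f
    · rw [map_mul, ih]

theorem map_ev {M N : Type*} [Monoid M] [Monoid N] (f : M →* N) (g : ℕ → M) (w : ℕ) :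
    f (ev g w) = ev (fun d => f (g d)) w := map_evF f g _ w

/-- Follow a word (kernel version). -/
noncomputable def traceF (act : ℕ → ℕ → ℕ) (n : ℕ) : ℕ → ℕ → ℕ :=
  Nat.rec (motive := fun _ => ℕ → ℕ → ℕ) (fun _ P => P)
    (fun _ ih w P => Bool.rec (seq (act (Nat.land w 15) P) fun Q => seq (Nat.shiftRight w 4) fun w' => ih w' Q)
      P (Nat.beq w 0)) n

/-- Follow a word. -/
noncomputable def trace (act : ℕ → ℕ → ℕ) (w P : ℕ) : ℕ := traceF act (nat_lit 4096) w P

theorem traceF_zero (act : ℕ → ℕ → ℕ) (w P : ℕ) : traceF act 0 w P = P := rfl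

theorem traceF_succ (act : ℕ → ℕ → ℕ) (n w P : ℕ) :
    traceF act (n + 1) w P = if w = 0 then P else traceF act n (w / 16) (act (w % 16) P) := by
  show (Bool.rec (seq (act (Nat.land w 15) P) fun Q => seq (Nat.shiftRight w 4) fun w' => traceF act n w' Q)
      P (Nat.beq w 0) : ℕ) = _
  by_cases h : w = 0
  · subst h; rw [if_pos rfl]; rfl
  · rw [if_neg h, show Nat.beq w 0 = false by
      rw [← Bool.not_eq_true]; exact fun h' => h (Nat.eq_of_beq_eq_true h')]
    show (seq (act (Nat.land w 15) P) fun Q => seq (Nat.shiftRight w 4) fun w' => traceF act n w' Q) = _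
    rw [seq_eq, seq_eq]
    have h1 : Nat.land w 15 = w % 16 := by
      show w &&& 15 = _
      exact Nat.and_two_pow_sub_one_eq_mod w 4
    have h2 : Nat.shiftRight w 4 = w / 16 := by
      show w >>> 4 = _
      rw [Nat.shiftRight_eq_div_pow]
    rw [h1, h2]

theorem traceF_img {P : Type*} [Monoid P] {act : ℕ → ℕ → ℕ} {g : ℕ → P} {img : P → ℕ}
    (h : ∀ d x, act d (img x) = img (x * g d)) (n w : ℕ) (x : P) :
    traceF act n w (img x) = img (x * evF g n w) := by
  induction n generalizing w x with
  | zero => rw [traceF_zero, evF_zero, mul_one]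
  | succ n ih =>
    rw [traceF_succ, evF_succ]
    split_ifs with h0
    · rw [mul_one]
    · rw [h, ih, mul_assoc]

theorem trace_img {P : Type*} [Monoid P] {act : ℕ → ℕ → ℕ} {g : ℕ → P} {img : P → ℕ}
    (h : ∀ d x, act d (img x) = img (x * g d)) (w : ℕ) (x : P) :
    trace act w (img x) = img (x * ev g w) := traceF_img h _ w x

/-- Follow a list of words. -/
noncomputable def traceL (act : ℕ → ℕ → ℕ) (ws : List ℕ) : ℕ → ℕ :=
  List.rec (motive := fun _ => ℕ → ℕ) (fun P => P) (fun w _ ih P => seq (trace act w P) ih) ws

theorem traceL_img {P : Type*} [Monoid P] {act : ℕ → ℕ → ℕ} {g : ℕ → P} {img : P → ℕ}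
    (h : ∀ d x, act d (img x) = img (x * g d)) (ws : List ℕ) (x : P) :
    traceL act ws (img x) = img (x * (ws.map (ev g)).prod) := by
  induction ws generalizing x with
  | nil => rw [List.map_nil, List.prod_nil, mul_one]; rfl
  | cons w ws ih =>
    show seq (trace act w (img x)) (traceL act ws) = _
    rw [seq_eq, trace_img h, ih, List.map_cons, List.prod_cons, mul_assoc]

/-- Two lists of words have the same value (check by images of the base). -/
noncomputable def eqB (act : ℕ → ℕ → ℕ) (base : ℕ) (us vs : List ℕ) : Bool :=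
  Nat.beq (traceL act us base) (traceL act vs base)

theorem eq_of_eqB {P : Type*} [Monoid P] {act : ℕ → ℕ → ℕ} {g : ℕ → P} {img : P → ℕ}
    (h : ∀ d x, act d (img x) = img (x * g d)) (hinj : Function.Injective img) {base : ℕ}
    (hbase : img 1 = base) {us vs : List ℕ} (hc : eqB act base us vs = true) :
    (us.map (ev g)).prod = (vs.map (ev g)).prod := by
  have h1 := Nat.eq_of_beq_eq_true hc
  rw [← hbase, traceL_img h, traceL_img h] at h1
  have h2 := hinj h1
  rwa [one_mul, one_mul] at h2

/-- All letters of a word lie in the mask `m`. -/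
noncomputable def wordInF (m n : ℕ) : ℕ → Bool :=
  Nat.rec (motive := fun _ => ℕ → Bool) (fun _ => true)
    (fun _ ih w => Bool.rec (and (tb m (Nat.land w 15)) (seqB (Nat.shiftRight w 4) ih)) true (Nat.beq w 0)) n

theorem wordInF_succ (m n w : ℕ) : wordInF m (n + 1) w =
    if w = 0 then true else (m.testBit (w % 16) && wordInF m n (w / 16)) := by
  show (Bool.rec (and (tb m (Nat.land w 15)) (seqB (Nat.shiftRight w 4) (wordInF m n))) true (Nat.beq w 0) : Bool) = _
  by_cases h : w = 0
  · subst h; rw [if_pos rfl]; rfl
  · rw [if_neg h, show Nat.beq w 0 = false by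
      rw [← Bool.not_eq_true]; exact fun h' => h (Nat.eq_of_beq_eq_true h')]
    show (tb m (Nat.land w 15) && seqB (Nat.shiftRight w 4) (wordInF m n)) = _
    have h1 : Nat.land w 15 = w % 16 := by
      show w &&& 15 = _
      exact Nat.and_two_pow_sub_one_eq_mod w 4
    have h2 : Nat.shiftRight w 4 = w / 16 := by
      show w >>> 4 = _
      rw [Nat.shiftRight_eq_div_pow]
    rw [seqB_eq, tb_eq, h1, h2]

/-- All letters of a word lie in the mask `m`. -/
noncomputable def wordIn (m w : ℕ) : Bool := wordInF m (nat_lit 4096) w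

theorem evF_transport {G : Type*} [Group G] {f f' : ℕ → G} {g : G} {m : ℕ}
    (h : ∀ d, m.testBit d = true → f d * g = g * f' d) (n w : ℕ) (hw : wordInF m n w = true) :
    evF f n w * g = g * evF f' n w := by
  induction n generalizing w with
  | zero => rw [evF_zero, evF_zero, one_mul, mul_one]
  | succ n ih =>
    rw [wordInF_succ] at hw
    rw [evF_succ, evF_succ]
    split_ifs with h0
    · rw [one_mul, mul_one]
    · rw [if_neg h0, Bool.and_eq_true] at hw
      rw [mul_assoc, ih _ hw.2, ← mul_assoc, h _ hw.1, mul_assoc]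

theorem ev_transport {G : Type*} [Group G] {f f' : ℕ → G} {g : G} {m : ℕ}
    (h : ∀ d, m.testBit d = true → f d * g = g * f' d) (w : ℕ) (hw : wordIn m w = true) :
    ev f w * g = g * ev f' w := evF_transport h _ w hw

/-- A word in the letters of the mask lies in every subgroup which contains these letters. -/
theorem evF_mem {G : Type*} [Group G] {f : ℕ → G} {K : Subgroup G} {m : ℕ}
    (h : ∀ d, m.testBit d = true → f d ∈ K) (n w : ℕ) (hw : wordInF m n w = true) : evF f n w ∈ K := by
  induction n generalizing w with
  | zero => rw [evF_zero]; exact K.one_mem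
  | succ n ih =>
    rw [wordInF_succ] at hw
    rw [evF_succ]
    split_ifs with h0
    · exact K.one_mem
    · rw [if_neg h0, Bool.and_eq_true] at hw
      exact K.mul_mem (h _ hw.1) (ih _ hw.2)

theorem ev_mem {G : Type*} [Group G] {f : ℕ → G} {K : Subgroup G} {m : ℕ}
    (h : ∀ d, m.testBit d = true → f d ∈ K) (w : ℕ) (hw : wordIn m w = true) : ev f w ∈ K :=
  evF_mem h _ w hw

/-! ### Systems -/

/-- The fact `H w_i a g_τ = H w_j b`. -/
structure Fact : Type where
  ty : ℕ
  i : ℕ
  a : ℕ
  j : ℕ
  b : ℕ

/-- A step of a path. -/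
inductive Step : Type
  | K (u : ℕ) : Step
  | U (n : ℕ) (dir : Bool) (s : List ℕ) (l : ℕ) : Step

/-- A syllable of a relation. -/
inductive Syl : Type
  | K (s u : ℕ) : Syl
  | G (τ : ℕ) (dir : Bool) : Syl

/-- The computable data. -/
structure Sys : Type where
  /-- action of the letter `d` of the sort `s` -/
  act : ℕ → ℕ → ℕ → ℕ
  /-- image of `1` -/
  base : ℕ
  /-- sort of a node -/
  srt : ℕ → ℕ
  /-- source sort of a type -/
  src : ℕ → ℕ
  /-- target sort of a type -/
  tgt : ℕ → ℕ
  /-- letters which may be transported -/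
  mask : ℕ → ℕ
  /-- types with trivial element -/
  silent : ℕ → Bool
  /-- type of a rule -/
  rty : ℕ → ℕ
  /-- syllables of a rule -/
  rsyl : ℕ → List Syl
  /-- the facts -/
  fact : ℕ → Fact

/-- Multiply the state by the stabiliser words with the given codes. -/
noncomputable def runS (S : Sys) (N i : ℕ) (cs : List ℕ) : ℕ → (ℕ → Bool) → Bool :=
  List.rec (motive := fun _ => ℕ → (ℕ → Bool) → Bool) (fun P k => k P)
    (fun c _ ih P k =>
      and (Nat.ble (Nat.succ (Nat.div c 2)) N) <|
      (fun f : Fact =>
        and (Nat.beq f.i i) <| and (Nat.beq f.j i) <| and (S.silent f.ty) <|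
        and (Nat.beq (S.src f.ty) (S.srt i)) <| and (Nat.beq (S.tgt f.ty) (S.srt i)) <|
        Bool.rec
          (and (Nat.beq f.b 0) (seqB (trace (S.act (S.srt i)) f.a P) fun Q => ih Q k))
          (and (Nat.beq f.a 0) (seqB (trace (S.act (S.srt i)) f.b P) fun Q => ih Q k))
          (Nat.beq (Nat.mod c 2) 1)) (S.fact (Nat.div c 2))) cs

/-- Follow a path from the state `(i, P)`. -/
noncomputable def run (S : Sys) (N : ℕ) (st : List Step) :
    ℕ → ℕ → List Syl → (ℕ → ℕ → Bool) → Bool :=
  List.rec (motive := fun _ => ℕ → ℕ → List Syl → (ℕ → ℕ → Bool) → Bool)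
    (fun i P sy k => List.rec (k i P) (fun _ _ _ => false) sy)
    (fun s _ ih i P sy k => Step.rec
      (fun u => List.rec false (fun y sy' _ => Syl.rec
        (fun s' u' => and (Nat.beq s' (S.srt i)) <| and (Nat.beq u' u) <|
          seqB (trace (S.act (S.srt i)) u P) fun Q => ih i Q sy' k)
        (fun _ _ => false) y) sy)
      (fun n dir cs l =>
        and (Nat.ble (Nat.succ n) N) <|
        (fun f : Fact =>
          and (Nat.beq (S.srt f.i) (S.src f.ty)) <| and (Nat.beq (S.srt f.j) (S.tgt f.ty)) <|
          and (wordIn (S.mask f.ty) l) <|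
          Bool.rec
            -- forward
            (and (Nat.beq i f.i) <|
              and (runS S N i cs S.base fun Q => Nat.beq (trace (S.act (S.srt i)) l
                (trace (S.act (S.srt i)) f.a Q)) P) <|
              seqB (trace (S.act (S.srt f.j)) l (trace (S.act (S.srt f.j)) f.b S.base)) fun Q =>
              Bool.rec
                (List.rec false (fun y sy' _ => Syl.rec (fun _ _ => false)
                  (fun τ d => and (Nat.beq τ f.ty) <| and (Bool.rec true false d) (ih f.j Q sy' k)) y) sy)
                (ih f.j Q sy k) (S.silent f.ty))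
            -- backward
            (and (Nat.beq i f.j) <|
              and (runS S N i cs S.base fun Q => Nat.beq (trace (S.act (S.srt i)) l
                (trace (S.act (S.srt i)) f.b Q)) P) <|
              seqB (trace (S.act (S.srt f.i)) l (trace (S.act (S.srt f.i)) f.a S.base)) fun Q =>
              Bool.rec
                (List.rec false (fun y sy' _ => Syl.rec (fun _ _ => false)
                  (fun τ d => and (Nat.beq τ f.ty) <| and d (ih f.i Q sy' k)) y) sy)
                (ih f.i Q sy k) (S.silent f.ty))
            dir) (S.fact n)) s) st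

/-- Check of the fact with number `N`: rule `r`, path `st`. -/
noncomputable def check (S : Sys) (N r : ℕ) (st : List Step) : Bool :=
  (fun f : Fact =>
    and (Nat.beq (S.rty r) f.ty) <|
    and (Nat.beq (S.srt f.i) (S.src f.ty)) <| and (Nat.beq (S.srt f.j) (S.tgt f.ty)) <|
    seqB (trace (S.act (S.srt f.i)) f.a S.base) fun P =>
      run S N st f.i P (S.rsyl r) fun j Q =>
        and (Nat.beq j f.j) (Nat.beq (trace (S.act (S.srt f.j)) f.b S.base) Q)) (S.fact N)

/-! ### Semantics -/

/-- A model of a system: groups and homomorphisms. -/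
structure Model (S : Sys) (P G : Type*) [Group P] [Group G] where
  gen : ℕ → ℕ → P
  img : P → ℕ
  act_img : ∀ s d x, S.act s d (img x) = img (x * gen s d)
  img_inj : Function.Injective img
  img_one : img 1 = S.base
  φ : ℕ → P →* G
  H : Subgroup G
  w : ℕ → G
  g : ℕ → G
  g_silent : ∀ τ, S.silent τ = true → g τ = 1
  transport : ∀ τ d, (S.mask τ).testBit d = true →
    φ (S.src τ) (gen (S.src τ) d) * g τ = g τ * φ (S.tgt τ) (gen (S.tgt τ) d)

namespace Model

variable {S : Sys} {P G : Type*} [Group P] [Group G] (M : Model S P G)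

/-- `x` and `y` lie in the same right coset. -/
def R (x y : G) : Prop := x * y⁻¹ ∈ M.H

theorem R_refl (x : G) : M.R x x := by unfold R; rw [mul_inv_cancel]; exact M.H.one_mem

variable {M} in
theorem R.symm {x y : G} (h : M.R x y) : M.R y x := by
  unfold R at *
  have := M.H.inv_mem h
  rwa [mul_inv_rev, inv_inv] at this

variable {M} in
theorem R.trans {x y z : G} (h : M.R x y) (h' : M.R y z) : M.R x z := by
  unfold R at *
  have := M.H.mul_mem h h'
  rwa [mul_assoc, inv_mul_cancel_left] at this

variable {M} in
theorem R.mul {x y : G} (h : M.R x y) (z : G) : M.R (x * z) (y * z) := by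
  unfold R at *
  rwa [mul_inv_rev, mul_assoc, mul_inv_cancel_left]

/-- Value of a word in the sort `s`. -/
noncomputable def ev (s u : ℕ) : P := Script.ev (M.gen s) u

/-- Meaning of a fact. -/
def Holds (f : Fact) : Prop :=
  M.R (M.w f.i * M.φ (S.src f.ty) (M.ev (S.src f.ty) f.a) * M.g f.ty)
    (M.w f.j * M.φ (S.tgt f.ty) (M.ev (S.tgt f.ty) f.b))

/-- Value of a syllable. -/
noncomputable def syl : Syl → G
  | .K s u => M.φ s (M.ev s u)
  | .G τ dir => if dir then (M.g τ)⁻¹ else M.g τ

/-- Value of a list of syllables. -/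
noncomputable def syls (l : List Syl) : G := (l.map M.syl).prod

theorem syls_nil : M.syls [] = 1 := rfl
theorem syls_cons (y : Syl) (l : List Syl) : M.syls (y :: l) = M.syl y * M.syls l := by
  unfold syls; rw [List.map_cons, List.prod_cons]

theorem trace_img (s u : ℕ) (x : P) : trace (S.act s) u (M.img x) = M.img (x * M.ev s u) :=
  Script.trace_img (M.act_img s) u x

theorem trace_base (s u : ℕ) : trace (S.act s) u S.base = M.img (M.ev s u) := by
  rw [← M.img_one, M.trace_img, one_mul]

/-- `x` stabilises the node `i`. -/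
def Stab (i : ℕ) (x : P) : Prop := M.R (M.w i * M.φ (S.srt i) x) (M.w i)

theorem stab_one (i : ℕ) : M.Stab i 1 := by
  unfold Stab; rw [map_one, mul_one]; exact M.R_refl _

variable {M} in
theorem Stab.mul {i : ℕ} {x y : P} (hx : M.Stab i x) (hy : M.Stab i y) : M.Stab i (x * y) := by
  unfold Stab at *
  rw [map_mul, ← mul_assoc]
  exact (hx.mul _).trans hy

variable {M} in
/-- Soundness of `runS`. -/
theorem runS_sound {N i : ℕ} (hN : ∀ n < N, M.Holds (S.fact n)) (cs : List ℕ) :
    ∀ (x : P) (k : ℕ → Bool), M.Stab i x → runS S N i cs (M.img x) k = true →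
      ∃ y, M.Stab i y ∧ k (M.img y) = true := by
  induction cs with
  | nil => intro x k hx h; exact ⟨x, hx, h⟩
  | cons c cs ih =>
    intro x k hx h
    have h' : (Nat.ble (Nat.succ (c / 2)) N &&
      (Nat.beq (S.fact (c / 2)).i i && (Nat.beq (S.fact (c / 2)).j i && (S.silent (S.fact (c / 2)).ty &&
        (Nat.beq (S.src (S.fact (c / 2)).ty) (S.srt i) && (Nat.beq (S.tgt (S.fact (c / 2)).ty) (S.srt i) &&
        Bool.rec
          (Nat.beq (S.fact (c / 2)).b 0 &&
            seqB (trace (S.act (S.srt i)) (S.fact (c / 2)).a (M.img x)) fun Q => runS S N i cs Q k)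
          (Nat.beq (S.fact (c / 2)).a 0 &&
            seqB (trace (S.act (S.srt i)) (S.fact (c / 2)).b (M.img x)) fun Q => runS S N i cs Q k)
          (Nat.beq (Nat.mod c 2) 1))))))) = true := h
    simp only [Bool.and_eq_true] at h'
    obtain ⟨h1, h2, h3, h4, h5, h6, h7⟩ := h'
    have h1 := Nat.le_of_ble_eq_true h1
    have h2 := Nat.eq_of_beq_eq_true h2
    have h3 := Nat.eq_of_beq_eq_true h3
    have h5 := Nat.eq_of_beq_eq_true h5
    have h6 := Nat.eq_of_beq_eq_true h6
    have hf := hN (c / 2) h1
    unfold Holds at hf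
    rw [M.g_silent _ h4, h5, h6, h2, h3, mul_one] at hf
    cases hc : Nat.beq (Nat.mod c 2) 1 with
    | false =>
      rw [hc] at h7
      have h7' : (Nat.beq (S.fact (c / 2)).b 0 &&
            seqB (trace (S.act (S.srt i)) (S.fact (c / 2)).a (M.img x)) fun Q => runS S N i cs Q k) = true := h7
      rw [Bool.and_eq_true, seqB_eq, M.trace_img] at h7'
      have h8 := Nat.eq_of_beq_eq_true h7'.1
      rw [h8] at hf
      have h9 : M.ev (S.srt i) 0 = 1 := ev_zero _
      rw [h9, map_one, mul_one] at hf
      exact ih _ k (hx.mul hf) h7'.2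
    | true =>
      rw [hc] at h7
      have h7' : (Nat.beq (S.fact (c / 2)).a 0 &&
            seqB (trace (S.act (S.srt i)) (S.fact (c / 2)).b (M.img x)) fun Q => runS S N i cs Q k) = true := h7
      rw [Bool.and_eq_true, seqB_eq, M.trace_img] at h7'
      have h8 := Nat.eq_of_beq_eq_true h7'.1
      rw [h8] at hf
      have h9 : M.ev (S.srt i) 0 = 1 := ev_zero _
      rw [h9, map_one, mul_one] at hf
      exact ih _ k (hx.mul hf.symm) h7'.2

/-- `y` lies in the coset described by the state `(i, P)`. -/
def At (y : G) (i Q : ℕ) : Prop := ∃ x : P, M.img x = Q ∧ M.R y (M.w i * M.φ (S.srt i) x)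

variable {M} in
/-- One use of a fact, forwards. -/
theorem use_fwd {N i n l : ℕ} (hN : ∀ n < N, M.Holds (S.fact n)) (hn : n < N) {cs : List ℕ} {y : G} {Q : ℕ}
    (hy : M.At y i Q) (h1 : S.srt (S.fact n).i = S.src (S.fact n).ty)
    (h2 : S.srt (S.fact n).j = S.tgt (S.fact n).ty) (hl : wordIn (S.mask (S.fact n).ty) l = true)
    (hi : i = (S.fact n).i)
    (hs : runS S N i cs S.base (fun Q' => Nat.beq (trace (S.act (S.srt i)) l
      (trace (S.act (S.srt i)) (S.fact n).a Q')) Q) = true) :
    M.At (y * M.g (S.fact n).ty) (S.fact n).j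
      (trace (S.act (S.srt (S.fact n).j)) l (trace (S.act (S.srt (S.fact n).j)) (S.fact n).b S.base)) := by
  obtain ⟨x, hx, hR⟩ := hy
  rw [← M.img_one] at hs
  obtain ⟨s, hs1, hs2⟩ := runS_sound hN cs 1 _ (M.stab_one i) hs
  have hs3 := Nat.eq_of_beq_eq_true hs2
  rw [M.trace_img, M.trace_img, ← hx] at hs3
  have hx' := M.img_inj hs3
  have hf := hN n hn
  unfold Holds at hf
  refine ⟨M.ev (S.srt (S.fact n).j) (S.fact n).b * M.ev (S.srt (S.fact n).j) l, ?_, ?_⟩
  · rw [M.trace_base, M.trace_img]
  · rw [← hx', map_mul, map_mul] at hR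
    have e1 : M.R (y * M.g (S.fact n).ty)
        (M.w i * (M.φ (S.srt i) s * M.φ (S.srt i) (M.ev (S.srt i) (S.fact n).a) *
          M.φ (S.srt i) (M.ev (S.srt i) l)) * M.g (S.fact n).ty) := hR.mul _
    refine e1.trans ?_
    have e2 : M.φ (S.srt i) (M.ev (S.srt i) l) * M.g (S.fact n).ty =
        M.g (S.fact n).ty * M.φ (S.tgt (S.fact n).ty) (M.ev (S.tgt (S.fact n).ty) l) := by
      unfold Model.ev
      rw [map_ev, map_ev, hi, h1]
      exact ev_transport (M.transport _) l hl
    rw [map_mul, h2]
    have e3 : M.w i * (M.φ (S.srt i) s * M.φ (S.srt i) (M.ev (S.srt i) (S.fact n).a) *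
          M.φ (S.srt i) (M.ev (S.srt i) l)) * M.g (S.fact n).ty =
        (M.w i * M.φ (S.srt i) s) * (M.φ (S.srt i) (M.ev (S.srt i) (S.fact n).a) * M.g (S.fact n).ty *
          M.φ (S.tgt (S.fact n).ty) (M.ev (S.tgt (S.fact n).ty) l)) := by
      rw [mul_assoc (M.φ (S.srt i) (M.ev (S.srt i) (S.fact n).a)), ← e2]
      simp only [mul_assoc]
    rw [e3]
    refine (R.mul (x := M.w i * M.φ (S.srt i) s) (y := M.w i) hs1 _).trans ?_
    rw [← hi, ← h1, ← hi] at hf
    have e4 := hf.mul (M.φ (S.tgt (S.fact n).ty) (M.ev (S.tgt (S.fact n).ty) l))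
    simpa only [mul_assoc] using e4

variable {M} in
/-- One use of a fact, backwards. -/
theorem use_bwd {N i n l : ℕ} (hN : ∀ n < N, M.Holds (S.fact n)) (hn : n < N) {cs : List ℕ} {y : G} {Q : ℕ}
    (hy : M.At y i Q) (h1 : S.srt (S.fact n).i = S.src (S.fact n).ty)
    (h2 : S.srt (S.fact n).j = S.tgt (S.fact n).ty) (hl : wordIn (S.mask (S.fact n).ty) l = true)
    (hi : i = (S.fact n).j)
    (hs : runS S N i cs S.base (fun Q' => Nat.beq (trace (S.act (S.srt i)) l
      (trace (S.act (S.srt i)) (S.fact n).b Q')) Q) = true) :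
    M.At (y * (M.g (S.fact n).ty)⁻¹) (S.fact n).i
      (trace (S.act (S.srt (S.fact n).i)) l (trace (S.act (S.srt (S.fact n).i)) (S.fact n).a S.base)) := by
  obtain ⟨x, hx, hR⟩ := hy
  rw [← M.img_one] at hs
  obtain ⟨s, hs1, hs2⟩ := runS_sound hN cs 1 _ (M.stab_one i) hs
  have hs3 := Nat.eq_of_beq_eq_true hs2
  rw [M.trace_img, M.trace_img, ← hx] at hs3
  have hx' := M.img_inj hs3
  have hf := hN n hn
  unfold Holds at hf
  refine ⟨M.ev (S.srt (S.fact n).i) (S.fact n).a * M.ev (S.srt (S.fact n).i) l, ?_, ?_⟩
  · rw [M.trace_base, M.trace_img]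
  · rw [← hx', map_mul, map_mul] at hR
    have e1 : M.R (y * (M.g (S.fact n).ty)⁻¹)
        (M.w i * (M.φ (S.srt i) s * M.φ (S.srt i) (M.ev (S.srt i) (S.fact n).b) *
          M.φ (S.srt i) (M.ev (S.srt i) l)) * (M.g (S.fact n).ty)⁻¹) := hR.mul _
    refine e1.trans ?_
    have e2 : M.φ (S.srt i) (M.ev (S.srt i) l) * (M.g (S.fact n).ty)⁻¹ =
        (M.g (S.fact n).ty)⁻¹ * M.φ (S.src (S.fact n).ty) (M.ev (S.src (S.fact n).ty) l) := by
      have := ev_transport (M.transport (S.fact n).ty) l hl
      unfold Model.ev
      rw [map_ev, map_ev, hi, h2, eq_inv_mul_iff_mul_eq, ← mul_assoc, ← this, mul_assoc, mul_inv_cancel, mul_one]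
    rw [map_mul, h1]
    have e3 : M.w i * (M.φ (S.srt i) s * M.φ (S.srt i) (M.ev (S.srt i) (S.fact n).b) *
          M.φ (S.srt i) (M.ev (S.srt i) l)) * (M.g (S.fact n).ty)⁻¹ =
        (M.w i * M.φ (S.srt i) s) * (M.φ (S.srt i) (M.ev (S.srt i) (S.fact n).b) * (M.g (S.fact n).ty)⁻¹ *
          M.φ (S.src (S.fact n).ty) (M.ev (S.src (S.fact n).ty) l)) := by
      rw [mul_assoc (M.φ (S.srt i) (M.ev (S.srt i) (S.fact n).b)), ← e2]
      simp only [mul_assoc]
    rw [e3]
    refine (R.mul (x := M.w i * M.φ (S.srt i) s) (y := M.w i) hs1 _).trans ?_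
    rw [← h2, ← hi] at hf
    have e4 := hf.symm.mul ((M.g (S.fact n).ty)⁻¹ * M.φ (S.src (S.fact n).ty) (M.ev (S.src (S.fact n).ty) l))
    have e5 : M.w (S.fact n).i * M.φ (S.src (S.fact n).ty) (M.ev (S.src (S.fact n).ty) (S.fact n).a) *
        M.g (S.fact n).ty * ((M.g (S.fact n).ty)⁻¹ * M.φ (S.src (S.fact n).ty) (M.ev (S.src (S.fact n).ty) l)) =
        M.w (S.fact n).i * (M.φ (S.src (S.fact n).ty) (M.ev (S.src (S.fact n).ty) (S.fact n).a) *
          M.φ (S.src (S.fact n).ty) (M.ev (S.src (S.fact n).ty) l)) := by group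
    rw [e5] at e4
    simpa only [mul_assoc] using e4

variable {M} in
/-- Soundness of `run`. -/
theorem run_sound {N : ℕ} (hN : ∀ n < N, M.Holds (S.fact n)) (st : List Step) :
    ∀ (y : G) (i Q : ℕ) (sy : List Syl) (k : ℕ → ℕ → Bool), M.At y i Q → run S N st i Q sy k = true →
      ∃ j Q', M.At (y * M.syls sy) j Q' ∧ k j Q' = true := by
  induction st with
  | nil =>
    intro y i Q sy k hy h
    cases sy with
    | nil => exact ⟨i, Q, by rw [M.syls_nil, mul_one]; exact hy, h⟩
    | cons a sy => exact absurd (show false = true from h) (by simp)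
  | cons s st ih =>
    intro y i Q sy k hy h
    cases s with
    | K u =>
      cases sy with
      | nil => exact absurd (show false = true from h) (by simp)
      | cons a sy =>
        cases a with
        | G τ d => exact absurd (show false = true from h) (by simp)
        | K s' u' =>
          have h' : (Nat.beq s' (S.srt i) && (Nat.beq u' u &&
            seqB (trace (S.act (S.srt i)) u Q) fun Q' => run S N st i Q' sy k)) = true := h
          rw [Bool.and_eq_true, Bool.and_eq_true, seqB_eq] at h'
          obtain ⟨h1, h2, h3⟩ := h'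
          have h1 := Nat.eq_of_beq_eq_true h1
          have h2 := Nat.eq_of_beq_eq_true h2
          obtain ⟨x, hx, hR⟩ := hy
          rw [← hx, M.trace_img] at h3
          obtain ⟨j, Q', h4, h5⟩ := ih (y * M.φ (S.srt i) (M.ev (S.srt i) u)) i _ sy k
            ⟨x * M.ev (S.srt i) u, rfl, by
              rw [map_mul, ← mul_assoc]; exact hR.mul _⟩ h3
          refine ⟨j, Q', ?_, h5⟩
          rw [M.syls_cons]
          show M.At (y * (M.φ s' (M.ev s' u') * M.syls sy)) j Q'
          rw [h1, h2, ← mul_assoc]
          exact h4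
    | U n dir cs l =>
      cases dir with
      | false =>
        have h' : (Nat.ble (Nat.succ n) N && (Nat.beq (S.srt (S.fact n).i) (S.src (S.fact n).ty) &&
          (Nat.beq (S.srt (S.fact n).j) (S.tgt (S.fact n).ty) && (wordIn (S.mask (S.fact n).ty) l &&
          (Nat.beq i (S.fact n).i && (runS S N i cs S.base (fun Q' => Nat.beq (trace (S.act (S.srt i)) l
                (trace (S.act (S.srt i)) (S.fact n).a Q')) Q) &&
              seqB (trace (S.act (S.srt (S.fact n).j)) l (trace (S.act (S.srt (S.fact n).j)) (S.fact n).b S.base))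
              fun Q' => Bool.rec
                (List.rec false (fun y sy' _ => Syl.rec (fun _ _ => false)
                  (fun τ d => (Nat.beq τ (S.fact n).ty) &&
                    ((Bool.rec true false d) && (run S N st (S.fact n).j Q' sy' k))) y) sy)
                (run S N st (S.fact n).j Q' sy k) (S.silent (S.fact n).ty))))))) = true := h
        simp only [Bool.and_eq_true] at h'
        obtain ⟨h1, h2, h3, h4, h5, h6, h7⟩ := h'
        rw [seqB_eq] at h7
        have h1 := Nat.le_of_ble_eq_true h1
        have hat := use_fwd hN h1 hy (Nat.eq_of_beq_eq_true h2) (Nat.eq_of_beq_eq_true h3) h4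
          (Nat.eq_of_beq_eq_true h5) h6
        cases hsil : S.silent (S.fact n).ty with
        | true =>
          rw [hsil] at h7
          rw [M.g_silent _ hsil, mul_one] at hat
          exact ih _ _ _ sy k hat h7
        | false =>
          rw [hsil] at h7
          cases sy with
          | nil => exact absurd (show false = true from h7) (by simp)
          | cons a sy =>
            cases a with
            | K s' u' => exact absurd (show false = true from h7) (by simp)
            | G τ d =>
              cases d with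
              | true =>
                have h8 : (Nat.beq τ (S.fact n).ty && (false && _)) = true := h7
                exact absurd h8 (by simp)
              | false =>
                have h8 : (Nat.beq τ (S.fact n).ty && (true &&
                  run S N st (S.fact n).j (trace (S.act (S.srt (S.fact n).j)) l
                    (trace (S.act (S.srt (S.fact n).j)) (S.fact n).b S.base)) sy k)) = true := h7
                rw [Bool.and_eq_true, Bool.true_and] at h8
                obtain ⟨j, Q', h9, h10⟩ := ih _ _ _ sy k hat h8.2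
                refine ⟨j, Q', ?_, h10⟩
                rw [M.syls_cons]
                show M.At (y * ((if false = true then (M.g τ)⁻¹ else M.g τ) * M.syls sy)) j Q'
                rw [Nat.eq_of_beq_eq_true h8.1, if_neg (by simp), ← mul_assoc]
                exact h9
      | true =>
        have h' : (Nat.ble (Nat.succ n) N && (Nat.beq (S.srt (S.fact n).i) (S.src (S.fact n).ty) &&
          (Nat.beq (S.srt (S.fact n).j) (S.tgt (S.fact n).ty) && (wordIn (S.mask (S.fact n).ty) l &&
          (Nat.beq i (S.fact n).j && (runS S N i cs S.base (fun Q' => Nat.beq (trace (S.act (S.srt i)) l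
                (trace (S.act (S.srt i)) (S.fact n).b Q')) Q) &&
              seqB (trace (S.act (S.srt (S.fact n).i)) l (trace (S.act (S.srt (S.fact n).i)) (S.fact n).a S.base))
              fun Q' => Bool.rec
                (List.rec false (fun y sy' _ => Syl.rec (fun _ _ => false)
                  (fun τ d => (Nat.beq τ (S.fact n).ty) &&
                    (d && (run S N st (S.fact n).i Q' sy' k))) y) sy)
                (run S N st (S.fact n).i Q' sy k) (S.silent (S.fact n).ty))))))) = true := h
        simp only [Bool.and_eq_true] at h'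
        obtain ⟨h1, h2, h3, h4, h5, h6, h7⟩ := h'
        rw [seqB_eq] at h7
        have h1 := Nat.le_of_ble_eq_true h1
        have hat := use_bwd hN h1 hy (Nat.eq_of_beq_eq_true h2) (Nat.eq_of_beq_eq_true h3) h4
          (Nat.eq_of_beq_eq_true h5) h6
        cases hsil : S.silent (S.fact n).ty with
        | true =>
          rw [hsil] at h7
          rw [M.g_silent _ hsil, inv_one, mul_one] at hat
          exact ih _ _ _ sy k hat h7
        | false =>
          rw [hsil] at h7
          cases sy with
          | nil => exact absurd (show false = true from h7) (by simp)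
          | cons a sy =>
            cases a with
            | K s' u' => exact absurd (show false = true from h7) (by simp)
            | G τ d =>
              cases d with
              | false =>
                have h8 : (Nat.beq τ (S.fact n).ty && (false && _)) = true := h7
                exact absurd h8 (by simp)
              | true =>
                have h8 : (Nat.beq τ (S.fact n).ty && (true &&
                  run S N st (S.fact n).i (trace (S.act (S.srt (S.fact n).i)) l
                    (trace (S.act (S.srt (S.fact n).i)) (S.fact n).a S.base)) sy k)) = true := h7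
                rw [Bool.and_eq_true, Bool.true_and] at h8
                obtain ⟨j, Q', h9, h10⟩ := ih _ _ _ sy k hat h8.2
                refine ⟨j, Q', ?_, h10⟩
                rw [M.syls_cons]
                show M.At (y * ((if true = true then (M.g τ)⁻¹ else M.g τ) * M.syls sy)) j Q'
                rw [Nat.eq_of_beq_eq_true h8.1, if_pos rfl, ← mul_assoc]
                exact h9

variable {M} in
/-- Soundness of `check`. -/
theorem check_sound {N r : ℕ} {st : List Step} (hN : ∀ n < N, M.Holds (S.fact n))
    (hr : M.syls (S.rsyl r) = M.g (S.rty r)) (h : check S N r st = true) : M.Holds (S.fact N) := by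
  have h' : (Nat.beq (S.rty r) (S.fact N).ty && (Nat.beq (S.srt (S.fact N).i) (S.src (S.fact N).ty) &&
    (Nat.beq (S.srt (S.fact N).j) (S.tgt (S.fact N).ty) &&
    seqB (trace (S.act (S.srt (S.fact N).i)) (S.fact N).a S.base) fun P =>
      run S N st (S.fact N).i P (S.rsyl r) fun j Q =>
        (Nat.beq j (S.fact N).j &&
          (Nat.beq (trace (S.act (S.srt (S.fact N).j)) (S.fact N).b S.base) Q))))) = true := h
  simp only [Bool.and_eq_true, seqB_eq] at h'
  obtain ⟨h1, h2, h3, h4⟩ := h'
  have h1 := Nat.eq_of_beq_eq_true h1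
  have h2 := Nat.eq_of_beq_eq_true h2
  have h3 := Nat.eq_of_beq_eq_true h3
  rw [M.trace_base] at h4
  obtain ⟨j, Q, ⟨x, hx, hR⟩, h6⟩ := run_sound hN st
    (M.w (S.fact N).i * M.φ (S.srt (S.fact N).i) (M.ev (S.srt (S.fact N).i) (S.fact N).a)) _ _ _ _
    ⟨_, rfl, M.R_refl _⟩ h4
  rw [Bool.and_eq_true] at h6
  have h7 := Nat.eq_of_beq_eq_true h6.1
  have h8 := Nat.eq_of_beq_eq_true h6.2
  rw [M.trace_base, ← hx] at h8
  have h9 := M.img_inj h8
  unfold Holds
  rw [← h2, ← h3, ← h1, ← hr, h9, ← h7]
  exact hR

/-- All facts hold, if each of them is given or checked from earlier ones. -/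
theorem all_hold (M : Model S P G) (m : ℕ)
    (h : ∀ n < m, M.Holds (S.fact n) ∨
      ∃ r st, M.syls (S.rsyl r) = M.g (S.rty r) ∧ check S n r st = true) :
    ∀ n < m, M.Holds (S.fact n) := by
  intro n
  induction n using Nat.strong_induction_on with
  | _ n ih =>
    intro hn
    rcases h n hn with h1 | ⟨r, st, hr, h1⟩
    · exact h1
    · exact check_sound (fun k hk => ih k hk (by omega)) hr h1

end Model

end Cfsg.Agent.BM.Script
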