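import Cfsg.Agent.Fischer.Fi22Order
import Cfsg.Agent.BM.Script

/-!
# Stage A without the node `t1`: the interface (helper924)

`s : Fin 10 → G`, `s k = t(k+2)`, the nodes of `Y₃₃₃` (centre `s 3`, arms `s 2 s 1 s 0`, `s 4 s 5 s 6`, `s 7 s 8 s 9`).
`RelA s`: `⟨s 0, …, s 8⟩` and `⟨s 1, …, s 9⟩` are images of `Fi22`, and `s 0` commutes with `s 9`.
The double coset enumeration of stage A of S1704 (`CertA`) then shows `|G| ≤ |Fi22| · 1185415168` for `G = ⟨s⟩`.
-/

set_option autoImplicit false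
set_option linter.constructorNameAsVariable false

namespace Cfsg.Agent.BM.StA

open Cfsg.Spor Cfsg.Spor.Fi22

/-- `a b c d e f g h i ↦ t8 t7 t6 t5 t4 t3 t2 t9 t10` -/
def m0 : Fi22.Gen → Fin 10
  | .g => 0
  | .f => 1
  | .e => 2
  | .d => 3
  | .c => 4
  | .b => 5
  | .a => 6
  | .h => 7
  | .i => 8

/-- `a b c d e f g h i ↦ t8 t7 t6 t5 t9 t10 t11 t4 t3` -/
def m1 : Fi22.Gen → Fin 10
  | .a => 6
  | .b => 5
  | .c => 4
  | .d => 3
  | .e => 7
  | .f => 8
  | .g => 9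
  | .h => 2
  | .i => 1

/-- The generators of the presented group. -/
abbrev gen (x : Fi22.Gen) : Spor.Fi22 := Cfsg.Agent.Fischer.Fi22PtsRep.gen x

/-- What stage A needs. -/
structure RelA {G : Type*} [Group G] (s : Fin 10 → G) where
  /-- the homomorphism onto `⟨s 0, …, s 8⟩` -/
  f0 : Spor.Fi22 →* G
  f0_gen : ∀ g, f0 (gen g) = s (m0 g)
  /-- the homomorphism onto `⟨s 1, …, s 9⟩` -/
  f1 : Spor.Fi22 →* G
  f1_gen : ∀ g, f1 (gen g) = s (m1 g)
  comm : s 0 * s 9 = s 9 * s 0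

/-- Letters of sort 0: the digits `2, …, a` are `t2, …, t10` = `g f e d c b a h i`. -/
noncomputable def lt22 (d : ℕ) : Gen :=
  Bool.rec
    (Bool.rec (Bool.rec (Bool.rec .i .h (Nat.ble d 9)) .a (Nat.ble d 8)) (Bool.rec .b .c (Nat.ble d 6)) (Nat.ble d 7))
    (Bool.rec (Bool.rec (Bool.rec .d .e (Nat.ble d 4)) .f (Nat.ble d 3)) .g (Nat.ble d 2))
    (Nat.ble d 5)

/-- The element of a letter of sort 0. -/
noncomputable def g22 (d : ℕ) : Spor.Fi22 := gen (lt22 d)

/-- The value of a word in the letters of sort 0. -/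
noncomputable def E22 (u : ℕ) : Spor.Fi22 := Script.ev g22 u

/-- The subgroup generated by the letters of a mask. -/
def gp22 (m : ℕ) : Subgroup Spor.Fi22 := Subgroup.closure {y | ∃ d, m.testBit d = true ∧ g22 d = y}

/-- The mask of the letters `3, …, a`. -/
noncomputable def mO : ℕ := nat_lit 2040

theorem lt22_2 : lt22 2 = .g := by rfl
theorem lt22_3 : lt22 3 = .f := by rfl
theorem lt22_4 : lt22 4 = .e := by rfl
theorem lt22_5 : lt22 5 = .d := by rfl
theorem lt22_6 : lt22 6 = .c := by rfl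
theorem lt22_7 : lt22 7 = .b := by rfl
theorem lt22_8 : lt22 8 = .a := by rfl
theorem lt22_9 : lt22 9 = .h := by rfl
theorem lt22_10 : lt22 10 = .i := by rfl

section

variable {G : Type*} [Group G] {s : Fin 10 → G}

theorem RelA.sq0 (h : RelA s) : s 0 * s 0 = 1 := by
  have h1 := h.f0_gen .g
  have h2 : s 0 = h.f0 (gen .g) := h1.symm
  rw [h2, ← map_mul, Cfsg.Agent.Fischer.Fi22PtsRep.gen_sq, map_one]

theorem RelA.sq9 (h : RelA s) : s 9 * s 9 = 1 := by
  have h1 := h.f1_gen .g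
  have h2 : s 9 = h.f1 (gen .g) := h1.symm
  rw [h2, ← map_mul, Cfsg.Agent.Fischer.Fi22PtsRep.gen_sq, map_one]

end

end Cfsg.Agent.BM.StA
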