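import Cfsg.Agent.BM.PairOracle
import Cfsg.Agent.BM.RelA

/-!
A word oracle for the group `Fi22 × Fi22`: sort 0 has the letters `2, …, a` = `t2, …, t10`, sort 1 the letters
`3, …, b` = `t3, …, t11` (`PairOracle`). Both factors act on 3510 points.
-/

set_option autoImplicit false
set_option maxRecDepth 100000

namespace Cfsg.Agent.BM.PairOracle22

open Cfsg.Agent.Lib.PermNet Cfsg.Agent.BM.Tab Cfsg.Agent.BM.PermOracle
open Cfsg.Spor Cfsg.Agent.BM.PairOracle Cfsg.Agent.BM.StA

/-- The action of a letter of sort 0. -/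
noncomputable def actA (d P : ℕ) : ℕ := lanes (Tr.get (TabChk22.tabG (lt22 d)) 2048) 5 P

theorem actA_img (d : ℕ) (x : Fi22) : actA d (img Cfsg.Agent.Fischer.Fi22PtsRep.φ OracleFi22.base x) =
    img Cfsg.Agent.Fischer.Fi22PtsRep.φ OracleFi22.base (x * g22 d) :=
  lanes_img Cfsg.Agent.Fischer.Fi22PtsRep.φ OracleFi22.base (N := 3510) (by norm_num)
    (fun x _ hp => Cfsg.Agent.Fischer.Fi22Order.φ_lt x hp) OracleFi22.base_lt _ (g22 d)
    (fun p hp => OracleFi22.tab_spec (lt22 d) p hp) x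

/-- The action on pairs. -/
noncomputable def act (s d P : ℕ) : ℕ :=
  Bool.rec
    (Nat.lor (Nat.land P (nat_lit 1208925819614629174706175))
      (Nat.shiftLeft (actB d (Nat.shiftRight P 80)) 80))
    (Nat.lor (actA d (Nat.land P (nat_lit 1208925819614629174706175)))
      (Nat.shiftLeft (Nat.shiftRight P 80) 80))
    (Nat.beq s 0)

/-- Generators. -/
noncomputable def pgen (s d : ℕ) : Fi22 × Fi22 := if s = 0 then (g22 d, 1) else (1, bgen d)

/-- Images. -/
noncomputable def pimg (x : Fi22 × Fi22) : ℕ :=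
  pair (img Cfsg.Agent.Fischer.Fi22PtsRep.φ OracleFi22.base x.1)
    (img Cfsg.Agent.Fischer.Fi22PtsRep.φ OracleFi22.base x.2)

theorem img22_lt (x : Fi22) : img Cfsg.Agent.Fischer.Fi22PtsRep.φ OracleFi22.base x < 2 ^ 80 := by
  refine lt_of_lt_of_eq (pk_lt _ ?_) ?_
  · intro a ha
    obtain ⟨b, hb', rfl⟩ := List.mem_map.1 ha
    have := Cfsg.Agent.Fischer.Fi22Order.φ_lt x⁻¹ (OracleFi22.base_lt b hb')
    show Cfsg.Agent.Fischer.Fi22PtsRep.φ x⁻¹ b < 2 ^ 16
    omega
  · rw [List.length_map]; rfl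

theorem land_pimg (x : Fi22 × Fi22) : Nat.land (pimg x) (nat_lit 1208925819614629174706175) =
    img Cfsg.Agent.Fischer.Fi22PtsRep.φ OracleFi22.base x.1 := by
  have h := pair_land (b := img Cfsg.Agent.Fischer.Fi22PtsRep.φ OracleFi22.base x.2) (img22_lt x.1)
  have hm : (2 ^ 80 - 1 : ℕ) = nat_lit 1208925819614629174706175 := by norm_num
  rw [hm] at h
  exact h

theorem shift_pimg (x : Fi22 × Fi22) : Nat.shiftRight (pimg x) 80 =
    img Cfsg.Agent.Fischer.Fi22PtsRep.φ OracleFi22.base x.2 :=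
  pair_shift (b := img Cfsg.Agent.Fischer.Fi22PtsRep.φ OracleFi22.base x.2) (img22_lt x.1)

theorem act_img (s d : ℕ) (x : Fi22 × Fi22) : act s d (pimg x) = pimg (x * pgen s d) := by
  unfold pgen act
  rw [land_pimg, shift_pimg, actA_img, actB_img]
  by_cases hs : s = 0
  · subst hs
    rw [if_pos rfl]
    show pair _ _ = _
    unfold pimg
    simp
  · rw [if_neg hs, show Nat.beq s 0 = false by
      rw [← Bool.not_eq_true]; exact fun h' => hs (Nat.eq_of_beq_eq_true h')]
    show pair _ _ = _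
    unfold pimg
    simp

theorem pimg_injective : Function.Injective pimg := by
  intro x y h
  unfold pimg at h
  have h1 := pair_land (b := img Cfsg.Agent.Fischer.Fi22PtsRep.φ OracleFi22.base x.2) (img22_lt x.1)
  have h2 := pair_land (b := img Cfsg.Agent.Fischer.Fi22PtsRep.φ OracleFi22.base y.2) (img22_lt y.1)
  have h3 := pair_shift (b := img Cfsg.Agent.Fischer.Fi22PtsRep.φ OracleFi22.base x.2) (img22_lt x.1)
  have h4 := pair_shift (b := img Cfsg.Agent.Fischer.Fi22PtsRep.φ OracleFi22.base y.2) (img22_lt y.1)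
  rw [h, h2] at h1
  rw [h, h4] at h3
  exact Prod.ext (OracleFi22.img_injective h1.symm) (OracleFi22.img_injective h3.symm)

/-- The packed base. -/
noncomputable def pbase : ℕ := nat_lit 0x96b0b520ae800020000096b0b520ae800020000

theorem pimg_one : pimg 1 = pbase := by
  unfold pimg
  rw [Prod.fst_one, Prod.snd_one, OracleFi22.img_base]
  unfold pair
  decide +kernel

end Cfsg.Agent.BM.PairOracle22
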