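import Cfsg.Agent.BM.CertAChk
import Cfsg.Agent.BM.PairOracle22

/-!
Kernel checks of the scripts of stage A (`CertAChk`) over the word oracle of `Fi22 × Fi22`.
-/

set_option autoImplicit false
set_option maxRecDepth 100000

namespace Cfsg.Agent.BM.CertA22

open Cfsg.Agent.BM.Script Cfsg.Agent.BM.CertA

/-- The system `CertA.sys` over `Fi22 × Fi22`. -/
noncomputable def sys22 : Sys where
  act := PairOracle22.act
  base := PairOracle22.pbase
  srt i := Bool.rec 1 0 (Nat.ble i 7)
  src τ := Bool.rec 0 1 (Nat.beq (Nat.land τ 1) 1)
  tgt τ := Bool.rec (Bool.rec 1 0 (Nat.beq τ 3)) τ (Nat.ble τ 1)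
  mask τ := Bool.rec 0x7f8 (Bool.rec 0xff8 0x7fe (Nat.beq τ 0)) (Nat.ble τ 1)
  silent _ := true
  rty r := Nat.land r 3
  rsyl r := Bool.rec
    (Bool.rec [.K 1 0xb, .K 0 0x2, .K 1 0xb, .K 0 0x2] [.K 0 0x2, .K 1 0xb, .K 0 0x2, .K 1 0xb]
      (Nat.ble (Nat.land (Nat.sub r 1) 3) 1)) [] (Nat.ble r 3)
  fact n := tr.get n

theorem chk0 : chkItems sys22 items0 = true := by decide +kernel
theorem chk1 : chkItems sys22 items1 = true := by decide +kernel
theorem chk2 : chkItems sys22 items2 = true := by decide +kernel
theorem chk3 : chkItems sys22 items3 = true := by decide +kernel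
theorem chk4 : chkItems sys22 items4 = true := by decide +kernel
theorem chk5 : chkItems sys22 items5 = true := by decide +kernel
theorem chk6 : chkItems sys22 items6 = true := by decide +kernel
theorem chk7 : chkItems sys22 items7 = true := by decide +kernel
theorem chk8 : chkItems sys22 items8 = true := by decide +kernel
theorem chk9 : chkItems sys22 items9 = true := by decide +kernel
theorem chk10 : chkItems sys22 items10 = true := by decide +kernel
theorem chk11 : chkItems sys22 items11 = true := by decide +kernel
theorem chk12 : chkItems sys22 items12 = true := by decide +kernel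
theorem chk13 : chkItems sys22 items13 = true := by decide +kernel
theorem chk14 : chkItems sys22 items14 = true := by decide +kernel
theorem chk15 : chkItems sys22 items15 = true := by decide +kernel

end Cfsg.Agent.BM.CertA22
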