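import Cfsg.Agent.BM.CertAInst
import Cfsg.Agent.BM.StageAData

/-!
The facts of stage A in terms of the shared data `StageAData`: edges and stabiliser generators.
-/

set_option autoImplicit false
set_option maxRecDepth 100000

namespace Cfsg.Agent.BM.CertA

open Cfsg.Spor Cfsg.Agent.BM.Script Cfsg.Agent.BM.Psi Cfsg.Agent.BM.PairOracle Cfsg.Agent.BM.StageAData

/-- Equality test of facts. -/
noncomputable def factB (f g : Fact) : Bool :=
  and (Nat.beq f.ty g.ty) <| and (Nat.beq f.i g.i) <| and (Nat.beq f.a g.a) <| and (Nat.beq f.j g.j) (Nat.beq f.b g.b)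

theorem factB_spec {f g : Fact} (h : factB f g = true) : f = g := by
  unfold factB at h
  simp only [Bool.and_eq_true] at h
  obtain ⟨h1, h2, h3, h4, h5⟩ := h
  cases f; cases g
  simp only [Fact.mk.injEq]
  exact ⟨Nat.eq_of_beq_eq_true h1, Nat.eq_of_beq_eq_true h2, Nat.eq_of_beq_eq_true h3,
    Nat.eq_of_beq_eq_true h4, Nat.eq_of_beq_eq_true h5⟩

theorem chk_edges : ∀ e : Fin 32, (Nat.ble (factE e + 1) 298 &&
    (factB (sys.fact (factE e)) ⟨2, (srcE e).val, aE e, 8 + (tgtE e).val, bE e⟩ ||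
    factB (sys.fact (factE e)) ⟨3, 8 + (tgtE e).val, bE e, (srcE e).val, aE e⟩)) = true := by decide +kernel

theorem chk_stabA : ∀ i : Fin 8, ((fsA i).zip (wsA i)).all (fun p => Nat.ble (p.1 + 1) 298 &&
    factB (sys.fact p.1) ⟨0, i.val, p.2, i.val, 0⟩) = true := by decide +kernel

theorem chk_stabB : ∀ j : Fin 6, ((fsB j).zip (wsB j)).all (fun p => Nat.ble (p.1 + 1) 298 &&
    factB (sys.fact p.1) ⟨1, 8 + j.val, p.2, 8 + j.val, 0⟩) = true := by decide +kernel

theorem len_A : ∀ i : Fin 8, (fsA i).length = (wsA i).length := by decide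
theorem len_B : ∀ j : Fin 6, (fsB j).length = (wsB j).length := by decide

theorem mem_zip_right {l₁ l₂ : List ℕ} (h : l₁.length = l₂.length) {u : ℕ} (hu : u ∈ l₂) :
    ∃ n, (n, u) ∈ l₁.zip l₂ := by
  induction l₁ generalizing l₂ with
  | nil =>
    cases l₂ with
    | nil => exact absurd hu (by simp)
    | cons b l₂ => exact absurd h (by simp)
  | cons a l₁ ih =>
    cases l₂ with
    | nil => exact absurd h (by simp)
    | cons b l₂ =>
      rcases List.mem_cons.1 hu with rfl | hu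
      · exact ⟨a, List.mem_cons_self⟩
      · obtain ⟨n, hn⟩ := ih (by simpa using h) hu
        exact ⟨n, List.mem_cons_of_mem _ hn⟩

variable {G : Type*} [Group G] {x : BabyMonster.Gen → G}

/-- The edges. -/
theorem same (h : Rel x) (e : Fin 32) :
    DCE.SameC (X x) (w h (srcE e).val * e0 h (aE e)) (w h (8 + (tgtE e).val) * e1 h (bE e)) := by
  have h1 := chk_edges e
  rw [Bool.and_eq_true, Bool.or_eq_true] at h1
  rcases h1.2 with h2 | h2
  · exact edge2 h (Nat.le_of_ble_eq_true h1.1) (factB_spec h2)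
  · exact edge3 h (Nat.le_of_ble_eq_true h1.1) (factB_spec h2)

/-- The stabilisers of the nodes of sort 0. -/
theorem stabA (h : Rel x) (i : Fin 8) : ∀ u ∈ wsA i, w h i.val * e0 h u * (w h i.val)⁻¹ ∈ X x := by
  intro u hu
  obtain ⟨n, hn⟩ := mem_zip_right (len_A i) hu
  have h1 := List.all_eq_true.1 (chk_stabA i) _ hn
  rw [Bool.and_eq_true] at h1
  exact stab0 h (Nat.le_of_ble_eq_true h1.1) (factB_spec h1.2)

/-- The stabilisers of the nodes of sort 1. -/
theorem stabB (h : Rel x) (j : Fin 6) :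
    ∀ u ∈ wsB j, w h (8 + j.val) * e1 h u * (w h (8 + j.val))⁻¹ ∈ X x := by
  intro u hu
  obtain ⟨n, hn⟩ := mem_zip_right (len_B j) hu
  have h1 := List.all_eq_true.1 (chk_stabB j) _ hn
  rw [Bool.and_eq_true] at h1
  exact stab1 h (Nat.le_of_ble_eq_true h1.1) (factB_spec h1.2)

end Cfsg.Agent.BM.CertA
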