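import Cfsg.Agent.BM.CertA22Inst
import Cfsg.Agent.BM.CertAData

/-!
The facts of stage A for `RelA s` in terms of the shared data `StageAData`: edges and stabiliser generators.
-/

set_option autoImplicit false
set_option maxRecDepth 100000

namespace Cfsg.Agent.BM.CertA22

open Cfsg.Spor Cfsg.Agent.BM.Script Cfsg.Agent.BM.StA Cfsg.Agent.BM.StageAData
open Cfsg.Agent.BM.CertA (factB factB_spec chk_edges chk_stabA chk_stabB len_A len_B mem_zip_right)

theorem fact_eq (n : ℕ) : sys22.fact n = CertA.sys.fact n := rfl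

variable {G : Type*} [Group G] {x : Fin 10 → G}

/-- The edges. -/
theorem same (h : RelA x) (e : Fin 32) :
    DCE.SameC (X x) (w h (srcE e).val * e0 h (aE e)) (w h (8 + (tgtE e).val) * e1 h (bE e)) := by
  have h1 := chk_edges e
  rw [Bool.and_eq_true, Bool.or_eq_true] at h1
  rcases h1.2 with h2 | h2
  · exact edge2 h (Nat.le_of_ble_eq_true h1.1) (factB_spec h2)
  · exact edge3 h (Nat.le_of_ble_eq_true h1.1) (factB_spec h2)

/-- The stabilisers of the nodes of sort 0. -/
theorem stabA (h : RelA x) (i : Fin 8) : ∀ u ∈ wsA i, w h i.val * e0 h u * (w h i.val)⁻¹ ∈ X x := by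
  intro u hu
  obtain ⟨n, hn⟩ := mem_zip_right (len_A i) hu
  have h1 := List.all_eq_true.1 (chk_stabA i) _ hn
  rw [Bool.and_eq_true] at h1
  exact stab0 h (Nat.le_of_ble_eq_true h1.1) (factB_spec h1.2)

/-- The stabilisers of the nodes of sort 1. -/
theorem stabB (h : RelA x) (j : Fin 6) :
    ∀ u ∈ wsB j, w h (8 + j.val) * e1 h u * (w h (8 + j.val))⁻¹ ∈ X x := by
  intro u hu
  obtain ⟨n, hn⟩ := mem_zip_right (len_B j) hu
  have h1 := List.all_eq_true.1 (chk_stabB j) _ hn
  rw [Bool.and_eq_true] at h1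
  exact stab1 h (Nat.le_of_ble_eq_true h1.1) (factB_spec h1.2)

end Cfsg.Agent.BM.CertA22
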