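import Mathlib

/-!
Double coset enumeration, abstract form (helper62, R19 stage L).

`G` is generated (inside itself, `⊤` or a subgroup) by `K` and one involution `t` commuting with `L ≤ K`;
`H` is another subgroup; `H w i K` are finitely many double cosets; `S i ≤ K` normalises the coset `H w i`
(`w i * s * (w i)⁻¹ ∈ H`); `K` is covered by the double cosets `S i * κ i j * L`; and the action of `t` on the
cosets `H w i κ i j` stays inside the union.  Then the union is everything.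
-/

set_option autoImplicit false

namespace Cfsg.Agent.BM.DCE

variable {G : Type*} [Group G]

/-- `x` lies in the double coset `H w K`. -/
def InDC (H K : Subgroup G) (w x : G) : Prop := ∃ k ∈ K, x * k⁻¹ * w⁻¹ ∈ H

theorem InDC.mul_right {H K : Subgroup G} {w x : G} (h : InDC H K w x) {k : G} (hk : k ∈ K) :
    InDC H K w (x * k) := by
  obtain ⟨k', hk', hx⟩ := h
  refine ⟨k' * k, K.mul_mem hk' hk, ?_⟩
  have : x * k * (k' * k)⁻¹ * w⁻¹ = x * k'⁻¹ * w⁻¹ := by group
  rw [this]; exact hx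

theorem InDC.mul_left {H K : Subgroup G} {w x : G} (h : InDC H K w x) {a : G} (ha : a ∈ H) :
    InDC H K w (a * x) := by
  obtain ⟨k', hk', hx⟩ := h
  refine ⟨k', hk', ?_⟩
  have : a * x * k'⁻¹ * w⁻¹ = a * (x * k'⁻¹ * w⁻¹) := by group
  rw [this]; exact H.mul_mem ha hx

theorem InDC.of_eq {H K : Subgroup G} {w x a k : G} (ha : a ∈ H) (hk : k ∈ K) (h : x = a * w * k) :
    InDC H K w x := by
  refine ⟨k, hk, ?_⟩
  have : x * k⁻¹ * w⁻¹ = a := by rw [h]; group
  rw [this]; exact ha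

theorem InDC.exists {H K : Subgroup G} {w x : G} (h : InDC H K w x) : ∃ a ∈ H, ∃ k ∈ K, x = a * w * k := by
  obtain ⟨k, hk, hx⟩ := h
  exact ⟨_, hx, k, hk, by group⟩

/-- Same coset with respect to `H` on the left: `H x = H y`. -/
def SameC (H : Subgroup G) (x y : G) : Prop := x * y⁻¹ ∈ H

theorem SameC.refl (H : Subgroup G) (x : G) : SameC H x x := by
  unfold SameC; rw [mul_inv_cancel]; exact H.one_mem

theorem SameC.symm {H : Subgroup G} {x y : G} (h : SameC H x y) : SameC H y x := by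
  have := H.inv_mem h
  rwa [mul_inv_rev, inv_inv] at this

theorem SameC.trans {H : Subgroup G} {x y z : G} (h : SameC H x y) (h' : SameC H y z) : SameC H x z := by
  have := H.mul_mem h h'
  have e : x * y⁻¹ * (y * z⁻¹) = x * z⁻¹ := by group
  rwa [e] at this

theorem SameC.mul_right {H : Subgroup G} {x y : G} (h : SameC H x y) (g : G) : SameC H (x * g) (y * g) := by
  unfold SameC at *
  have e : x * g * (y * g)⁻¹ = x * y⁻¹ := by group
  rwa [e]

theorem SameC.of_mem_left {H : Subgroup G} {a : G} (ha : a ∈ H) (x : G) : SameC H (a * x) x := by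
  unfold SameC
  rw [mul_inv_cancel_right]; exact ha

theorem InDC.of_same {H K : Subgroup G} {w x y : G} (h : InDC H K w y) (hxy : SameC H x y) : InDC H K w x := by
  obtain ⟨k, hk, hx⟩ := h
  refine ⟨k, hk, ?_⟩
  have : x * k⁻¹ * w⁻¹ = (x * y⁻¹) * (y * k⁻¹ * w⁻¹) := by group
  rw [this]; exact H.mul_mem hxy hx

/-- **Double coset enumeration.**  `t` is an involution with `t⁻¹ L t ≤ K` (for instance `t` commutes with `L`, or
normalises `L`). -/
theorem cover {ι : Type*} {J : ι → Type*} (H K L : Subgroup G) (t : G)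
    (ht : t * t = 1) (hL : ∀ l ∈ L, t⁻¹ * l * t ∈ K)
    (w : ι → G) (S : ι → Subgroup G)
    (hS : ∀ i, ∀ s ∈ S i, w i * s * (w i)⁻¹ ∈ H)
    (κ : ∀ i, J i → G)
    (cov : ∀ i, ∀ k ∈ K, ∃ j : J i, ∃ s ∈ S i, ∃ l ∈ L, k = s * κ i j * l)
    (fact : ∀ i (j : J i), ∃ i', InDC H K (w i') (w i * κ i j * t))
    (one : ∃ i, InDC H K (w i) 1) :
    ∀ g ∈ Subgroup.closure ((K : Set G) ∪ {t}), ∃ i, InDC H K (w i) g := by
  have stepT : ∀ x : G, (∃ i, InDC H K (w i) x) → ∃ i, InDC H K (w i) (x * t) := by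
    rintro x ⟨i, hx⟩
    obtain ⟨a, ha, k, hk, rfl⟩ := hx.exists
    obtain ⟨j, s, hs, l, hl, rfl⟩ := cov i k hk
    obtain ⟨i', hi'⟩ := fact i j
    refine ⟨i', ?_⟩
    have e : a * w i * (s * κ i j * l) * t =
        (a * (w i * s * (w i)⁻¹)) * ((w i * κ i j * t) * (t⁻¹ * l * t)) := by group
    rw [e]
    exact (hi'.mul_right (hL l hl)).mul_left (H.mul_mem ha (hS i s hs))
  have hti : t⁻¹ = t := inv_eq_of_mul_eq_one_left ht
  intro g hg
  induction hg using Subgroup.closure_induction_right with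
  | one => exact one
  | mul_right x y _ hy ih =>
    rcases hy with hy | hy
    · obtain ⟨i, hi⟩ := ih; exact ⟨i, hi.mul_right hy⟩
    · rw [Set.mem_singleton_iff] at hy; subst hy; exact stepT x ih
  | mul_inv_cancel x y _ hy ih =>
    rcases hy with hy | hy
    · obtain ⟨i, hi⟩ := ih; exact ⟨i, hi.mul_right (K.inv_mem hy)⟩
    · rw [Set.mem_singleton_iff] at hy; subst hy; rw [hti]; exact stepT x ih

/-- **Bipartite form**: `G = ⟨K, K₂⟩`, `J₀ ≤ K ⊓ K₂`; the double cosets `H w i K` and the double cosets `H v j K₂` are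
glued along the edges `e` (double cosets `H w κ J₀`). -/
theorem bip {ι ι₂ E : Type*} (H K K₂ J₀ : Subgroup G) (hJ : J₀ ≤ K) (hJ₂ : J₀ ≤ K₂)
    (w : ι → G) (S : ι → Subgroup G) (hS : ∀ i, ∀ s ∈ S i, w i * s * (w i)⁻¹ ∈ H)
    (v : ι₂ → G) (T : ι₂ → Subgroup G) (hT : ∀ j, ∀ s ∈ T j, v j * s * (v j)⁻¹ ∈ H)
    (src : E → ι) (tgt : E → ι₂) (κ m : E → G) (hκ : ∀ e, κ e ∈ K) (hm : ∀ e, m e ∈ K₂)
    (same : ∀ e, SameC H (w (src e) * κ e) (v (tgt e) * m e))
    (covK : ∀ i, ∀ k ∈ K, ∃ e, src e = i ∧ ∃ s ∈ S i, ∃ x ∈ J₀, k = s * κ e * x)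
    (covK₂ : ∀ j, ∀ k ∈ K₂, ∃ e, tgt e = j ∧ ∃ s ∈ T j, ∃ x ∈ J₀, k = s * m e * x)
    (one : ∃ i, InDC H K (w i) 1) :
    ∀ g ∈ Subgroup.closure ((K : Set G) ∪ K₂), ∃ i, InDC H K (w i) g := by
  have toV : ∀ x : G, (∃ i, InDC H K (w i) x) → ∃ j, InDC H K₂ (v j) x := by
    rintro x ⟨i, hx⟩
    obtain ⟨a, ha, k, hk, rfl⟩ := hx.exists
    obtain ⟨e, rfl, s, hs, y, hy, rfl⟩ := covK i k hk
    refine ⟨tgt e, ?_⟩
    have h1 : InDC H K₂ (v (tgt e)) (w (src e) * κ e) :=
      InDC.of_same ⟨m e, hm e, by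
        have : v (tgt e) * m e * (m e)⁻¹ * (v (tgt e))⁻¹ = 1 := by group
        rw [this]; exact H.one_mem⟩ (same e)
    have e1 : a * w (src e) * (s * κ e * y) =
        (a * (w (src e) * s * (w (src e))⁻¹)) * ((w (src e) * κ e) * y) := by group
    rw [e1]
    exact (h1.mul_right (hJ₂ hy)).mul_left (H.mul_mem ha (hS _ s hs))
  have toU : ∀ x : G, (∃ j, InDC H K₂ (v j) x) → ∃ i, InDC H K (w i) x := by
    rintro x ⟨j, hx⟩
    obtain ⟨a, ha, k, hk, rfl⟩ := hx.exists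
    obtain ⟨e, rfl, s, hs, y, hy, rfl⟩ := covK₂ j k hk
    refine ⟨src e, ?_⟩
    have h1 : InDC H K (w (src e)) (v (tgt e) * m e) :=
      InDC.of_same ⟨κ e, hκ e, by
        have : w (src e) * κ e * (κ e)⁻¹ * (w (src e))⁻¹ = 1 := by group
        rw [this]; exact H.one_mem⟩ (same e).symm
    have e1 : a * v (tgt e) * (s * m e * y) =
        (a * (v (tgt e) * s * (v (tgt e))⁻¹)) * ((v (tgt e) * m e) * y) := by group
    rw [e1]
    exact (h1.mul_right (hJ hy)).mul_left (H.mul_mem ha (hT _ s hs))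
  intro g hg
  induction hg using Subgroup.closure_induction_right with
  | one => exact one
  | mul_right x y _ hy ih =>
    rcases hy with hy | hy
    · obtain ⟨i, hi⟩ := ih; exact ⟨i, hi.mul_right hy⟩
    · obtain ⟨j, hj⟩ := toV x ih; exact toU _ ⟨j, hj.mul_right hy⟩
  | mul_inv_cancel x y _ hy ih =>
    rcases hy with hy | hy
    · obtain ⟨i, hi⟩ := ih; exact ⟨i, hi.mul_right (K.inv_mem hy)⟩
    · obtain ⟨j, hj⟩ := toV x ih; exact toU _ ⟨j, hj.mul_right (K₂.inv_mem hy)⟩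

/-- The index of `H` is bounded by the number of right cosets of `H` in a finite cover. -/
theorem index_le_of_cover {α : Type*} [Finite α] (H : Subgroup G) (r : α → G)
    (h : ∀ g : G, ∃ a, SameC H g (r a)) : H.index ≠ 0 ∧ H.index ≤ Nat.card α := by
  classical
  have hsurj : Function.Surjective (fun a : α => (((r a)⁻¹ : G) : G ⧸ H)) := by
    intro q
    induction q using QuotientGroup.induction_on with
    | H x =>
      obtain ⟨a, ha⟩ := h x⁻¹
      refine ⟨a, ?_⟩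
      show (((r a)⁻¹ : G) : G ⧸ H) = (x : G ⧸ H)
      rw [QuotientGroup.eq]
      have : (r a)⁻¹⁻¹ * x = (x⁻¹ * (r a)⁻¹)⁻¹ := by group
      rw [this]; exact H.inv_mem ha
  have hf : Finite (G ⧸ H) := Finite.of_surjective _ hsurj
  refine ⟨?_, ?_⟩
  · have : H.FiniteIndex := Subgroup.finiteIndex_of_finite_quotient
    exact this.index_ne_zero
  · exact Nat.card_le_card_of_surjective _ hsurj

/-- Right coset representatives of `S` in `K` (for `S` of finite relative index). -/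
theorem exists_reps (S K : Subgroup G) (h0 : S.relIndex K ≠ 0) :
    ∃ c : Fin (S.relIndex K) → G, (∀ a, c a ∈ K) ∧ ∀ k ∈ K, ∃ a, k * (c a)⁻¹ ∈ S := by
  classical
  have hfin : Finite (K ⧸ S.subgroupOf K) := by
    have : (S.subgroupOf K).FiniteIndex := ⟨h0⟩
    infer_instance
  have hcard : Nat.card (K ⧸ S.subgroupOf K) = S.relIndex K := rfl
  let e := Finite.equivFinOfCardEq hcard
  refine ⟨fun a => (((e.symm a).out : K) : G)⁻¹, fun a => K.inv_mem (Subtype.prop _), ?_⟩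
  intro k hk
  refine ⟨e (QuotientGroup.mk (⟨k⁻¹, K.inv_mem hk⟩ : K)), ?_⟩
  simp only [Equiv.symm_apply_apply, inv_inv]
  have h := QuotientGroup.out_eq' (QuotientGroup.mk (⟨k⁻¹, K.inv_mem hk⟩ : K) : K ⧸ S.subgroupOf K)
  rw [QuotientGroup.eq, Subgroup.mem_subgroupOf] at h
  have h2 := S.inv_mem h
  simpa [mul_assoc] using h2

/-- **Index bound.** -/
theorem index_le {ι : Type*} [Fintype ι] (H K : Subgroup G) (w : ι → G) (S : ι → Subgroup G)
    (hS : ∀ i, ∀ s ∈ S i, w i * s * (w i)⁻¹ ∈ H)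
    (hcov : ∀ g : G, ∃ i, InDC H K (w i) g)
    (h0 : ∀ i, (S i).relIndex K ≠ 0) :
    H.index ≠ 0 ∧ H.index ≤ ∑ i, (S i).relIndex K := by
  classical
  choose c hcK hc using fun i => exists_reps (S i) K (h0 i)
  have h := index_le_of_cover (α := Σ i, Fin ((S i).relIndex K)) H (fun p => w p.1 * c p.1 p.2) (by
    intro g
    obtain ⟨i, hi⟩ := hcov g
    obtain ⟨a, ha, k, hk, rfl⟩ := hi.exists
    obtain ⟨b, hb⟩ := hc i k hk
    refine ⟨⟨i, b⟩, ?_⟩
    unfold SameC
    have : a * w i * k * (w i * c i b)⁻¹ = a * (w i * (k * (c i b)⁻¹) * (w i)⁻¹) := by group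
    rw [this]
    exact H.mul_mem ha (hS i _ hb))
  refine ⟨h.1, h.2.trans ?_⟩
  rw [Nat.card_sigma]
  simp

/-- relative version of `index_le` inside a subgroup `T = ⟨K, t⟩`. -/
theorem relIndex_le {ι : Type*} [Fintype ι] (H K T : Subgroup G) (w : ι → G) (S : ι → Subgroup G)
    (hKT : K ≤ T) (hwT : ∀ i, w i ∈ T)
    (hS : ∀ i, ∀ s ∈ S i, w i * s * (w i)⁻¹ ∈ H)
    (hcov : ∀ g ∈ T, ∃ i, InDC H K (w i) g)
    (h0 : ∀ i, (S i).relIndex K ≠ 0) :
    H.relIndex T ≠ 0 ∧ H.relIndex T ≤ ∑ i, (S i).relIndex K := by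
  have key := index_le (G := T) (H.subgroupOf T) (K.subgroupOf T) (fun i => (⟨w i, hwT i⟩ : T))
    (fun i => (S i).subgroupOf T) (by
      intro i s hs
      rw [Subgroup.mem_subgroupOf] at hs ⊢
      exact hS i _ hs) (by
      intro g
      obtain ⟨i, k, hk, hx⟩ := hcov g g.2
      exact ⟨i, ⟨k, hKT hk⟩, hk, hx⟩) (by
      intro i
      rw [Subgroup.relIndex_subgroupOf hKT]
      exact h0 i)
  have e : ∀ i, ((S i).subgroupOf T).relIndex (K.subgroupOf T) = (S i).relIndex K := fun i =>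
    Subgroup.relIndex_subgroupOf hKT
  simp only [e] at key
  exact key

end Cfsg.Agent.BM.DCE
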