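import Cfsg.Prelude.Def_Spor_B
import Cfsg.Prelude.Def_Spor_Fi22
import Cfsg.Agent.Fischer.Fi23Final
import Cfsg.Agent.S1697

/-!
# Maps from the presented Fischer groups into a group satisfying the `Y433` relations

Let `G` be a group with elements `x t1, …, x t11` satisfying the relators of `Cfsg.Spor.BabyMonster`
(`Rel x`).  Then there are homomorphisms

* `psi h : Spor.Fi23 →* G`,  `j g f e | d | c b a | h i ↦ t1 t2 t3 t4 | t5 | t6 t7 t8 | t9 t10`,
* `psi2 h : Spor.Fi23 →* G`, `j g f e | d | c b a | h i ↦ t1 t2 t3 t4 | t5 | t9 t10 t11 | t6 t7`,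
* `psiA h : Spor.Fi22 →* G`, `a b c d e f g h i ↦ t8 t7 t6 t5 t9 t10 t11 t4 t3`.

The relators which are not literally among those of `BabyMonster` (the other orientation of the spider
relator and other Coxeter elements of type `E₇`) are checked inside the presented group `Spor.Fi23`
with its faithful action on 31671 points.
-/

set_option autoImplicit false
set_option maxRecDepth 100000
set_option linter.constructorNameAsVariable false

namespace Cfsg.Agent.BM.Psi

open Cfsg.Spor
open Cfsg.Agent.Lib.PermNet Cfsg.Agent.Lib.PermNetOrbit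
open Cfsg.Agent.Fischer.Fi23Hom Cfsg.Agent.Fischer.Fi23Orb
open Cfsg.Agent.Fischer.Fi23Rel (net wok)

/-! ### Words in `Spor.Fi23` -/

theorem card_Fi23 : Nat.card Spor.Fi23 = 4089470473293004800 := Cfsg.Agent.S1697.result.2

instance finite_Fi23 : Finite Spor.Fi23 :=
  Nat.finite_of_card_ne_zero (by rw [card_Fi23]; norm_num)

/-- The base of the action on 31671 points. -/
def base : List ℕ := [1086, 224, 11589, 1, 0]

theorem stab_base : stabL rho base = ⊥ :=
  Cfsg.Agent.Fischer.Fi23Final.stab_bot card_Fi23.le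

theorem rho_injective : Function.Injective rho :=
  Cfsg.Agent.Fischer.Fi23Final.rho_injective card_Fi23.le

/-- A power of a word is trivial as soon as it fixes the base points. -/
theorem word_pow_eq_one (l : List Fi23.Gen) (m : ℕ)
    (h : fixAllB [wpow (l.map net) m] base = true) : word l ^ m = 1 := by
  have hok : WOk (2 ^ 15) (l.map net) := wok l
  have hok' : WsOk (2 ^ 15) [wpow (l.map net) m] := by
    intro w hw
    rw [List.mem_singleton] at hw
    rw [hw]
    exact Cfsg.Agent.Lib.PermNetOrbit.WOk.wpow hok m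
  have hmem : word l ^ m ∈ stabL rho base := by
    intro q hq
    rw [map_pow, rho_word, ← wperm_wpow]
    exact fixAllB_spec hok' h q hq _ (List.mem_singleton.2 rfl)
  rw [stab_base] at hmem
  exact Subgroup.mem_bot.1 hmem

/-- Two words are equal as soon as they agree on the base points. -/
noncomputable def eqB (l l' : List Fi23.Gen) : Bool :=
  List.rec (motive := fun _ => Bool) true
    (fun q _ ih => and (Nat.beq (ptWord (l.map net) q) (ptWord (l'.map net) q)) ih) base

theorem word_eq_of_eqB {l l' : List Fi23.Gen} (h : eqB l l' = true) : word l = word l' := by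
  have key : ∀ qs : List ℕ, List.rec (motive := fun _ => Bool) true
      (fun q _ ih => and (Nat.beq (ptWord (l.map net) q) (ptWord (l'.map net) q)) ih) qs = true →
      ∀ q ∈ qs, rho (word l) q = rho (word l') q := by
    intro qs
    induction qs with
    | nil => intro _ q hq; exact absurd hq (by simp)
    | cons q qs ih =>
      intro h' x hx
      rw [Bool.and_eq_true] at h'
      rcases List.mem_cons.1 hx with rfl | hx
      · rw [rho_word, rho_word, ← ptWord_eq (wok l), ← ptWord_eq (wok l')]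
        exact Nat.eq_of_beq_eq_true h'.1
      · exact ih h'.2 x hx
  have h2 := key base h
  have hmem : (word l')⁻¹ * word l ∈ stabL rho base := by
    intro q hq
    rw [map_mul, map_inv, Equiv.Perm.mul_apply, h2 q hq, Equiv.Perm.inv_eq_iff_eq]
  rw [stab_base] at hmem
  have := Subgroup.mem_bot.1 hmem
  rw [inv_mul_eq_one] at this
  exact this.symm

theorem word_nil : word [] = 1 := rfl

theorem word_cons (a : Fi23.Gen) (l : List Fi23.Gen) : word (a :: l) = gen a * word l := by
  unfold word
  rw [List.map_cons, List.prod_cons]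

theorem word_append (l l' : List Fi23.Gen) : word (l ++ l') = word l * word l' := by
  unfold word
  rw [List.map_append, List.prod_append]

/-- The spider relator in the other orientation. -/
theorem spider' : word [.d, .e, .f, .d, .c, .b, .d, .h, .i] ^ 10 = 1 :=
  word_pow_eq_one _ _ (by decide +kernel)

theorem e7_1 : word [.a, .b, .c, .d, .h, .i, .e] ^ 9 = 1 :=
  word_pow_eq_one _ _ (by decide +kernel)

theorem e7_2 : word [.i, .h, .d, .c, .b, .a, .e] ^ 9 = 1 :=
  word_pow_eq_one _ _ (by decide +kernel)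

/-! ### The relations -/

section Rel

variable {G : Type*} [Group G]

/-- The elements `x t1, …, x t11` satisfy the relators of the presented Baby Monster. -/
def Rel (x : BabyMonster.Gen → G) : Prop :=
  ∀ r ∈ coxRelators BabyMonster.edges ∪ {r | r ∈ BabyMonster.extra}, FreeGroup.lift x r = 1

theorem rel_of : Rel (fun t => (PresentedGroup.of t : Spor.BabyMonster)) := by
  intro r hr
  have h : FreeGroup.lift (fun t => (PresentedGroup.of t : Spor.BabyMonster)) r =
      PresentedGroup.mk _ r := by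
    have : FreeGroup.lift (fun t => (PresentedGroup.of t : Spor.BabyMonster)) =
        PresentedGroup.mk (coxRelators BabyMonster.edges ∪ {r | r ∈ BabyMonster.extra}) := by
      ext t
      rw [FreeGroup.lift_apply_of]
      rfl
    rw [this]
  rw [h]
  exact PresentedGroup.one_of_mem hr

variable {x : BabyMonster.Gen → G}

theorem mem_nodes (t : BabyMonster.Gen) : t ∈ coxNodes BabyMonster.edges := by
  cases t <;> decide

theorem Rel.cox (h : Rel x) (a b : BabyMonster.Gen) :
    (x a * x b) ^ coxLabel BabyMonster.edges a b = 1 := by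
  have := h _ (Or.inl ⟨a, mem_nodes a, b, mem_nodes b, rfl⟩)
  simpa only [map_pow, map_mul, FreeGroup.lift_apply_of] using this

theorem Rel.sq (h : Rel x) (a : BabyMonster.Gen) : x a * x a = 1 := by
  have := h.cox a a
  have hl : coxLabel BabyMonster.edges a a = 1 := by cases a <;> decide
  rwa [hl, pow_one] at this

theorem Rel.comm (h : Rel x) {a b : BabyMonster.Gen} (hl : coxLabel BabyMonster.edges a b = 2) :
    x a * x b = x b * x a := by
  have h1 := h.cox a b
  rw [hl, pow_two] at h1
  rw [eq_inv_of_mul_eq_one_left h1, mul_inv_rev, inv_eq_of_mul_eq_one_left (h.sq a),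
    inv_eq_of_mul_eq_one_left (h.sq b)]

theorem Rel.braid (h : Rel x) {a b : BabyMonster.Gen} (hl : coxLabel BabyMonster.edges a b = 3) :
    x a * x b * x a = x b * x a * x b := by
  have h1 := h.cox a b
  rw [hl, pow_succ, pow_two] at h1
  have e : x a * x b * x a * (x b * x a * x b) = 1 := by
    rw [← h1]; simp only [mul_assoc]
  rw [eq_inv_of_mul_eq_one_left e, mul_inv_rev, mul_inv_rev, inv_eq_of_mul_eq_one_left (h.sq a),
    inv_eq_of_mul_eq_one_left (h.sq b), mul_assoc]

theorem Rel.spider (h : Rel x) :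
    (x .t5 * x .t4 * x .t3 * x .t5 * x .t6 * x .t7 * x .t5 * x .t9 * x .t10) ^ 10 = 1 := by
  have := h ((BabyMonster.t5 * BabyMonster.t4 * BabyMonster.t3 * BabyMonster.t5 * BabyMonster.t6 *
    BabyMonster.t7 * BabyMonster.t5 * BabyMonster.t9 * BabyMonster.t10) ^ 10)
    (Or.inr (by show _ ∈ BabyMonster.extra; unfold BabyMonster.extra; simp))
  simpa only [map_pow, map_mul, FreeGroup.lift_apply_of] using this

theorem Rel.e7a (h : Rel x) :
    (x .t5 * x .t4 * x .t3 * x .t6 * x .t7 * x .t8 * x .t9) ^ 9 = 1 := by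
  have := h ((BabyMonster.t5 * BabyMonster.t4 * BabyMonster.t3 * BabyMonster.t6 * BabyMonster.t7 *
    BabyMonster.t8 * BabyMonster.t9) ^ 9)
    (Or.inr (by show _ ∈ BabyMonster.extra; unfold BabyMonster.extra; simp))
  simpa only [map_pow, map_mul, FreeGroup.lift_apply_of] using this

theorem Rel.e7b (h : Rel x) :
    (x .t5 * x .t4 * x .t3 * x .t6 * x .t9 * x .t10 * x .t11) ^ 9 = 1 := by
  have := h ((BabyMonster.t5 * BabyMonster.t4 * BabyMonster.t3 * BabyMonster.t6 * BabyMonster.t9 *
    BabyMonster.t10 * BabyMonster.t11) ^ 9)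
    (Or.inr (by show _ ∈ BabyMonster.extra; unfold BabyMonster.extra; simp))
  simpa only [map_pow, map_mul, FreeGroup.lift_apply_of] using this

/-- Powers of cyclically rotated products. -/
theorem pow_rot {u v : G} {n : ℕ} (h : (u * v) ^ n = 1) : (v * u) ^ n = 1 := by
  have e : v * u = u⁻¹ * (u * v) * u⁻¹⁻¹ := by group
  rw [e, conj_pow, h]
  group

/-- Two Coxeter elements of a diagram of type `E₇`. -/
theorem e7_conj {D A₁ A₂ A₃ R : G} {n : ℕ} (h1 : A₁ * R = R * A₁) (h2 : A₂ * R = R * A₂)
    (h3 : A₃ * R = R * A₃) (d2 : A₂ * D = D * A₂) (d3 : A₃ * D = D * A₃)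
    (h13 : A₁ * A₃ = A₃ * A₁) (h : (D * R * A₁ * A₂ * A₃) ^ n = 1) :
    (A₃ * A₂ * A₁ * D * R) ^ n = 1 := by
  have e : A₃ * A₂ * A₁ * D * R =
      (A₃ * A₂ * A₁ * A₃ * A₂ * A₃) * (D * R * A₁ * A₂ * A₃) * (A₃ * A₂ * A₁ * A₃ * A₂ * A₃)⁻¹ := by
    rw [eq_mul_inv_iff_mul_eq]
    have L : A₃ * A₂ * A₁ * D * R * (A₃ * A₂ * A₁ * A₃ * A₂ * A₃) =
        A₃ * A₂ * A₁ * (D * (R * A₃) * A₂ * A₁ * A₃ * A₂ * A₃) := by group
    rw [L, ← h3]
    have L2 : D * (A₃ * R) * A₂ * A₁ * A₃ * A₂ * A₃ = D * A₃ * (R * A₂) * A₁ * A₃ * A₂ * A₃ := by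
      group
    rw [L2, ← h2]
    have L3 : D * A₃ * (A₂ * R) * A₁ * A₃ * A₂ * A₃ = D * A₃ * A₂ * (R * A₁) * A₃ * A₂ * A₃ := by
      group
    rw [L3, ← h1]
    have L4 : D * A₃ * A₂ * (A₁ * R) * A₃ * A₂ * A₃ = D * A₃ * A₂ * A₁ * (R * A₃) * A₂ * A₃ := by
      group
    rw [L4, ← h3]
    have L5 : D * A₃ * A₂ * A₁ * (A₃ * R) * A₂ * A₃ = D * A₃ * A₂ * (A₁ * A₃) * R * A₂ * A₃ := by
      group
    rw [L5, h13]
    have R1 : (A₃ * A₂ * A₁ * A₃ * A₂ * A₃) * (D * R * A₁ * A₂ * A₃) =
        A₃ * A₂ * A₁ * (A₃ * A₂ * (A₃ * D) * R * A₁ * A₂ * A₃) := by group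
    rw [R1, d3]
    have R2 : A₃ * A₂ * (D * A₃) * R * A₁ * A₂ * A₃ = A₃ * (A₂ * D) * A₃ * R * A₁ * A₂ * A₃ := by
      group
    rw [R2, d2]
    have R3 : A₃ * (D * A₂) * A₃ * R * A₁ * A₂ * A₃ = (A₃ * D) * A₂ * A₃ * (R * A₁) * A₂ * A₃ := by
      group
    rw [R3, d3, ← h1]
    have R4 : D * A₃ * A₂ * A₃ * (A₁ * R) * A₂ * A₃ = D * A₃ * A₂ * (A₃ * A₁) * R * A₂ * A₃ := by
      group
    rw [R4]
  rw [e, conj_pow, h]
  group

/-! ### `psi2` -/

/-- `j g f e | d | c b a | h i ↦ t1 t2 t3 t4 | t5 | t9 t10 t11 | t6 t7` -/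
def m2 : Fi23.Gen → BabyMonster.Gen
  | .j => .t1
  | .g => .t2
  | .f => .t3
  | .e => .t4
  | .d => .t5
  | .c => .t9
  | .b => .t10
  | .a => .t11
  | .h => .t6
  | .i => .t7

theorem lab2 : ∀ a b : Fi23.Gen,
    coxLabel Fi23.edges a b = coxLabel BabyMonster.edges (m2 a) (m2 b) := by
  intro a b
  cases a <;> cases b <;> decide

theorem rels2 (h : Rel x) : ∀ r ∈ coxRelators Fi23.edges ∪ {r | r ∈ Fi23.extra},
    FreeGroup.lift (fun g => x (m2 g)) r = 1 := by
  refine cox_lift_eq_one _ _ _ (fun a _ b _ => ?_) ?_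
  · rw [lab2 a b]
    exact h.cox _ _
  · intro r hr
    simp only [Fi23.extra, List.mem_cons, List.not_mem_nil, or_false] at hr
    rcases hr with rfl | rfl
    · simp only [map_pow, map_mul, FreeGroup.lift_apply_of, m2]
      have h1 := h.spider
      have h2 : ((x .t5 * x .t4 * x .t3 * x .t5 * x .t6 * x .t7) * (x .t5 * x .t9 * x .t10)) ^ 10 = 1 := by
        simpa only [mul_assoc] using h1
      have h3 := pow_rot h2
      simpa only [mul_assoc] using h3
    · simp only [map_pow, map_mul, FreeGroup.lift_apply_of, m2]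
      have h1 := h.e7b
      have h2 : (x .t5 * (x .t4 * x .t3 * x .t6) * x .t9 * x .t10 * x .t11) ^ 9 = 1 := by
        simpa only [mul_assoc] using h1
      have cm : ∀ {a b : BabyMonster.Gen}, coxLabel BabyMonster.edges a b = 2 → Commute (x a) (x b) :=
        fun hl => h.comm hl
      have h3 := e7_conj (D := x .t5) (A₁ := x .t9) (A₂ := x .t10) (A₃ := x .t11)
        (R := x .t4 * x .t3 * x .t6)
        (((cm (by decide)).mul_right (cm (by decide))).mul_right (cm (by decide)))
        (((cm (by decide)).mul_right (cm (by decide))).mul_right (cm (by decide)))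
        (((cm (by decide)).mul_right (cm (by decide))).mul_right (cm (by decide)))
        (cm (by decide)) (cm (by decide)) (cm (by decide)) h2
      simpa only [mul_assoc] using h3

/-- The homomorphism onto `⟨t1, …, t7, t9, t10, t11⟩`. -/
def psi2 (h : Rel x) : Spor.Fi23 →* G := PresentedGroup.toGroup (f := fun g => x (m2 g)) (rels2 h)

theorem psi2_gen (h : Rel x) (g : Fi23.Gen) : psi2 h (gen g) = x (m2 g) :=
  PresentedGroup.toGroup.of (rels2 h)

theorem psi2_word (h : Rel x) (l : List Fi23.Gen) :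
    psi2 h (word l) = (l.map (fun g => x (m2 g))).prod := by
  induction l with
  | nil => rw [word_nil, map_one]; rfl
  | cons a l ih => rw [word_cons, map_mul, ih, psi2_gen]; rfl

/-! ### The swap of the two arms of length three -/

/-- The swap `(6 9) (7 10) (8 11)`. -/
def swap : BabyMonster.Gen → BabyMonster.Gen
  | .t1 => .t1
  | .t2 => .t2
  | .t3 => .t3
  | .t4 => .t4
  | .t5 => .t5
  | .t6 => .t9
  | .t7 => .t10
  | .t8 => .t11
  | .t9 => .t6
  | .t10 => .t7
  | .t11 => .t8

theorem lab_swap : ∀ a b : BabyMonster.Gen,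
    coxLabel BabyMonster.edges a b = coxLabel BabyMonster.edges (swap a) (swap b) := by
  intro a b
  cases a <;> cases b <;> decide

theorem swap_swap (a : BabyMonster.Gen) : swap (swap a) = a := by cases a <;> rfl

theorem rel_swap (h : Rel x) : Rel (fun t => x (swap t)) := by
  refine cox_lift_eq_one _ _ _ (fun a _ b _ => ?_) ?_
  · rw [lab_swap a b]
    exact h.cox _ _
  · intro r hr
    simp only [BabyMonster.extra, List.mem_cons, List.not_mem_nil, or_false] at hr
    rcases hr with rfl | rfl | rfl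
    · simp only [map_pow, map_mul, FreeGroup.lift_apply_of, swap]
      have h1 := congrArg (psi2 h) spider'
      rw [map_pow, map_one, psi2_word] at h1
      simpa only [List.map_cons, List.map_nil, List.prod_cons, List.prod_nil, mul_one, m2, mul_assoc]
        using h1
    · simp only [map_pow, map_mul, FreeGroup.lift_apply_of, swap]
      have h1 := h.e7b
      have cm : ∀ {a b : BabyMonster.Gen}, coxLabel BabyMonster.edges a b = 2 → Commute (x a) (x b) :=
        fun hl => h.comm hl
      have hc : Commute (x .t9 * x .t10 * x .t11) (x .t6) :=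
        ((cm (by decide)).mul_left (cm (by decide))).mul_left (cm (by decide))
      have e : x .t5 * x .t4 * x .t3 * x .t9 * x .t10 * x .t11 * x .t6 =
          x .t5 * x .t4 * x .t3 * x .t6 * x .t9 * x .t10 * x .t11 := by
        have e1 : x .t5 * x .t4 * x .t3 * x .t9 * x .t10 * x .t11 * x .t6 =
          x .t5 * x .t4 * x .t3 * ((x .t9 * x .t10 * x .t11) * x .t6) := by simp only [mul_assoc]
        rw [e1, hc.eq]
        simp only [mul_assoc]
      rw [e]
      exact h1
    · simp only [map_pow, map_mul, FreeGroup.lift_apply_of, swap]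
      have h1 := h.e7a
      have cm : ∀ {a b : BabyMonster.Gen}, coxLabel BabyMonster.edges a b = 2 → Commute (x a) (x b) :=
        fun hl => h.comm hl
      have hc : Commute (x .t6 * x .t7 * x .t8) (x .t9) :=
        ((cm (by decide)).mul_left (cm (by decide))).mul_left (cm (by decide))
      have e : x .t5 * x .t4 * x .t3 * x .t9 * x .t6 * x .t7 * x .t8 =
          x .t5 * x .t4 * x .t3 * x .t6 * x .t7 * x .t8 * x .t9 := by
        have e1 : x .t5 * x .t4 * x .t3 * x .t6 * x .t7 * x .t8 * x .t9 =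
          x .t5 * x .t4 * x .t3 * ((x .t6 * x .t7 * x .t8) * x .t9) := by simp only [mul_assoc]
        rw [e1, hc.eq]
        simp only [mul_assoc]
      rw [e]
      exact h1

/-! ### `psi` -/

/-- `j g f e | d | c b a | h i ↦ t1 t2 t3 t4 | t5 | t6 t7 t8 | t9 t10` -/
def m1 : Fi23.Gen → BabyMonster.Gen
  | .j => .t1
  | .g => .t2
  | .f => .t3
  | .e => .t4
  | .d => .t5
  | .c => .t6
  | .b => .t7
  | .a => .t8
  | .h => .t9
  | .i => .t10

theorem swap_m2 (g : Fi23.Gen) : swap (m2 g) = m1 g := by cases g <;> rfl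

/-- The homomorphism onto `⟨t1, …, t10⟩`. -/
def psi (h : Rel x) : Spor.Fi23 →* G := psi2 (rel_swap h)

theorem psi_gen (h : Rel x) (g : Fi23.Gen) : psi h (gen g) = x (m1 g) := by
  unfold psi
  rw [psi2_gen, swap_m2]

theorem psi_word (h : Rel x) (l : List Fi23.Gen) :
    psi h (word l) = (l.map (fun g => x (m1 g))).prod := by
  induction l with
  | nil => rw [word_nil, map_one]; rfl
  | cons a l ih => rw [word_cons, map_mul, ih, psi_gen]; rfl

/-! ### `psiA` -/

/-- `a b c d e f g h i ↦ t8 t7 t6 t5 t9 t10 t11 t4 t3` -/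
def mA : Fi22.Gen → BabyMonster.Gen
  | .a => .t8
  | .b => .t7
  | .c => .t6
  | .d => .t5
  | .e => .t9
  | .f => .t10
  | .g => .t11
  | .h => .t4
  | .i => .t3

theorem labA : ∀ a b : Fi22.Gen,
    coxLabel Fi22.edges a b = coxLabel BabyMonster.edges (mA a) (mA b) := by
  intro a b
  cases a <;> cases b <;> decide

theorem relsA (h : Rel x) : ∀ r ∈ coxRelators Fi22.edges ∪ {r | r ∈ Fi22.extra},
    FreeGroup.lift (fun g => x (mA g)) r = 1 := by
  refine cox_lift_eq_one _ _ _ (fun a _ b _ => ?_) ?_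
  · rw [labA a b]
    exact h.cox _ _
  · intro r hr
    simp only [Fi22.extra, List.mem_cons, List.not_mem_nil, or_false] at hr
    rcases hr with rfl | rfl | rfl
    · simp only [map_pow, map_mul, FreeGroup.lift_apply_of, mA]
      have h1 := h.spider
      have h2 : ((x .t5 * x .t4 * x .t3) * (x .t5 * x .t6 * x .t7 * x .t5 * x .t9 * x .t10)) ^ 10 = 1 := by
        simpa only [mul_assoc] using h1
      have h3 := pow_rot h2
      simpa only [mul_assoc] using h3
    · simp only [map_pow, map_mul, FreeGroup.lift_apply_of, mA]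
      have h1 := congrArg (psi h) e7_1
      rw [map_pow, map_one, psi_word] at h1
      simpa only [List.map_cons, List.map_nil, List.prod_cons, List.prod_nil, mul_one, m1, mul_assoc]
        using h1
    · simp only [map_pow, map_mul, FreeGroup.lift_apply_of, mA]
      have h1 := congrArg (psi2 h) e7_2
      rw [map_pow, map_one, psi2_word] at h1
      simpa only [List.map_cons, List.map_nil, List.prod_cons, List.prod_nil, mul_one, m2, mul_assoc]
        using h1

/-- The homomorphism onto `⟨t3, …, t11⟩`. -/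
def psiA (h : Rel x) : Spor.Fi22 →* G := PresentedGroup.toGroup (f := fun g => x (mA g)) (relsA h)

theorem psiA_of (h : Rel x) (g : Fi22.Gen) :
    psiA h (PresentedGroup.of g : Spor.Fi22) = x (mA g) :=
  PresentedGroup.toGroup.of (relsA h)

end Rel

end Cfsg.Agent.BM.Psi
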