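import Cfsg.Agent.BM.CertA22
import Cfsg.Agent.BM.CertAInst

/-!
The facts of the bipartite enumeration of stage A hold in every group with elements `s` such that `RelA s`, for
`X = ⟨s 0, …, s 8⟩`, `e0` = words in `t2, …, t10`, `e1` = words in `t3, …, t11` (`t(k+2) = s k`).
-/

set_option autoImplicit false
set_option maxRecDepth 100000

namespace Cfsg.Agent.BM.CertA22

open Cfsg.Spor Cfsg.Agent.BM.Script Cfsg.Agent.BM.PairOracle22 Cfsg.Agent.BM.StA
open Cfsg.Agent.BM.CertA (tr items0 items1 items2 items3 items4 items5 items6 items7 items8 items9 items10 items11 items12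
  items13 items14 items15)
open Cfsg.Agent.BM.PairOracle (bgen ltB)

variable {G : Type*} [Group G] {x : Fin 10 → G}

/-- `X = ⟨s 0, …, s 8⟩` -/
def X (x : Fin 10 → G) : Subgroup G :=
  Subgroup.closure {x 0, x 1, x 2, x 3, x 4, x 5, x 6, x 7, x 8}

/-- Words in `t1, …, t10`. -/
noncomputable def e0 (h : RelA x) (u : ℕ) : G := h.f0 (Script.ev g22 u)

/-- Words in `t3, …, t11`. -/
noncomputable def e1 (h : RelA x) (u : ℕ) : G := h.f1 (Script.ev bgen u)

/-- node 0 -/
noncomputable def wn0 (_ : RelA x) : G := 1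

/-- node 8 -/
noncomputable def wn8 (h : RelA x) : G := wn0 h * e0 h 0

/-- node 1 -/
noncomputable def wn1 (h : RelA x) : G := wn8 h * e1 h 0xb

/-- node 2 -/
noncomputable def wn2 (h : RelA x) : G := wn8 h * e1 h 0xba95674563459ab

/-- node 9 -/
noncomputable def wn9 (h : RelA x) : G := wn1 h * e0 h 0x23459a

/-- node 10 -/
noncomputable def wn10 (h : RelA x) : G := wn2 h * e0 h 0x23459a65976543254965

/-- node 11 -/
noncomputable def wn11 (h : RelA x) : G := wn1 h * e0 h 0x234596543a9765487659a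

/-- node 3 -/
noncomputable def wn3 (h : RelA x) : G := wn10 h * e1 h 0xba95674563459ab59876543597654a95678

/-- node 4 -/
noncomputable def wn4 (h : RelA x) : G := wn11 h * e1 h 0xba956459a763459876543

/-- node 5 -/
noncomputable def wn5 (h : RelA x) : G := wn10 h * e1 h 0xba95674563459ab564598765439654a95678

/-- node 6 -/
noncomputable def wn6 (h : RelA x) : G := wn9 h * e1 h 0xba95436597654a5965876

/-- node 12 -/
noncomputable def wn12 (h : RelA x) : G := wn4 h * e0 h 0x23459657a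

/-- node 13 -/
noncomputable def wn13 (h : RelA x) : G := wn3 h * e0 h 0x23

/-- node 7 -/
noncomputable def wn7 (h : RelA x) : G := wn12 h * e1 h 0xb

/-- The nodes. -/
noncomputable def w (h : RelA x) : ℕ → G
  | 0 => wn0 h
  | 1 => wn1 h
  | 2 => wn2 h
  | 3 => wn3 h
  | 4 => wn4 h
  | 5 => wn5 h
  | 6 => wn6 h
  | 7 => wn7 h
  | 8 => wn8 h
  | 9 => wn9 h
  | 10 => wn10 h
  | 11 => wn11 h
  | 12 => wn12 h
  | 13 => wn13 h
  | _ => 1

theorem fact_0 : sys22.fact 0 = ⟨2, 0, 0, 8, 0⟩ := rfl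
theorem fact_1 : sys22.fact 1 = ⟨0, 0, 0x8, 0, 0⟩ := rfl
theorem fact_4 : sys22.fact 4 = ⟨0, 0, 0x6, 0, 0⟩ := rfl
theorem fact_7 : sys22.fact 7 = ⟨0, 0, 0x2, 0, 0⟩ := rfl
theorem fact_8 : sys22.fact 8 = ⟨0, 0, 0x9, 0, 0⟩ := rfl
theorem fact_11 : sys22.fact 11 = ⟨0, 0, 0x3, 0, 0⟩ := rfl
theorem fact_12 : sys22.fact 12 = ⟨0, 0, 0x7, 0, 0⟩ := rfl
theorem fact_15 : sys22.fact 15 = ⟨0, 0, 0x4, 0, 0⟩ := rfl
theorem fact_16 : sys22.fact 16 = ⟨0, 0, 0xa, 0, 0⟩ := rfl
theorem fact_19 : sys22.fact 19 = ⟨0, 0, 0x5, 0, 0⟩ := rfl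
theorem fact_26 : sys22.fact 26 = ⟨2, 1, 0, 8, 0xb⟩ := rfl
theorem fact_44 : sys22.fact 44 = ⟨2, 2, 0, 8, 0xba95674563459ab⟩ := rfl
theorem fact_68 : sys22.fact 68 = ⟨2, 1, 0x23459a, 9, 0⟩ := rfl
theorem fact_100 : sys22.fact 100 = ⟨2, 2, 0x23459a65976543254965, 10, 0⟩ := rfl
theorem fact_115 : sys22.fact 115 = ⟨2, 3, 0, 10, 0xba95674563459ab59876543597654a95678⟩ := rfl
theorem fact_132 : sys22.fact 132 = ⟨2, 1, 0x234596543a9765487659a, 11, 0⟩ := rfl
theorem fact_155 : sys22.fact 155 = ⟨2, 4, 0, 11, 0xba956459a763459876543⟩ := rfl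
theorem fact_183 : sys22.fact 183 = ⟨2, 4, 0x23459657a, 12, 0⟩ := rfl
theorem fact_201 : sys22.fact 201 = ⟨2, 5, 0, 10, 0xba95674563459ab564598765439654a95678⟩ := rfl
theorem fact_209 : sys22.fact 209 = ⟨2, 6, 0, 9, 0xba95436597654a5965876⟩ := rfl
theorem fact_248 : sys22.fact 248 = ⟨2, 3, 0x23, 13, 0⟩ := rfl
theorem fact_269 : sys22.fact 269 = ⟨2, 7, 0, 12, 0xb⟩ := rfl


theorem f0_g22 (h : RelA x) (d : ℕ) : h.f0 (g22 d) = x (m0 (lt22 d)) :=
  h.f0_gen _

theorem f1_bgen (h : RelA x) (d : ℕ) : h.f1 (bgen d) = x (m1 (ltB d)) := h.f1_gen _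

theorem letter0 (h : RelA x) (d : ℕ) (h0 : d ≠ 0) (h1 : d < 16) : e0 h d = x (m0 (lt22 d)) := by
  unfold e0; rw [ev_letter _ d h0 h1, f0_g22]

theorem letter1 (h : RelA x) (d : ℕ) (h0 : d ≠ 0) (h1 : d < 16) : e1 h d = x (m1 (ltB d)) := by
  unfold e1; rw [ev_letter _ d h0 h1, f1_bgen]

/-- The homomorphisms of the two sorts. -/
noncomputable def φ (h : RelA x) (s : ℕ) : Fi22 × Fi22 →* G :=
  if s = 0 then h.f0.comp (MonoidHom.fst Fi22 Fi22) else h.f1.comp (MonoidHom.snd Fi22 Fi22)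

theorem φ_0 (h : RelA x) : φ h 0 = h.f0.comp (MonoidHom.fst Fi22 Fi22) := if_pos rfl

theorem φ_1 (h : RelA x) : φ h 1 = h.f1.comp (MonoidHom.snd Fi22 Fi22) := if_neg (by norm_num)

theorem pgen_0 (d : ℕ) : pgen 0 d = (g22 d, 1) := if_pos rfl

theorem pgen_1 (d : ℕ) : pgen 1 d = (1, bgen d) := if_neg (by norm_num)

theorem φ_zero (h : RelA x) (u : ℕ) : φ h 0 (Script.ev (pgen 0) u) = e0 h u := by
  unfold φ e0
  rw [if_pos rfl, MonoidHom.comp_apply]
  congr 1
  exact map_ev (MonoidHom.fst Fi22 Fi22) (pgen 0) u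

theorem φ_one (h : RelA x) (u : ℕ) : φ h 1 (Script.ev (pgen 1) u) = e1 h u := by
  unfold φ e1
  rw [if_neg (by norm_num), MonoidHom.comp_apply]
  congr 1
  exact map_ev (MonoidHom.snd Fi22 Fi22) (pgen 1) u

theorem glue (d : ℕ) (hd : (nat_lit 2040 : ℕ).testBit d = true) :
    m0 (lt22 d) = m1 (ltB d) := by
  have h1 : d < 11 := by
    by_contra hc
    have : (2040 : ℕ).testBit d = false :=
      Nat.testBit_lt_two_pow (lt_of_lt_of_le (by norm_num) (Nat.pow_le_pow_right (n := 2) (by norm_num) (not_lt.1 hc)))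
    rw [show (nat_lit 2040 : ℕ) = 2040 from rfl, this] at hd
    exact absurd hd (by simp)
  interval_cases d <;> first | rfl | exact absurd hd (by decide)

theorem φ_glue (h : RelA x) (d : ℕ) (hd : (nat_lit 2040 : ℕ).testBit d = true) :
    φ h 0 (pgen 0 d) = φ h 1 (pgen 1 d) := by
  rw [φ_0, φ_1, pgen_0, pgen_1, MonoidHom.comp_apply, MonoidHom.comp_apply]
  show h.f0 (g22 d) = h.f1 (bgen d)
  rw [f0_g22, f1_bgen, glue d hd]

/-- The model. -/
noncomputable def model (h : RelA x) : Model sys22 (Fi22 × Fi22) G where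
  gen := pgen
  img := pimg
  act_img := act_img
  img_inj := pimg_injective
  img_one := pimg_one
  φ := φ h
  H := X x
  w := w h
  g _ := 1
  g_silent _ _ := rfl
  transport := by
    intro τ d hd
    rw [mul_one, one_mul]
    have hs : ∀ n : ℕ, Nat.beq (Nat.land n 1) 1 = false ∨ Nat.beq (Nat.land n 1) 1 = true := fun n => by
      cases Nat.beq (Nat.land n 1) 1 <;> simp
    cases h1 : Nat.ble τ 1 with
    | true =>
      have : τ = 0 ∨ τ = 1 := by have := Nat.le_of_ble_eq_true h1; omega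
      rcases this with rfl | rfl <;> rfl
    | false =>
      have hm : sys22.mask τ = nat_lit 2040 := by
        show (Bool.rec 0x7f8 _ (Nat.ble τ 1) : ℕ) = _
        rw [h1]
      rw [hm] at hd
      have ht : sys22.tgt τ = (Bool.rec 1 0 (Nat.beq τ 3) : ℕ) := by
        show (Bool.rec (Bool.rec 1 0 (Nat.beq τ 3)) τ (Nat.ble τ 1) : ℕ) = _
        rw [h1]
      have hsr : sys22.src τ = (Bool.rec 0 1 (Nat.beq (Nat.land τ 1) 1) : ℕ) := rfl
      rw [ht, hsr]
      rcases hs τ with h2 | h2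
      · rw [h2]
        cases h3 : Nat.beq τ 3 with
        | true => rfl
        | false => exact φ_glue h d hd
      · rw [h2]
        cases h3 : Nat.beq τ 3 with
        | true => exact (φ_glue h d hd).symm
        | false => rfl

theorem mem_X (x : Fin 10 → G) (t : Fin 10)
    (ht : t ∈ ({0, 1, 2, 3, 4, 5, 6, 7, 8} : Set (Fin 10))) : x t ∈ X x := by
  apply Subgroup.subset_closure
  simp only [Set.mem_insert_iff, Set.mem_singleton_iff] at ht ⊢
  rcases ht with rfl | rfl | rfl | rfl | rfl | rfl | rfl | rfl | rfl <;> simp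

theorem holds_iff (h : RelA x) (τ i a j b : ℕ) : (model h).Holds ⟨τ, i, a, j, b⟩ ↔
    (model h).R (w h i * φ h (sys22.src τ) (Script.ev (pgen (sys22.src τ)) a) * 1)
      (w h j * φ h (sys22.tgt τ) (Script.ev (pgen (sys22.tgt τ)) b)) := Iff.rfl

theorem src0 : sys22.src 0 = 0 := rfl
theorem src1 : sys22.src 1 = 1 := rfl
theorem src2 : sys22.src 2 = 0 := rfl
theorem src3 : sys22.src 3 = 1 := rfl
theorem tgt0 : sys22.tgt 0 = 0 := rfl
theorem tgt1 : sys22.tgt 1 = 1 := rfl
theorem tgt2 : sys22.tgt 2 = 1 := rfl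
theorem tgt3 : sys22.tgt 3 = 0 := rfl

/-- The given facts of type 2. -/
theorem given2 (h : RelA x) {n i j a b : ℕ} (hf : sys22.fact n = ⟨2, i, a, j, b⟩)
    (hw : w h i * e0 h a = w h j * e1 h b) : (model h).Holds (sys22.fact n) := by
  rw [hf, holds_iff, src2, tgt2, φ_zero, φ_one, mul_one, hw]
  exact Model.R_refl _ _

/-- The given facts of type 0. -/
theorem given0 (h : RelA x) {n a : ℕ} (hf : sys22.fact n = ⟨0, 0, a, 0, 0⟩)
    (hw : e0 h a ∈ X x) : (model h).Holds (sys22.fact n) := by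
  rw [hf, holds_iff, src0, tgt0, φ_zero, φ_zero, mul_one]
  unfold Model.R
  have : e0 h 0 = 1 := by unfold e0; rw [ev_zero, map_one]
  rw [this]
  show wn0 h * e0 h a * (wn0 h * 1)⁻¹ ∈ X x
  unfold wn0
  rw [one_mul, one_mul, inv_one, mul_one]
  exact hw

theorem e0_zero (h : RelA x) : e0 h 0 = 1 := by unfold e0; rw [ev_zero, map_one]
theorem e1_zero (h : RelA x) : e1 h 0 = 1 := by unfold e1; rw [ev_zero, map_one]

/-- The numbers of the given facts. -/
noncomputable def gv : List ℕ := [0, 1, 4, 7, 8, 11, 12, 15, 16, 19, 26, 44, 68, 100, 115, 132, 155, 183, 201, 209, 248, 269]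

theorem given (h : RelA x) : ∀ n ∈ gv, (model h).Holds (sys22.fact n) := by
  intro n hn
  simp only [gv, List.mem_cons, List.not_mem_nil, or_false] at hn
  rcases hn with rfl | rfl | rfl | rfl | rfl | rfl | rfl | rfl | rfl | rfl | rfl | rfl | rfl | rfl | rfl | rfl | rfl | rfl | rfl | rfl | rfl | rfl
  · refine given2 h fact_0 ?_
    rw [e1_zero, mul_one]; rfl
  · refine given0 h fact_1 ?_
    rw [letter0 h _ (by norm_num) (by norm_num)]
    exact mem_X x _ (by show (6 : Fin 10) ∈ _; simp)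
  · refine given0 h fact_4 ?_
    rw [letter0 h _ (by norm_num) (by norm_num)]
    exact mem_X x _ (by show (4 : Fin 10) ∈ _; simp)
  · refine given0 h fact_7 ?_
    rw [letter0 h _ (by norm_num) (by norm_num)]
    exact mem_X x _ (by show (0 : Fin 10) ∈ _; simp)
  · refine given0 h fact_8 ?_
    rw [letter0 h _ (by norm_num) (by norm_num)]
    exact mem_X x _ (by show (7 : Fin 10) ∈ _; simp)
  · refine given0 h fact_11 ?_
    rw [letter0 h _ (by norm_num) (by norm_num)]
    exact mem_X x _ (by show (1 : Fin 10) ∈ _; simp)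
  · refine given0 h fact_12 ?_
    rw [letter0 h _ (by norm_num) (by norm_num)]
    exact mem_X x _ (by show (5 : Fin 10) ∈ _; simp)
  · refine given0 h fact_15 ?_
    rw [letter0 h _ (by norm_num) (by norm_num)]
    exact mem_X x _ (by show (2 : Fin 10) ∈ _; simp)
  · refine given0 h fact_16 ?_
    rw [letter0 h _ (by norm_num) (by norm_num)]
    exact mem_X x _ (by show (8 : Fin 10) ∈ _; simp)
  · refine given0 h fact_19 ?_
    rw [letter0 h _ (by norm_num) (by norm_num)]
    exact mem_X x _ (by show (3 : Fin 10) ∈ _; simp)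
  · refine given2 h fact_26 ?_
    rw [e0_zero, mul_one]; rfl
  · refine given2 h fact_44 ?_
    rw [e0_zero, mul_one]; rfl
  · refine given2 h fact_68 ?_
    rw [e1_zero, mul_one]; rfl
  · refine given2 h fact_100 ?_
    rw [e1_zero, mul_one]; rfl
  · refine given2 h fact_115 ?_
    rw [e0_zero, mul_one]; rfl
  · refine given2 h fact_132 ?_
    rw [e1_zero, mul_one]; rfl
  · refine given2 h fact_155 ?_
    rw [e0_zero, mul_one]; rfl
  · refine given2 h fact_183 ?_
    rw [e1_zero, mul_one]; rfl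
  · refine given2 h fact_201 ?_
    rw [e0_zero, mul_one]; rfl
  · refine given2 h fact_209 ?_
    rw [e0_zero, mul_one]; rfl
  · refine given2 h fact_248 ?_
    rw [e1_zero, mul_one]; rfl
  · refine given2 h fact_269 ?_
    rw [e0_zero, mul_one]; rfl

theorem rules (h : RelA x) (r : ℕ) : (model h).syls (sys22.rsyl r) = (model h).g (sys22.rty r) := by
  have hc : x 0 * x 9 = x 9 * x 0 := h.comm
  have h2 : x 0 * x 0 = 1 := h.sq0
  have h11 : x 9 * x 9 = 1 := h.sq9
  have k0 : (model h).syl (.K 0 0x2) = x 0 := by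
    show φ h 0 (Script.ev (pgen 0) 0x2) = _
    rw [φ_zero, letter0 h _ (by norm_num) (by norm_num)]; rfl
  have k1 : (model h).syl (.K 1 0xb) = x 9 := by
    show φ h 1 (Script.ev (pgen 1) 0xb) = _
    rw [φ_one, letter1 h _ (by norm_num) (by norm_num)]; rfl
  have hA : (model h).syls [.K 1 0xb, .K 0 0x2, .K 1 0xb, .K 0 0x2] = 1 := by
    simp only [Model.syls_cons, Model.syls_nil, k0, k1, mul_one]
    rw [← mul_assoc (x 0) (x 9), hc, mul_assoc (x 9) (x 0), h2, mul_one, h11]
  have hB : (model h).syls [.K 0 0x2, .K 1 0xb, .K 0 0x2, .K 1 0xb] = 1 := by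
    simp only [Model.syls_cons, Model.syls_nil, k0, k1, mul_one]
    rw [← mul_assoc (x 9) (x 0), ← hc, mul_assoc (x 0) (x 9), h11, mul_one, h2]
  show (model h).syls (Bool.rec (Bool.rec [.K 1 0xb, .K 0 0x2, .K 1 0xb, .K 0 0x2]
    [.K 0 0x2, .K 1 0xb, .K 0 0x2, .K 1 0xb] (Nat.ble (Nat.land (Nat.sub r 1) 3) 1)) [] (Nat.ble r 3)) = 1
  cases Nat.ble r 3 with
  | true => exact Model.syls_nil _
  | false =>
    cases Nat.ble (Nat.land (Nat.sub r 1) 3) 1 with
    | true => exact hB
    | false => exact hA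

/-- All lists of items. -/
noncomputable def allItems : List (List Item) := [items0, items1, items2, items3, items4, items5, items6, items7, items8, items9, items10, items11, items12, items13, items14, items15]

theorem chkAll : ∀ l ∈ allItems, chkItems sys22 l = true := by
  intro l hl
  simp only [allItems, List.mem_cons, List.not_mem_nil, or_false] at hl
  rcases hl with rfl | rfl | rfl | rfl | rfl | rfl | rfl | rfl | rfl | rfl | rfl | rfl | rfl | rfl | rfl | rfl
  · exact chk0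
  · exact chk1
  · exact chk2
  · exact chk3
  · exact chk4
  · exact chk5
  · exact chk6
  · exact chk7
  · exact chk8
  · exact chk9
  · exact chk10
  · exact chk11
  · exact chk12
  · exact chk13
  · exact chk14
  · exact chk15

theorem comp : complete gv allItems 298 = true := by decide +kernel

/-- All facts of stage A. -/
theorem holds (h : RelA x) : ∀ n < 298, (model h).Holds (sys22.fact n) :=
  (model h).all_hold_of_items 298 gv allItems chkAll comp (given h) (rules h)

/-- An edge. -/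
theorem edge2 (h : RelA x) {n i a j b : ℕ} (hn : n < 298) (hf : sys22.fact n = ⟨2, i, a, j, b⟩) :
    DCE.SameC (X x) (w h i * e0 h a) (w h j * e1 h b) := by
  have := holds h n hn
  rw [hf, holds_iff, src2, tgt2, φ_zero, φ_one, mul_one] at this
  exact this

/-- An edge, written from the other side. -/
theorem edge3 (h : RelA x) {n i a j b : ℕ} (hn : n < 298) (hf : sys22.fact n = ⟨3, j, b, i, a⟩) :
    DCE.SameC (X x) (w h i * e0 h a) (w h j * e1 h b) := by
  have := holds h n hn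
  rw [hf, holds_iff, src3, tgt3, φ_zero, φ_one, mul_one] at this
  exact DCE.SameC.symm this

/-- A stabiliser element of a node of sort 0. -/
theorem stab0 (h : RelA x) {n i a : ℕ} (hn : n < 298) (hf : sys22.fact n = ⟨0, i, a, i, 0⟩) :
    w h i * e0 h a * (w h i)⁻¹ ∈ X x := by
  have := holds h n hn
  rw [hf, holds_iff, src0, tgt0, φ_zero, φ_zero, mul_one, e0_zero, mul_one] at this
  exact this

/-- A stabiliser element of a node of sort 1. -/
theorem stab1 (h : RelA x) {n i a : ℕ} (hn : n < 298) (hf : sys22.fact n = ⟨1, i, a, i, 0⟩) :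
    w h i * e1 h a * (w h i)⁻¹ ∈ X x := by
  have := holds h n hn
  rw [hf, holds_iff, src1, tgt1, φ_one, φ_one, mul_one, e1_zero, mul_one] at this
  exact this

end Cfsg.Agent.BM.CertA22
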