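import Cfsg.Agent.BM.CertBChk

/-!
Stage B of S1704: the nodes, the stabiliser words, the double coset representatives, and the facts about them, for
every group with the relations of the Baby Monster and an arm swap.
-/

set_option autoImplicit false
set_option maxRecDepth 100000
set_option linter.unusedSectionVars false

namespace Cfsg.Agent.BM.CertB

open Cfsg.Agent.BM.Script Cfsg.Agent.BM.Psi Cfsg.Agent.BM.FactsB Cfsg.Agent.BM.DCE Cfsg.Agent.BM.AssembleB Cfsg.Agent.BM.CertBLib
open Cfsg.Agent.BM.CoverChk (wd nth)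
open Cfsg.Spor

variable {G : Type*} [Group G] {x : BabyMonster.Gen → G}

/-- node 0 -/
noncomputable def wn0 (_ : G →* G) (_ : Rel x) : G := 1

/-- node 1 -/
noncomputable def wn1 (arm : G →* G) (h : Rel x) : G := arm (wn0 arm h * e0 h 0x87654329543657a95436547687956a954321)

/-- node 2 -/
noncomputable def wn2 (arm : G →* G) (h : Rel x) : G := arm (wn0 arm h * e0 h 0x87654321)

/-- node 3 -/
noncomputable def wn3 (arm : G →* G) (h : Rel x) : G := arm (wn2 arm h * e0 h 0x8765432195432657a954326543765879543659a95436547687956)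

/-- node 4 -/
noncomputable def wn4 (arm : G →* G) (h : Rel x) : G := arm (wn3 arm h * e0 h 0x876543219543657a9543265437687954659a95432165437658795432654376954a95678)

/-- node 5 -/
noncomputable def wn5 (arm : G →* G) (h : Rel x) : G := arm (wn2 arm h * e0 h 0x87654329543657a95436547687956)

/-- node 6 -/
noncomputable def wn6 (arm : G →* G) (h : Rel x) : G := arm (wn2 arm h * e0 h 0x87654395467a956)

/-- node 7 -/
noncomputable def wn7 (arm : G →* G) (h : Rel x) : G := arm (wn3 arm h * e0 h 0x8)

/-- The nodes. -/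
noncomputable def w (arm : G →* G) (h : Rel x) : ℕ → G
  | 0 => wn0 arm h
  | 1 => wn1 arm h
  | 2 => wn2 arm h
  | 3 => wn3 arm h
  | 4 => wn4 arm h
  | 5 => wn5 arm h
  | 6 => wn6 arm h
  | 7 => wn7 arm h
  | _ => 1

theorem fact_0 : F 0 = ⟨0, 0, 0x2, 0, 0⟩ := rfl
theorem fact_1 : F 1 = ⟨0, 0, 0x3, 0, 0⟩ := rfl
theorem fact_2 : F 2 = ⟨0, 0, 0x4, 0, 0⟩ := rfl
theorem fact_3 : F 3 = ⟨0, 0, 0x5, 0, 0⟩ := rfl
theorem fact_4 : F 4 = ⟨0, 0, 0x6, 0, 0⟩ := rfl
theorem fact_5 : F 5 = ⟨0, 0, 0x7, 0, 0⟩ := rfl
theorem fact_6 : F 6 = ⟨0, 0, 0x8, 0, 0⟩ := rfl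
theorem fact_7 : F 7 = ⟨0, 0, 0x9, 0, 0⟩ := rfl
theorem fact_8 : F 8 = ⟨0, 0, 0xa, 0, 0⟩ := rfl
theorem fact_9 : F 9 = ⟨2, 0, 0, 1, 0⟩ := rfl
theorem fact_10 : F 10 = ⟨2, 0, 0x87654329543657a95436547687956a954321, 3, 0⟩ := rfl
theorem fact_19 : F 19 = ⟨2, 0, 0x87654321, 5, 0⟩ := rfl
theorem fact_33 : F 33 = ⟨2, 4, 0x8765432195432657a954326543765879543659a95436547687956, 7, 0⟩ := rfl
theorem fact_44 : F 44 = ⟨2, 6, 0x876543219543657a9543265437687954659a95432165437658795432654376954a95678, 9, 0⟩ := rfl
theorem fact_47 : F 47 = ⟨2, 4, 0x87654329543657a95436547687956, 11, 0⟩ := rfl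
theorem fact_67 : F 67 = ⟨2, 4, 0x87654395467a956, 13, 0⟩ := rfl
theorem fact_103 : F 103 = ⟨2, 6, 0x8, 15, 0⟩ := rfl

variable {arm : G →* G} (harm : ∀ t, arm (x t) = x (swap t)) (harm2 : ∀ y, arm (arm y) = y)
include harm harm2

theorem given_0 (h : Rel x) : (model h arm (w arm h) F).Holds (F 0) := by
  rw [fact_0]
  exact given_letter arm h (w arm h) F (i := 0) (d := 0x2) rfl (by decide)

theorem given_1 (h : Rel x) : (model h arm (w arm h) F).Holds (F 1) := by
  rw [fact_1]
  exact given_letter arm h (w arm h) F (i := 0) (d := 0x3) rfl (by decide)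

theorem given_2 (h : Rel x) : (model h arm (w arm h) F).Holds (F 2) := by
  rw [fact_2]
  exact given_letter arm h (w arm h) F (i := 0) (d := 0x4) rfl (by decide)

theorem given_3 (h : Rel x) : (model h arm (w arm h) F).Holds (F 3) := by
  rw [fact_3]
  exact given_letter arm h (w arm h) F (i := 0) (d := 0x5) rfl (by decide)

theorem given_4 (h : Rel x) : (model h arm (w arm h) F).Holds (F 4) := by
  rw [fact_4]
  exact given_letter arm h (w arm h) F (i := 0) (d := 0x6) rfl (by decide)

theorem given_5 (h : Rel x) : (model h arm (w arm h) F).Holds (F 5) := by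
  rw [fact_5]
  exact given_letter arm h (w arm h) F (i := 0) (d := 0x7) rfl (by decide)

theorem given_6 (h : Rel x) : (model h arm (w arm h) F).Holds (F 6) := by
  rw [fact_6]
  exact given_letter arm h (w arm h) F (i := 0) (d := 0x8) rfl (by decide)

theorem given_7 (h : Rel x) : (model h arm (w arm h) F).Holds (F 7) := by
  rw [fact_7]
  exact given_letter arm h (w arm h) F (i := 0) (d := 0x9) rfl (by decide)

theorem given_8 (h : Rel x) : (model h arm (w arm h) F).Holds (F 8) := by
  rw [fact_8]
  exact given_letter arm h (w arm h) F (i := 0) (d := 0xa) rfl (by decide)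

theorem given_9 (h : Rel x) : (model h arm (w arm h) F).Holds (F 9) := by
  rw [fact_9]
  exact given_self arm harm h (w arm h) F (i := 0) rfl

theorem given_10 (h : Rel x) : (model h arm (w arm h) F).Holds (F 10) := by
  rw [fact_10]
  exact given_two arm harm harm2 h (w arm h) F (i := 0) (j := 1) rfl

theorem given_19 (h : Rel x) : (model h arm (w arm h) F).Holds (F 19) := by
  rw [fact_19]
  exact given_two arm harm harm2 h (w arm h) F (i := 0) (j := 2) rfl

theorem given_33 (h : Rel x) : (model h arm (w arm h) F).Holds (F 33) := by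
  rw [fact_33]
  exact given_two arm harm harm2 h (w arm h) F (i := 2) (j := 3) rfl

theorem given_44 (h : Rel x) : (model h arm (w arm h) F).Holds (F 44) := by
  rw [fact_44]
  exact given_two arm harm harm2 h (w arm h) F (i := 3) (j := 4) rfl

theorem given_47 (h : Rel x) : (model h arm (w arm h) F).Holds (F 47) := by
  rw [fact_47]
  exact given_two arm harm harm2 h (w arm h) F (i := 2) (j := 5) rfl

theorem given_67 (h : Rel x) : (model h arm (w arm h) F).Holds (F 67) := by
  rw [fact_67]
  exact given_two arm harm harm2 h (w arm h) F (i := 2) (j := 6) rfl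

theorem given_103 (h : Rel x) : (model h arm (w arm h) F).Holds (F 103) := by
  rw [fact_103]
  exact given_two arm harm harm2 h (w arm h) F (i := 3) (j := 7) rfl

theorem given (h : Rel x) : ∀ n ∈ gv, (model h arm (w arm h) F).Holds (F n) := by
  intro n hn
  simp only [gv, List.mem_cons, List.not_mem_nil, or_false] at hn
  rcases hn with rfl | rfl | rfl | rfl | rfl | rfl | rfl | rfl | rfl | rfl | rfl | rfl | rfl | rfl | rfl | rfl | rfl
  · exact given_0 harm harm2 h
  · exact given_1 harm harm2 h
  · exact given_2 harm harm2 h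
  · exact given_3 harm harm2 h
  · exact given_4 harm harm2 h
  · exact given_5 harm harm2 h
  · exact given_6 harm harm2 h
  · exact given_7 harm harm2 h
  · exact given_8 harm harm2 h
  · exact given_9 harm harm2 h
  · exact given_10 harm harm2 h
  · exact given_19 harm harm2 h
  · exact given_33 harm harm2 h
  · exact given_44 harm harm2 h
  · exact given_47 harm harm2 h
  · exact given_67 harm harm2 h
  · exact given_103 harm harm2 h

/-- **All facts hold.** -/
theorem hold (h : Rel x) : ∀ n < 136, (model h arm (w arm h) F).Holds (F n) :=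
  all_hold_of_items harm harm2 h (w arm h) F 136 gv items items_ok items_complete (given harm harm2 h)

omit harm harm2

/-- stabiliser words of the node 0 -/
noncomputable def gn0 : List Gn := [
  ⟨0x2, 0⟩,
  ⟨0x3, 1⟩,
  ⟨0x4, 2⟩,
  ⟨0x5, 3⟩,
  ⟨0x6, 4⟩,
  ⟨0x7, 5⟩,
  ⟨0x8, 6⟩,
  ⟨0x9, 7⟩,
  ⟨0xa, 8⟩]

/-- representatives of the node 0 -/
noncomputable def ed0 : List Ed := [
  ⟨0, 9, false, 0⟩,
  ⟨0x87654321, 19, false, 2⟩,
  ⟨0x87654329543657a95436547687956a954321, 10, false, 1⟩]

theorem gn0_ok : allGn F 136 0 gn0 = true := by decide +kernel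

theorem ed0_ok : allEd F 136 8 0 ed0 = true := by decide +kernel

/-- stabiliser words of the node 1 -/
noncomputable def gn1 : List Gn := [
  ⟨0x9564593456a9543234569543956a9546, 14⟩,
  ⟨0x56345976543216756459345623459765432956459765436597654956, 80⟩]

/-- representatives of the node 1 -/
noncomputable def ed1 : List Ed := [
  ⟨0, 10, true, 0⟩,
  ⟨0x8, 77, false, 6⟩,
  ⟨0x876543954a95678, 102, false, 1⟩,
  ⟨0x8765432954a95678, 94, false, 5⟩,
  ⟨0x592a8765432195432657a95432654376954a95678, 96, false, 1⟩,
  ⟨0x8593456745923456a95432195673456a9543295674593456a954356954567956a958765432954a95678, 123, true, 7⟩,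
  ⟨0x876543219543657a9543265437687954659a95432165437658795432654376954a95678, 131, false, 4⟩,
  ⟨0x876543219543657a9543265437687954659a954321654327658795432654376954a95678, 99, false, 1⟩]

theorem gn1_ok : allGn F 136 1 gn1 = true := by decide +kernel

theorem ed1_ok : allEd F 136 8 1 ed1 = true := by decide +kernel

/-- stabiliser words of the node 2 -/
noncomputable def gn2 : List Gn := [
  ⟨0x1, 24⟩,
  ⟨0xa, 25⟩,
  ⟨0x7, 28⟩,
  ⟨0x8, 31⟩,
  ⟨0x659456723456954327345695437695469569, 29⟩]

/-- representatives of the node 2 -/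
noncomputable def ed2 : List Ed := [
  ⟨0, 19, true, 0⟩,
  ⟨0x876, 32, false, 2⟩,
  ⟨0x87654395467a956, 67, false, 6⟩,
  ⟨0x87654329543657a95436547687956, 47, false, 5⟩,
  ⟨0x8765432195432657a954326543765879543659a95436547687956, 33, false, 3⟩]

theorem gn2_ok : allGn F 136 2 gn2 = true := by decide +kernel

theorem ed2_ok : allEd F 136 8 2 ed2 = true := by decide +kernel

/-- stabiliser words of the node 3 -/
noncomputable def gn3 : List Gn := [
  ⟨0x7563459a1234597654321a345965432a9543a954a5987656a, 86⟩,
  ⟨0x1234567956a9543213456723456a9543245695434567956a954656a9, 43⟩]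

/-- representatives of the node 3 -/
noncomputable def ed3 : List Ed := [
  ⟨0, 33, true, 2⟩,
  ⟨0x8, 103, false, 7⟩,
  ⟨0x876549, 101, false, 5⟩,
  ⟨0x87654329543a954678, 134, false, 3⟩,
  ⟨0x876543219543657a9543265437687954659a95432165437658795432654376954a95678, 44, false, 4⟩]

theorem gn3_ok : allGn F 136 3 gn3 = true := by decide +kernel

theorem ed3_ok : allEd F 136 8 3 ed3 = true := by decide +kernel

/-- stabiliser words of the node 4 -/
noncomputable def gn4 : List Gn := [
  ⟨0xa9234567123456954321569543259456a9543a9567456a95495a9a, 45⟩,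
  ⟨0x67563459a7345612345987654321967456234598765432a595674563459a4563459876543659a4597654a987657a, 133⟩]

/-- representatives of the node 4 -/
noncomputable def ed4 : List Ed := [
  ⟨0, 44, true, 3⟩,
  ⟨0x87654321954a9, 135, false, 4⟩,
  ⟨0x85945672345695432164593456745923456a9543273456954369a594567659456a954956a957697, 131, true, 1⟩]

theorem gn4_ok : allGn F 136 4 gn4 = true := by decide +kernel

theorem ed4_ok : allEd F 136 8 4 ed4 = true := by decide +kernel

/-- stabiliser words of the node 5 -/
noncomputable def gn5 : List Gn := [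
  ⟨0x7659a4596756459876543257a, 60⟩,
  ⟨0x74563459a563459765436459a564597654965a, 53⟩,
  ⟨0x7459345623459123456a9543214593456a95432345695436594567659456a9547659, 57⟩]

/-- representatives of the node 5 -/
noncomputable def ed5 : List Ed := [
  ⟨0, 47, true, 2⟩,
  ⟨0x8, 87, false, 6⟩,
  ⟨0x8765432954, 61, false, 5⟩,
  ⟨0x8765439546, 62, false, 5⟩,
  ⟨0x8765432195436a9546, 90, false, 5⟩,
  ⟨0x8564593456745923456a954325645934567659456a95436a594567659456a9546576a9a78594567234569543273456954376954769569, 94, true, 1⟩,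
  ⟨0x84569a594567659456a954321a594567923456a95432a9345679456a95439a594567659456a954a9576a9a8, 101, true, 3⟩,
  ⟨0xa765632a198765432195436578a9543265437689543a95678, 66, false, 5⟩,
  ⟨0x8a9234567123456954321675695432567659456a9543945679456a954956a956a9a873456954376954956, 114, true, 7⟩]

theorem gn5_ok : allGn F 136 5 gn5 = true := by decide +kernel

theorem ed5_ok : allEd F 136 8 5 ed5 = true := by decide +kernel

/-- stabiliser words of the node 6 -/
noncomputable def gn6 : List Gn := [
  ⟨0xa596756459876547659876568a, 89⟩,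
  ⟨0x34569a59456345923456a9543265465, 75⟩,
  ⟨0x234567123456954321675695432673456954345695456956, 76⟩]

/-- representatives of the node 6 -/
noncomputable def ed6 : List Ed := [
  ⟨0, 67, true, 2⟩,
  ⟨0x87659a, 91, false, 6⟩,
  ⟨0x87654395a, 92, false, 6⟩,
  ⟨0x87654329543657, 77, true, 1⟩,
  ⟨0x8765432954365a7, 87, true, 5⟩,
  ⟨0x16462a87654329543a954657, 93, false, 6⟩,
  ⟨0x8a95432167569543259456a9543695476569a7, 120, true, 7⟩,
  ⟨0x892345675923456a9543216a594567659456a9543267956a954369a594567659456a95469576a7869a459345623459123456a9543219a59234567659456a95432567564593456a954356954a95a9a, 121, true, 7⟩]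

theorem gn6_ok : allGn F 136 6 gn6 = true := by decide +kernel

theorem ed6_ok : allEd F 136 8 6 ed6 = true := by decide +kernel

/-- stabiliser words of the node 7 -/
noncomputable def gn7 : List Gn := [
  ⟨0x65934561234597654321765432659456345976543567, 119⟩,
  ⟨0x956459a9745634598765438756459a7645987654659765a9876a, 117⟩]

/-- representatives of the node 7 -/
noncomputable def ed7 : List Ed := [
  ⟨0, 103, true, 3⟩,
  ⟨0x8, 120, false, 6⟩,
  ⟨0xa8765439546a, 114, false, 5⟩,
  ⟨0x87654329546a95678, 125, false, 7⟩,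
  ⟨0x87654329543a954678, 121, false, 6⟩,
  ⟨0xa46876543219546576a95436547658769a, 123, false, 1⟩,
  ⟨0x876543219543657a95432654376954a95678, 124, false, 7⟩,
  ⟨0x8765432195436579a95432654376879546579a954678, 127, false, 7⟩]

theorem gn7_ok : allGn F 136 7 gn7 = true := by decide +kernel

theorem ed7_ok : allEd F 136 8 7 ed7 = true := by decide +kernel

/-- stabiliser words -/
noncomputable def sg : ℕ → List ℕ
  | 0 => wordsG gn0
  | 1 => wordsG gn1
  | 2 => wordsG gn2
  | 3 => wordsG gn3
  | 4 => wordsG gn4
  | 5 => wordsG gn5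
  | 6 => wordsG gn6
  | 7 => wordsG gn7
  | _ => []

/-- representatives -/
noncomputable def ks : ℕ → List ℕ
  | 0 => wordsE ed0
  | 1 => wordsE ed1
  | 2 => wordsE ed2
  | 3 => wordsE ed3
  | 4 => wordsE ed4
  | 5 => wordsE ed5
  | 6 => wordsE ed6
  | 7 => wordsE ed7
  | _ => []

include harm harm2

theorem stab (h : Rel x) : ∀ i < 8, ∀ u ∈ sg i, w arm h i * psi h (wd u) * (w arm h i)⁻¹ ∈ HB x := by
  intro i hi
  interval_cases i
  · exact stab_of_check arm h (w arm h) F (hold harm harm2 h) gn0_ok
  · exact stab_of_check arm h (w arm h) F (hold harm harm2 h) gn1_ok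
  · exact stab_of_check arm h (w arm h) F (hold harm harm2 h) gn2_ok
  · exact stab_of_check arm h (w arm h) F (hold harm harm2 h) gn3_ok
  · exact stab_of_check arm h (w arm h) F (hold harm harm2 h) gn4_ok
  · exact stab_of_check arm h (w arm h) F (hold harm harm2 h) gn5_ok
  · exact stab_of_check arm h (w arm h) F (hold harm harm2 h) gn6_ok
  · exact stab_of_check arm h (w arm h) F (hold harm harm2 h) gn7_ok

theorem edge (h : Rel x) : ∀ i < 8, ∀ e < (ks i).length, ∃ j < 8, ∃ y,
    SameC (HB x) (w arm h i * psi h (wd (nth (ks i) e))) (arm (w arm h j * psi h y)) := by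
  intro i hi
  interval_cases i
  · exact edge_of_check arm harm harm2 h (w arm h) F (hold harm harm2 h) ed0_ok
  · exact edge_of_check arm harm harm2 h (w arm h) F (hold harm harm2 h) ed1_ok
  · exact edge_of_check arm harm harm2 h (w arm h) F (hold harm harm2 h) ed2_ok
  · exact edge_of_check arm harm harm2 h (w arm h) F (hold harm harm2 h) ed3_ok
  · exact edge_of_check arm harm harm2 h (w arm h) F (hold harm harm2 h) ed4_ok
  · exact edge_of_check arm harm harm2 h (w arm h) F (hold harm harm2 h) ed5_ok
  · exact edge_of_check arm harm harm2 h (w arm h) F (hold harm harm2 h) ed6_ok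
  · exact edge_of_check arm harm harm2 h (w arm h) F (hold harm harm2 h) ed7_ok

end Cfsg.Agent.BM.CertB
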