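import Cfsg.Agent.BM.AssembleB

/-!
# Stage B of S1704: reading the final data off the certificate

`gs i` lists the generator words of the stabiliser of the node `i` with the numbers of the facts, `es i` the double
coset representatives of the node `i` with the numbers of the facts (`dir = true`: the fact is read backwards in its
mirror image).
-/

set_option autoImplicit false
set_option maxRecDepth 100000

namespace Cfsg.Agent.BM.CertBLib

open Cfsg.Agent.Lib.PermNet Cfsg.Agent.BM.Script Cfsg.Agent.BM.Psi Cfsg.Agent.BM.FactsB Cfsg.Agent.BM.DCE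
open Cfsg.Agent.BM.AssembleB
open Cfsg.Agent.BM.CoverChk (wd nth)
open Cfsg.Spor

/-- The fact is `(ty, i, a, j, b)`. -/
noncomputable def isF (f : Fact) (ty i a j b : ℕ) : Bool :=
  and (Nat.beq f.ty ty) <| and (Nat.beq f.i i) <| and (Nat.beq f.a a) <| and (Nat.beq f.j j) (Nat.beq f.b b)

theorem isF_spec {f : Fact} {ty i a j b : ℕ} (h : isF f ty i a j b = true) : f = ⟨ty, i, a, j, b⟩ := by
  unfold isF at h
  simp only [Bool.and_eq_true] at h
  obtain ⟨h1, h2, h3, h4, h5⟩ := h
  cases f with
  | mk a1 a2 a3 a4 a5 =>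
    rw [Fact.mk.injEq]
    exact ⟨Nat.eq_of_beq_eq_true h1, Nat.eq_of_beq_eq_true h2, Nat.eq_of_beq_eq_true h3,
      Nat.eq_of_beq_eq_true h4, Nat.eq_of_beq_eq_true h5⟩

/-- Generator word and number of its fact. -/
structure Gn : Type where
  u : ℕ
  n : ℕ

/-- Representative, number of its fact, direction, the other node. -/
structure Ed : Type where
  k : ℕ
  n : ℕ
  dir : Bool
  j : ℕ

noncomputable def gnB (F : ℕ → Fact) (N i : ℕ) (g : Gn) : Bool :=
  and (Nat.ble (Nat.succ g.n) N) (isF (F g.n) 0 (Nat.mul 2 i) g.u (Nat.mul 2 i) 0)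

noncomputable def edB (F : ℕ → Fact) (N m i : ℕ) (e : Ed) : Bool :=
  and (Nat.ble (Nat.succ e.n) N) <| and (Nat.ble (Nat.succ e.j) m) <|
  (fun f : Fact => Bool.rec
    (and (Nat.beq f.ty 2) <| and (Nat.beq f.i (Nat.mul 2 i)) <| and (Nat.beq f.a e.k)
      (Nat.beq f.j (Nat.succ (Nat.mul 2 e.j))))
    (and (Nat.beq f.ty 2) <| and (Nat.beq f.i (Nat.mul 2 e.j)) <| and (Nat.beq f.b (sww e.k))
      (Nat.beq f.j (Nat.succ (Nat.mul 2 i)))) e.dir) (F e.n)

noncomputable def allGn (F : ℕ → Fact) (N i : ℕ) (l : List Gn) : Bool :=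
  List.rec (motive := fun _ => Bool) true (fun g _ ih => and (gnB F N i g) ih) l

noncomputable def allEd (F : ℕ → Fact) (N m i : ℕ) (l : List Ed) : Bool :=
  List.rec (motive := fun _ => Bool) true (fun g _ ih => and (edB F N m i g) ih) l

/-- The words. -/
noncomputable def wordsG (l : List Gn) : List ℕ :=
  List.rec (motive := fun _ => List ℕ) [] (fun g _ ih => g.u :: ih) l

noncomputable def wordsE (l : List Ed) : List ℕ :=
  List.rec (motive := fun _ => List ℕ) [] (fun g _ ih => g.k :: ih) l

section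

variable {G : Type*} [Group G] {x : BabyMonster.Gen → G}

theorem stab_of_check (arm : G →* G) (h : Rel x) (w : ℕ → G) (F : ℕ → Fact) {N i : ℕ}
    (hold : ∀ n < N, (model h arm w F).Holds (F n)) {l : List Gn} (hl : allGn F N i l = true) :
    ∀ u ∈ wordsG l, w i * psi h (wd u) * (w i)⁻¹ ∈ HB x := by
  induction l with
  | nil => intro u hu; exact absurd hu (by simp [wordsG])
  | cons g l ih =>
    have h' : (gnB F N i g && allGn F N i l) = true := hl
    rw [Bool.and_eq_true] at h'
    intro u hu
    have hu' : u ∈ g.u :: wordsG l := hu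
    rcases List.mem_cons.1 hu' with rfl | hu'
    · have h1 := h'.1
      unfold gnB at h1
      rw [Bool.and_eq_true] at h1
      exact stab_of arm h w F (hold _ (Nat.le_of_ble_eq_true h1.1)) (isF_spec h1.2)
    · exact ih h'.2 u hu'

theorem fact_eta (f : Fact) : f = ⟨f.ty, f.i, f.a, f.j, f.b⟩ := rfl

theorem edge_of_check (arm : G →* G) (harm : ∀ t, arm (x t) = x (swap t)) (harm2 : ∀ y, arm (arm y) = y)
    (h : Rel x) (w : ℕ → G) (F : ℕ → Fact) {N m i : ℕ}
    (hold : ∀ n < N, (model h arm w F).Holds (F n)) {l : List Ed} (hl : allEd F N m i l = true) :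
    ∀ e < (wordsE l).length, ∃ j < m, ∃ y,
      SameC (HB x) (w i * psi h (wd (nth (wordsE l) e))) (arm (w j * psi h y)) := by
  induction l with
  | nil => intro e he; exact absurd he (by simp [wordsE])
  | cons g l ih =>
    have h' : (edB F N m i g && allEd F N m i l) = true := hl
    rw [Bool.and_eq_true] at h'
    intro e he
    have he' : e < (g.k :: wordsE l).length := he
    rw [List.length_cons] at he'
    cases e with
    | succ e =>
      exact ih h'.2 e (by omega)
    | zero =>
      have e1 : nth (wordsE (g :: l)) 0 = g.k := rfl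
      rw [e1]
      obtain ⟨h1, _⟩ := h'
      unfold edB at h1
      rw [Bool.and_eq_true, Bool.and_eq_true] at h1
      obtain ⟨h2, h3, h4⟩ := h1
      have hn := hold _ (Nat.le_of_ble_eq_true h2)
      refine ⟨g.j, Nat.le_of_ble_eq_true h3, ?_⟩
      cases hd : g.dir with
      | false =>
        rw [hd] at h4
        have h5 : (Nat.beq (F g.n).ty 2 && (Nat.beq (F g.n).i (Nat.mul 2 i) && (Nat.beq (F g.n).a g.k &&
          (Nat.beq (F g.n).j (Nat.succ (Nat.mul 2 g.j)))))) = true := h4
        simp only [Bool.and_eq_true] at h5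
        obtain ⟨a1, a2, a3, a4⟩ := h5
        refine edge_of arm harm h w F hn (v := (F g.n).b) ?_
        rw [fact_eta (F g.n), Nat.eq_of_beq_eq_true a1, Nat.eq_of_beq_eq_true a2, Nat.eq_of_beq_eq_true a3,
          Nat.eq_of_beq_eq_true a4]
        rfl
      | true =>
        rw [hd] at h4
        have h5 : (Nat.beq (F g.n).ty 2 && (Nat.beq (F g.n).i (Nat.mul 2 g.j) && (Nat.beq (F g.n).b (sww g.k) &&
          (Nat.beq (F g.n).j (Nat.succ (Nat.mul 2 i)))))) = true := h4
        simp only [Bool.and_eq_true] at h5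
        obtain ⟨a1, a2, a3, a4⟩ := h5
        have hf : F g.n = ⟨2, 2 * g.j, (F g.n).a, 2 * i + 1, sww g.k⟩ := by
          rw [fact_eta (F g.n), Nat.eq_of_beq_eq_true a1, Nat.eq_of_beq_eq_true a2, Nat.eq_of_beq_eq_true a3,
            Nat.eq_of_beq_eq_true a4]
          rfl
        rw [hf, holds_two arm harm, evB_one_sww] at hn
        have h6 := arm_HB harm ((HB x).inv_mem hn)
        refine ⟨wd (F g.n).a, ?_⟩
        unfold SameC
        rw [mul_inv_rev, inv_inv, map_mul, harm2, map_inv] at h6
        exact h6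

end

end Cfsg.Agent.BM.CertBLib
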