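import Cfsg.Agent.BM.Tab

/-!
A faster check of packed tables against bit planes: the planes of a leaf are packed into one number `Z`
(plane `b` at bit offset `s * b`), and entry `q` is `((Z >>> q) &&& M) % (2 ^ s - 2)`.
-/

set_option autoImplicit false

namespace Cfsg.Agent.BM.TabFast

open Cfsg.Agent.Lib.PermNet Cfsg.Agent.BM.Tab

/-- Pack numbers with stride `s`. -/
noncomputable def pack (s : ℕ) (Ps : List ℕ) : ℕ :=
  List.rec (motive := fun _ => ℕ) 0 (fun a _ ih => Nat.lor a (Nat.shiftLeft ih s)) Ps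

/-- The mask with bits `0, s, 2 s, …`. -/
noncomputable def msk (s : ℕ) (Ps : List ℕ) : ℕ :=
  List.rec (motive := fun _ => ℕ) 0 (fun _ _ ih => Nat.lor 1 (Nat.shiftLeft ih s)) Ps

theorem pack_cons (s a : ℕ) (Ps : List ℕ) : pack s (a :: Ps) = a ||| pack s Ps <<< s := rfl
theorem msk_cons (s a : ℕ) (Ps : List ℕ) : msk s (a :: Ps) = 1 ||| msk s Ps <<< s := rfl

/-- Sum of the bits at `q` with weights `2 ^ (s * b)`. -/
def bsum (s : ℕ) (Ps : List ℕ) (q : ℕ) : ℕ :=
  match Ps with
  | [] => 0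
  | a :: Ps => (if a.testBit q then 1 else 0) + 2 ^ s * bsum s Ps q

theorem lor_shiftLeft_eq {a b s : ℕ} (h : a < 2 ^ s) : a ||| b <<< s = a + 2 ^ s * b := by
  rw [Nat.lor_comm, ← Nat.shiftLeft_add_eq_or_of_lt h, Nat.shiftLeft_eq]
  ring

theorem pack_and_msk (s : ℕ) (hs : 0 < s) (Ps : List ℕ) (q : ℕ) (hq : q < s) (hP : ∀ a ∈ Ps, a < 2 ^ s) :
    (pack s Ps >>> q) &&& msk s Ps = bsum s Ps q := by
  induction Ps with
  | nil => simp [pack, msk, bsum]
  | cons a Ps ih =>
    have ih' := ih (fun b hb => hP b (List.mem_cons_of_mem _ hb))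
    have ha := hP a List.mem_cons_self
    have hb : (if a.testBit q then 1 else 0) < 2 ^ s := by
      have : 2 ^ 1 ≤ 2 ^ s := Nat.pow_le_pow_right (by norm_num) hs
      split_ifs <;> omega
    show _ = (if a.testBit q then 1 else 0) + 2 ^ s * bsum s Ps q
    rw [← lor_shiftLeft_eq hb, ← ih', pack_cons, msk_cons]
    apply Nat.eq_of_testBit_eq
    intro i
    simp only [Nat.testBit_and, Nat.testBit_shiftRight, Nat.testBit_or, Nat.testBit_shiftLeft]
    rcases Nat.eq_zero_or_pos i with h0 | h0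
    · subst h0
      have h1 : ¬ (q ≥ s) := by omega
      have h2 : ¬ (0 ≥ s) := by omega
      simp only [Nat.add_zero, h1, h2, decide_false, Bool.false_and, Bool.or_false]
      cases a.testBit q <;> simp
    · have h1 : (1 : ℕ).testBit i = false :=
        Nat.testBit_lt_two_pow (Nat.one_lt_two_pow (by omega))
      have h2 : ((if a.testBit q then 1 else 0 : ℕ)).testBit i = false := by
        split_ifs
        · exact h1
        · exact Nat.zero_testBit i
      rw [h1, h2, Bool.false_or, Bool.false_or]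
      by_cases hi : i ≥ s
      · have h3 : q + i ≥ s := by omega
        have h4 : a.testBit (q + i) = false :=
          Nat.testBit_lt_two_pow (lt_of_lt_of_le ha (Nat.pow_le_pow_right (by norm_num) (by omega)))
        have h5 : q + i - s = q + (i - s) := by omega
        simp [hi, h3, h4, h5]
      · simp [hi]

theorem entry_lt (Ps : List ℕ) (q : ℕ) : entry Ps q < 2 ^ Ps.length := by
  induction Ps with
  | nil => simp [entry]
  | cons a Ps ih =>
    show (if a.testBit q then 1 else 0) + 2 * entry Ps q < _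
    rw [List.length_cons, pow_succ]
    split_ifs <;> omega

theorem bsum_mod (s : ℕ) (hs : 0 < s) (Ps : List ℕ) (q : ℕ) :
    bsum s Ps q ≡ entry Ps q [MOD (2 ^ s - 2)] := by
  induction Ps with
  | nil => rfl
  | cons a Ps ih =>
    show (if a.testBit q then 1 else 0) + 2 ^ s * bsum s Ps q ≡
      (if a.testBit q then 1 else 0) + 2 * entry Ps q [MOD (2 ^ s - 2)]
    apply Nat.ModEq.add_left
    refine Nat.ModEq.mul ?_ ih
    have h1 : 2 ≤ 2 ^ s := by
      calc 2 = 2 ^ 1 := rfl
        _ ≤ 2 ^ s := Nat.pow_le_pow_right (by norm_num) hs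
    have h2 : 2 ^ s = 2 + (2 ^ s - 2) := by omega
    conv_lhs => rw [h2]
    simp [Nat.ModEq]

/-- Check of all entries `q < m` of a leaf. -/
noncomputable def loop (Z M D n : ℕ) (m : ℕ) : Bool :=
  Nat.rec (motive := fun _ => Bool) true
    (fun q ih => and (Nat.beq (Nat.mod (Nat.land (Nat.shiftRight Z q) M) D)
      (Nat.land (Nat.shiftRight n (Nat.mul 16 q)) 65535)) ih) m

theorem loop_spec {Z M D n m : ℕ} (h : loop Z M D n m = true) :
    ∀ q < m, ((Z >>> q) &&& M) % D = (n >>> (16 * q)) &&& 65535 := by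
  induction m with
  | zero => intro q hq; omega
  | succ m ih =>
    have h' : and (Nat.beq (((Z >>> m) &&& M) % D) ((n >>> (16 * m)) &&& 65535)) (loop Z M D n m) = true := h
    rw [Bool.and_eq_true] at h'
    intro q hq
    rcases Nat.lt_succ_iff_lt_or_eq.1 hq with hq | rfl
    · exact ih h'.2 q hq
    · exact Nat.eq_of_beq_eq_true h'.1

/-- Fast check of a leaf with `2^k` entries. -/
noncomputable def chkF (k : ℕ) (Ps : List ℕ) (n : ℕ) : Bool :=
  seqB (pack (Nat.pow 2 k) Ps) fun Z => seqB (msk (Nat.pow 2 k) Ps) fun M =>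
    loop Z M (Nat.sub (Nat.pow 2 (Nat.pow 2 k)) 2) n (Nat.pow 2 k)

theorem chkF_spec (k : ℕ) (hk : 5 ≤ k) (Ps : List ℕ) (n : ℕ) (hP : ∀ a ∈ Ps, a < 2 ^ 2 ^ k)
    (hl : Ps.length ≤ 16) (h : chkF k Ps n = true) (q : ℕ) (hq : q < 2 ^ k) :
    (n >>> (16 * q)) &&& 65535 = entry Ps q := by
  unfold chkF at h
  rw [seqB_eq, seqB_eq] at h
  have h1 := loop_spec h q hq
  rw [← h1]
  have h2 : (pack (Nat.pow 2 k) Ps >>> q) &&& msk (Nat.pow 2 k) Ps = bsum (2 ^ k) Ps q :=
    pack_and_msk (2 ^ k) (by positivity) Ps q hq hP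
  rw [h2]
  show bsum (2 ^ k) Ps q % (2 ^ 2 ^ k - 2) = _
  rw [(bsum_mod (2 ^ k) (by positivity) Ps q : _ % _ = _ % _)]
  apply Nat.mod_eq_of_lt
  have h3 := entry_lt Ps q
  have h4 : 2 ^ Ps.length ≤ 2 ^ 16 := Nat.pow_le_pow_right (by norm_num) hl
  have h5 : 2 ^ 32 ≤ 2 ^ 2 ^ k := by
    apply Nat.pow_le_pow_right (by norm_num)
    calc 32 = 2 ^ 5 := by norm_num
      _ ≤ 2 ^ k := Nat.pow_le_pow_right (by norm_num) hk
  omega

/-- The whole tree (leaves have `2^k` entries, depth `j`) against planes. -/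
noncomputable def chkFT (k : ℕ) (t : Tr) : ℕ → List ℕ → Bool :=
  Tr.rec (motive := fun _ => ℕ → List ℕ → Bool)
    (fun n j Ps => and (Nat.beq j k) (chkF k Ps n))
    (fun _ _ ca cb j Ps => and (Nat.ble 1 j)
      (and (ca (Nat.pred j) (lows (Nat.sub (Nat.pow 2 (Nat.pow 2 (Nat.pred j))) 1) Ps))
        (cb (Nat.pred j) (highs (Nat.pow 2 (Nat.pred j)) Ps)))) t

theorem chkFT_spec (k : ℕ) (hk : 5 ≤ k) (t : Tr) : ∀ (j : ℕ) (Ps : List ℕ), (∀ a ∈ Ps, a < 2 ^ 2 ^ j) →
    Ps.length ≤ 16 → chkFT k t j Ps = true → ∀ q < 2 ^ j, t.get (2 ^ j / 2) q = entry Ps q := by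
  induction t with
  | leaf n =>
    intro j Ps hP hl h q hq
    have h' : (Nat.beq j k && chkF k Ps n) = true := h
    rw [Bool.and_eq_true] at h'
    have hj : j = k := Nat.eq_of_beq_eq_true h'.1
    subst hj
    rw [Tr.get_leaf]
    exact chkF_spec j hk Ps n hP hl h'.2 q hq
  | node a b iha ihb =>
    intro j Ps hP hl h q hq
    have h' : (Nat.ble 1 j && (chkFT k a (j - 1) (lows (2 ^ 2 ^ (j - 1) - 1) Ps) &&
      chkFT k b (j - 1) (highs (2 ^ (j - 1)) Ps))) = true := h
    rw [Bool.and_eq_true, Bool.and_eq_true] at h'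
    have hj := Nat.le_of_ble_eq_true h'.1
    obtain ⟨i, rfl⟩ : ∃ i, j = i + 1 := ⟨j - 1, by omega⟩
    simp only [Nat.add_sub_cancel] at h'
    have hpow : 2 ^ (i + 1) = 2 ^ i + 2 ^ i := by rw [pow_succ]; ring
    have hh : 2 ^ (i + 1) / 2 = 2 ^ i := by omega
    rw [Tr.get_node, hh]
    split_ifs with hqk
    · have h1 := iha i _ (by
        rw [lows_eq]
        intro a ha
        obtain ⟨b, _, rfl⟩ := List.mem_map.1 ha
        rw [Nat.and_two_pow_sub_one_eq_mod]
        exact Nat.mod_lt _ (by positivity)) (by rw [lows_eq, List.length_map]; exact hl) h'.2.1 q hqk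
      rw [entry_lows i Ps q hqk] at h1
      exact h1
    · have h2 := ihb i _ (by
        rw [highs_eq]
        intro a ha
        obtain ⟨b, hb, rfl⟩ := List.mem_map.1 ha
        rw [Nat.shiftRight_eq_div_pow]
        apply Nat.div_lt_of_lt_mul
        rw [← pow_add, ← hpow]
        exact hP b hb) (by rw [highs_eq, List.length_map]; exact hl) h'.2.2 (q - 2 ^ i) (by omega)
      rw [entry_highs, show 2 ^ i + (q - 2 ^ i) = q by omega] at h2
      exact h2

/-- Soundness: the table is the table of the permutation. -/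
theorem get_eq_perm {L : Net} (h : L.ok (2 ^ 15) = true) {t : Tr} {k : ℕ} (hk : 5 ≤ k)
    (hc : chkFT k t 15 (planes L 15) = true) (p : ℕ) (hp : p < 2 ^ 15) :
    t.get 16384 p = L.perm p := by
  rw [← planes_spec h p hp]
  exact chkFT_spec k hk t 15 _ (planes_lt h) (by simp [planes]) hc p hp

/-! ### The same with 12 planes -/

/-- The planes of a network on `2^12` points. -/
noncomputable def planes12 (L : Net) : List ℕ :=
  [L.app (plane 12 0), L.app (plane 12 1), L.app (plane 12 2), L.app (plane 12 3), L.app (plane 12 4),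
   L.app (plane 12 5), L.app (plane 12 6), L.app (plane 12 7), L.app (plane 12 8), L.app (plane 12 9),
   L.app (plane 12 10), L.app (plane 12 11)]

theorem planes12_spec {L : Net} (h : L.ok (2 ^ 12) = true) (p : ℕ) (hp : p < 2 ^ 12) :
    entry (planes12 L) p = L.perm p := by
  have hlt := perm_lt h hp
  apply entry_eq
  · exact hlt
  · intro i hi
    have hi' : i < 12 := hi
    have key : ∀ b < 12, (L.app (plane 12 b)).testBit p = (L.perm p).testBit b := by
      intro b hb
      rw [testBit_app h, testBit_plane 12 b _ hlt hb]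
    interval_cases i <;> exact key _ (by norm_num)

theorem planes12_lt {L : Net} (h : L.ok (2 ^ 12) = true) : ∀ a ∈ planes12 L, a < 2 ^ 2 ^ 12 := by
  have key : ∀ b < 12, L.app (plane 12 b) < 2 ^ 2 ^ 12 := fun b hb => app_lt h (plane_lt 12 b hb)
  unfold planes12
  intro a ha
  simp only [List.mem_cons, List.not_mem_nil, or_false] at ha
  rcases ha with rfl | rfl | rfl | rfl | rfl | rfl | rfl | rfl | rfl | rfl | rfl | rfl <;>
    exact key _ (by norm_num)

/-- Soundness: the table is the table of the permutation. -/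
theorem get_eq_perm12 {L : Net} (h : L.ok (2 ^ 12) = true) {t : Tr} {k : ℕ} (hk : 5 ≤ k)
    (hc : chkFT k t 12 (planes12 L) = true) (p : ℕ) (hp : p < 2 ^ 12) :
    t.get 2048 p = L.perm p := by
  rw [← planes12_spec h p hp]
  exact chkFT_spec k hk t 12 _ (planes12_lt h) (by simp [planes12]) hc p hp

end Cfsg.Agent.BM.TabFast
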