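import Cfsg.Agent.BM.TabData22
import Cfsg.Agent.BM.TabFast
import Cfsg.Agent.Fischer.Fi22PtsRep

/-! The packed tables for `Fi22` are the tables of the networks. -/

set_option autoImplicit false
set_option maxRecDepth 100000

namespace Cfsg.Agent.BM.TabChk22

open Cfsg.Agent.BM.Tab Cfsg.Agent.BM.TabFast Cfsg.Agent.BM.TabData22 Cfsg.Agent.Fischer.Fi22PtsNets
  Cfsg.Agent.Fischer.Fi22PtsRep
open Cfsg.Spor.Fi22 (Gen)

/-- The table of a generator. -/
noncomputable def tabG : Gen → Tr
  | .a => ta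
  | .b => tb
  | .c => tc
  | .d => td
  | .e => te
  | .f => tf
  | .g => tg
  | .h => th
  | .i => ti

theorem chk (x : Gen) : chkFT 8 (tabG x) 12 (planes12 (net x)) = true := by
  cases x <;> decide +kernel

theorem tabG_get (x : Gen) (p : ℕ) (hp : p < 2 ^ 12) : (tabG x).get 2048 p = (net x).perm p :=
  get_eq_perm12 (net_ok x) (by norm_num) (chk x) p hp

end Cfsg.Agent.BM.TabChk22
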