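import Cfsg.Agent.BM.PermOracle
import Cfsg.Agent.BM.TabChk22
import Cfsg.Agent.Fischer.Fi22Order

/-!
The word oracle of the presented group `Fi22` (degree 3510, base 0, 2, 2792, 2898, 2411). The letters `a, …, i` are the
hexadecimal digits 1, …, 9.
-/

set_option autoImplicit false
set_option maxRecDepth 100000

namespace Cfsg.Agent.BM.OracleFi22

open Cfsg.Agent.Lib.PermNet Cfsg.Agent.Lib.PermNetOrbit Cfsg.Agent.BM.Tab Cfsg.Agent.BM.TabChk22
  Cfsg.Agent.BM.PermOracle Cfsg.Agent.Fischer.Fi22PtsRep Cfsg.Agent.Fischer.Fi22Order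
open Cfsg.Spor Cfsg.Spor.Fi22

/-- Letters: `a = 1`, …, `i = 9`. -/
noncomputable def lt (d : ℕ) : Gen :=
  Bool.rec
    (Bool.rec (Bool.rec (Bool.rec .i .h (Nat.ble d 8)) .g (Nat.ble d 7)) .f (Nat.ble d 6))
    (Bool.rec (Bool.rec (Bool.rec .e .d (Nat.ble d 4)) .c (Nat.ble d 3)) (Bool.rec .b .a (Nat.ble d 1)) (Nat.ble d 2))
    (Nat.ble d 5)

/-- The action of a letter on packed images. -/
noncomputable def act (d P : ℕ) : ℕ := lanes (Tr.get (tabG (lt d)) 2048) 5 P

/-- The base. -/
def base : List ℕ := [0, 2, 2792, 2898, 2411]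

/-- The packed base. -/
noncomputable def pbase : ℕ := nat_lit 0x96b0b520ae800020000

theorem pbase_eq : pbase = pk base := by decide +kernel

theorem base_lt : ∀ b ∈ base, b < 3510 := by
  intro b hb
  simp only [base, List.mem_cons, List.not_mem_nil, or_false] at hb
  rcases hb with rfl | rfl | rfl | rfl | rfl <;> norm_num

theorem tab_spec (x : Gen) (p : ℕ) (hp : p < 3510) : Tr.get (tabG x) 2048 p = φ (gen x)⁻¹ p := by
  rw [tabG_get x p (by omega), gen_inv, φ_gen]

/-- The generator of `Fi22` belonging to a letter. -/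
noncomputable def fgen (d : ℕ) : Spor.Fi22 := gen (lt d)

theorem act_img (d : ℕ) (x : Spor.Fi22) : act d (img φ base x) = img φ base (x * fgen d) :=
  lanes_img φ base (N := 3510) (by norm_num) (fun x _ hp => φ_lt x hp) base_lt _ (fgen d)
    (fun p hp => tab_spec (lt d) p hp) x

theorem base_trivial (x : Spor.Fi22) (h : ∀ b ∈ base, φ x b = b) : x = 1 := by
  have h3 : x ∈ stabL φ [2411, 2898, 2792, 2, 0] := by
    intro q hq
    apply h
    simp only [base, List.mem_cons, List.not_mem_nil, or_false] at hq ⊢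
    tauto
  have h2 := card_values.2.2
  rw [Nat.card_eq_one_iff_unique] at h2
  have := h2.1
  have h4 : (⟨x, h3⟩ : stabL φ [2411, 2898, 2792, 2, 0]) = 1 := Subsingleton.elim _ _
  exact congrArg Subtype.val h4

theorem img_injective : Function.Injective (img φ base) :=
  img_inj φ base (N := 3510) (by norm_num) (fun x _ hp => φ_lt x hp) base_lt base_trivial

theorem img_base : img φ base 1 = pbase := by rw [img_one, pbase_eq]

/-- Equality of products of words in `Fi22` by a kernel check. -/
theorem eq_of_eqB {us vs : List ℕ} (hc : Script.eqB act pbase us vs = true) :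
    (us.map (Script.ev fgen)).prod = (vs.map (Script.ev fgen)).prod :=
  Script.eq_of_eqB act_img img_injective img_base hc

end Cfsg.Agent.BM.OracleFi22
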