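import Cfsg.Agent.BM.OracleFi23
import Cfsg.Agent.BM.OracleFi22
import Cfsg.Agent.BM.Psi

/-!
# Lower bounds for orders of subgroups given by words

A subgroup `S` of a group `P` acting on points through networks contains the words of a list `W`.
A stabiliser chain of `S` is certified level by level: words (products of the words of `W` and their
inverses, freely reduced) fixing the previous base points and moving the next base point to at least
`m` points.
-/

set_option autoImplicit false
set_option maxRecDepth 100000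

namespace Cfsg.Agent.BM.Chain

open Cfsg.Agent.Lib.PermNet Cfsg.Agent.Lib.PermNetOrbit

/-! ### Digits -/

/-- The letters of a hexadecimal word (at most `n`). -/
noncomputable def digF (n : ℕ) : ℕ → List ℕ :=
  Nat.rec (motive := fun _ => ℕ → List ℕ) (fun _ => [])
    (fun _ ih w => Bool.rec (Nat.land w 15 :: ih (Nat.shiftRight w 4)) [] (Nat.beq w 0)) n

/-- The letters of a hexadecimal word. -/
noncomputable def dig (w : ℕ) : List ℕ := digF (nat_lit 4096) w

theorem digF_succ (n w : ℕ) : digF (n + 1) w =
    if w = 0 then [] else (w % 16) :: digF n (w / 16) := by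
  show (Bool.rec (motive := fun _ => List ℕ) (Nat.land w 15 :: digF n (Nat.shiftRight w 4)) []
    (Nat.beq w 0)) = _
  by_cases h : w = 0
  · rw [if_pos h, h]; rfl
  · rw [if_neg h]
    have h1 : Nat.beq w 0 = false := by
      cases hb : Nat.beq w 0 with
      | false => rfl
      | true => exact absurd (Nat.eq_of_beq_eq_true hb) h
    rw [h1]
    have h2 : Nat.land w 15 = w % 16 := Nat.and_two_pow_sub_one_eq_mod w 4
    have h3 : Nat.shiftRight w 4 = w / 16 := Nat.shiftRight_eq_div_pow w 4
    rw [h2, h3]

theorem evF_eq {M : Type*} [Monoid M] (g : ℕ → M) (n w : ℕ) :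
    Script.evF g n w = ((digF n w).map g).prod := by
  induction n generalizing w with
  | zero => rw [Script.evF_zero]; rfl
  | succ n ih =>
    rw [Script.evF_succ, digF_succ]
    split_ifs with h
    · rfl
    · rw [List.map_cons, List.prod_cons, ih]

/-- The value of a hexadecimal word. -/
theorem ev_eq {M : Type*} [Monoid M] (g : ℕ → M) (w : ℕ) :
    Script.ev g w = ((dig w).map g).prod := evF_eq g 4096 w

/-! ### Words and subgroups -/

/-- The word with the code `c`: the word number `c / 2`, inverted if `c` is odd. -/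
def getW (W : List (List ℕ)) (c : ℕ) : List ℕ :=
  if c % 2 = 0 then W.getD (c / 2) [] else (W.getD (c / 2) []).reverse

/-- The product of the words with codes `cs`. -/
def expand (W : List (List ℕ)) (cs : List ℕ) : List ℕ := (cs.map (getW W)).flatten

/-- Put a letter in front of a freely reduced word. -/
def push (x : ℕ) (l : List ℕ) : List ℕ :=
  match l with
  | [] => [x]
  | y :: l => if x = y then l else x :: y :: l

/-- Free reduction (all letters are involutions). -/
def redL (l : List ℕ) : List ℕ := l.foldr push []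

/-- The words `ls` are the reduced words of the products with codes `css`. -/
def memB (W : List (List ℕ)) : List (List ℕ) → List (List ℕ) → Bool
  | [], [] => true
  | cs :: css, l :: ls => decide (redL (expand W cs) = l) && memB W css ls
  | _, _ => false

/-- A group acting on points through networks. -/
structure Act (P : Type*) [Group P] where
  φ : P →* Equiv.Perm ℕ
  g : ℕ → P
  nt : ℕ → Net
  k : ℕ
  ok : ∀ d, (nt d).ok (2 ^ k) = true
  spec : ∀ d, φ (g d) = (nt d).perm
  sq : ∀ d, g d * g d = 1

variable {P : Type*} [Group P] (A : Act P)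

/-- The value of a word. -/
def Act.wd (l : List ℕ) : P := (l.map A.g).prod

theorem Act.wd_nil : A.wd [] = 1 := rfl

theorem Act.wd_cons (x : ℕ) (l : List ℕ) : A.wd (x :: l) = A.g x * A.wd l := by
  unfold Act.wd; rw [List.map_cons, List.prod_cons]

theorem Act.wd_append (l l' : List ℕ) : A.wd (l ++ l') = A.wd l * A.wd l' := by
  unfold Act.wd; rw [List.map_append, List.prod_append]

theorem Act.wd_reverse (l : List ℕ) : A.wd l.reverse = (A.wd l)⁻¹ := by
  induction l with
  | nil => rw [List.reverse_nil, Act.wd_nil, inv_one]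
  | cons x l ih =>
    rw [List.reverse_cons, Act.wd_append, ih, Act.wd_cons, Act.wd_cons, Act.wd_nil, mul_one, mul_inv_rev,
      inv_eq_of_mul_eq_one_left (A.sq x)]

theorem Act.wd_push (x : ℕ) (l : List ℕ) : A.wd (push x l) = A.g x * A.wd l := by
  unfold push
  cases l with
  | nil => exact A.wd_cons x []
  | cons y l =>
    dsimp only
    split_ifs with h
    · rw [h, Act.wd_cons, ← mul_assoc, A.sq, one_mul]
    · rw [Act.wd_cons]

theorem Act.wd_redL (l : List ℕ) : A.wd (redL l) = A.wd l := by
  induction l with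
  | nil => rfl
  | cons x l ih =>
    have : redL (x :: l) = push x (redL l) := rfl
    rw [this, Act.wd_push, ih, Act.wd_cons]

theorem Act.wd_getW {S : Subgroup P} {W : List (List ℕ)} (hW : ∀ w ∈ W, A.wd w ∈ S) (c : ℕ) :
    A.wd (getW W c) ∈ S := by
  have h : A.wd (W.getD (c / 2) []) ∈ S := by
    by_cases hc : c / 2 < W.length
    · rw [List.getD_eq_getElem _ _ hc]
      exact hW _ (List.getElem_mem hc)
    · rw [List.getD_eq_default _ _ (by omega)]
      exact S.one_mem
  unfold getW
  split_ifs
  · exact h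
  · rw [Act.wd_reverse]; exact S.inv_mem h

theorem Act.wd_expand {S : Subgroup P} {W : List (List ℕ)} (hW : ∀ w ∈ W, A.wd w ∈ S) (cs : List ℕ) :
    A.wd (expand W cs) ∈ S := by
  induction cs with
  | nil => exact S.one_mem
  | cons c cs ih =>
    have : expand W (c :: cs) = getW W c ++ expand W cs := rfl
    rw [this, Act.wd_append]
    exact S.mul_mem (A.wd_getW hW c) ih

theorem Act.mem_of_memB {S : Subgroup P} {W : List (List ℕ)} (hW : ∀ w ∈ W, A.wd w ∈ S) :
    ∀ {css ls : List (List ℕ)}, memB W css ls = true → ∀ l ∈ ls, A.wd l ∈ S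
  | [], [], _ => fun l hl => absurd hl (by simp)
  | cs :: css, l :: ls, h => by
    unfold memB at h
    rw [Bool.and_eq_true, decide_eq_true_eq] at h
    intro x hx
    rcases List.mem_cons.1 hx with rfl | hx
    · rw [← h.1, Act.wd_redL]
      exact A.wd_expand hW cs
    · exact Act.mem_of_memB hW h.2 x hx
  | [], _ :: _, h => absurd h (by simp [memB])
  | _ :: _, [], h => absurd h (by simp [memB])

/-! ### The chain -/

/-- Words of networks. -/
noncomputable def Act.nws (ls : List (List ℕ)) : List (List Net) :=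
  List.rec (motive := fun _ => List (List Net)) []
    (fun l _ ih => List.rec (motive := fun _ => List Net) [] (fun d _ jh => A.nt d :: jh) l :: ih) ls

theorem Act.nws_eq (ls : List (List ℕ)) : A.nws ls = ls.map (fun l => l.map A.nt) := by
  induction ls with
  | nil => rfl
  | cons l ls ih =>
    have : A.nws (l :: ls) =
        List.rec (motive := fun _ => List Net) [] (fun d _ jh => A.nt d :: jh) l :: A.nws ls := rfl
    rw [this, ih, List.map_cons]
    congr 1
    clear this ih
    induction l with
    | nil => rfl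
    | cons d l ih => exact congrArg (A.nt d :: ·) ih

theorem Act.nws_ok (ls : List (List ℕ)) : WsOk (2 ^ A.k) (A.nws ls) := by
  rw [Act.nws_eq]
  intro w hw
  obtain ⟨l, _, rfl⟩ := List.mem_map.1 hw
  intro L hL
  obtain ⟨d, _, rfl⟩ := List.mem_map.1 hL
  exact A.ok d

theorem Act.φ_wd (l : List ℕ) : A.φ (A.wd l) = wperm (l.map A.nt) := by
  induction l with
  | nil => rw [Act.wd_nil, map_one]; rfl
  | cons d l ih => rw [Act.wd_cons, map_mul, ih, A.spec, List.map_cons, wperm_cons]

/-- The check of one level. -/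
noncomputable def Act.lvlB (ls : List (List ℕ)) (qs : List ℕ) (p m r : ℕ) : Bool :=
  and (fixAllB (A.nws ls) qs)
    (seqB (sat (A.nws ls) r (Nat.pow 2 p)) fun V =>
      and (Nat.ble m (pc A.k V)) (Nat.beq (Nat.shiftRight V (Nat.pow 2 A.k)) 0))

/-- The pointwise stabiliser of `qs` in `S` has index at least `n`. -/
def Act.Ch (S : Subgroup P) (qs : List ℕ) (n : ℕ) : Prop :=
  n * Nat.card (stabL (A.φ.comp S.subtype) qs) ≤ Nat.card S

theorem Act.Ch.nil (S : Subgroup P) [Finite S] : A.Ch S [] 1 := by
  unfold Act.Ch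
  rw [one_mul]
  exact Nat.card_le_card_of_injective _ Subtype.val_injective

theorem Act.Ch.step {S : Subgroup P} [Finite S] {qs : List ℕ} {n : ℕ} (h : A.Ch S qs n)
    {W : List (List ℕ)} (hW : ∀ w ∈ W, A.wd w ∈ S) (css ls : List (List ℕ)) (p m r : ℕ)
    (hmem : memB W css ls = true) (hl : A.lvlB ls qs p m r = true) : A.Ch S (p :: qs) (n * m) := by
  unfold Act.lvlB at hl
  rw [Bool.and_eq_true, seqB_eq, Bool.and_eq_true] at hl
  have hin := A.mem_of_memB hW hmem
  have key := stabL_step_of_check (A.φ.comp S.subtype) (k := A.k) qs p m r (A.nws_ok ls) (by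
    intro w hw
    rw [Act.nws_eq] at hw
    obtain ⟨l, hl', rfl⟩ := List.mem_map.1 hw
    exact ⟨⟨A.wd l, hin l hl'⟩, A.φ_wd l⟩) hl.1 hl.2.1 hl.2.2
  unfold Act.Ch at h ⊢
  calc n * m * Nat.card (stabL (A.φ.comp S.subtype) (p :: qs))
      = n * (m * Nat.card (stabL (A.φ.comp S.subtype) (p :: qs))) := by ring
    _ ≤ n * Nat.card (stabL (A.φ.comp S.subtype) qs) := Nat.mul_le_mul_left _ key
    _ ≤ Nat.card S := h

theorem Act.Ch.card_le {S : Subgroup P} [Finite S] {qs : List ℕ} {n : ℕ} (h : A.Ch S qs n) :
    n ≤ Nat.card S := by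
  unfold Act.Ch at h
  have : 1 ≤ Nat.card (stabL (A.φ.comp S.subtype) qs) := Nat.card_pos
  exact le_trans (Nat.le_mul_of_pos_right _ this) h

/-- Upper bound for the index from a lower bound for the order. -/
theorem index_le_of_card {S : Subgroup P} [Finite P] {n C q : ℕ} (hC : Nat.card P = C)
    (h : n ≤ Nat.card S) (hn : C = n * q) (h0 : 0 < n) : S.index ≠ 0 ∧ S.index ≤ q := by
  refine ⟨Subgroup.FiniteIndex.index_ne_zero, ?_⟩
  have h1 := Subgroup.card_mul_index S
  rw [hC, hn] at h1
  have h2 : n * S.index ≤ n * q := by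
    rw [← h1]; exact Nat.mul_le_mul_right _ h
  exact Nat.le_of_mul_le_mul_left h2 h0

/-- Upper bound for the relative index from a lower bound for the order. -/
theorem relIndex_le_of_card {S T : Subgroup P} [Finite P] {n C q : ℕ} (hC : Nat.card T = C)
    (hST : S ≤ T) (h : n ≤ Nat.card S) (hn : C = n * q) (h0 : 0 < n) :
    S.relIndex T ≠ 0 ∧ S.relIndex T ≤ q := by
  have h1 : S.relIndex T * Nat.card S = Nat.card T := by
    rw [Subgroup.relIndex, mul_comm, ← Nat.card_congr (Subgroup.subgroupOfEquivOfLe hST).toEquiv]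
    exact Subgroup.card_mul_index _
  have hT : 0 < Nat.card T := Nat.card_pos
  refine ⟨?_, ?_⟩
  · intro h2
    rw [h2, zero_mul] at h1
    omega
  · rw [hC, hn] at h1
    have h2 : n * S.relIndex T ≤ n * q := by
      rw [← h1, mul_comm (S.relIndex T)]; exact Nat.mul_le_mul_right _ h
    exact Nat.le_of_mul_le_mul_left h2 h0

/-- Words of the hexadecimal format belong to `S`. -/
theorem Act.mem_of_ev {S : Subgroup P} {ws : List ℕ} (h : ∀ w ∈ ws, Script.ev A.g w ∈ S)
    {W : List (List ℕ)} (hW : W = ws.map dig) : ∀ w ∈ W, A.wd w ∈ S := by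
  rw [hW]
  intro w hw
  obtain ⟨v, hv, rfl⟩ := List.mem_map.1 hw
  have := h v hv
  rwa [ev_eq] at this

/-! ### `Fi23` and `Fi22` -/

/-- `Fi23` with the letters `t1, …, t10` acting on 31671 points. -/
noncomputable def A23 : Act Cfsg.Spor.Fi23 where
  φ := Cfsg.Agent.Fischer.Fi23Hom.rho
  g := OracleFi23.fgen 0
  nt := fun d => Cfsg.Agent.Fischer.Fi23Rel.net (OracleFi23.lt0 d)
  k := 15
  ok := fun d => by
    have : WOk (2 ^ 15) ([OracleFi23.lt0 d].map Cfsg.Agent.Fischer.Fi23Rel.net) :=
      Cfsg.Agent.Fischer.Fi23Rel.wok _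
    exact this _ (by simp)
  spec := fun d => Cfsg.Agent.Fischer.Fi23Hom.rho_gen _
  sq := fun d => Cfsg.Agent.Fischer.Fi23Final.gen_sq _

/-- `Fi22` with the letters `a = 1, …, i = 9` acting on 3510 points. -/
noncomputable def A22 : Act Cfsg.Spor.Fi22 where
  φ := Cfsg.Agent.Fischer.Fi22PtsRep.φ
  g := OracleFi22.fgen
  nt := fun d => Cfsg.Agent.Fischer.Fi22PtsRep.net (OracleFi22.lt d)
  k := 12
  ok := fun d => Cfsg.Agent.Fischer.Fi22PtsRep.net_ok _
  spec := fun d => Cfsg.Agent.Fischer.Fi22PtsRep.φ_gen _
  sq := fun d => by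
    have h := Cfsg.Agent.Fischer.Fi22PtsRep.gen_inv (OracleFi22.lt d)
    have : OracleFi22.fgen d = Cfsg.Agent.Fischer.Fi22PtsRep.gen (OracleFi22.lt d) := rfl
    rw [this]
    nth_rewrite 1 [← h]
    rw [inv_mul_cancel]

end Cfsg.Agent.BM.Chain
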