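import Cfsg.Agent.BM.Chain

/-!
# Order bounds for conjugates of subgroups given by nice words

If `S` contains the words `ws` and the conjugates `g n g⁻¹` of the words `n ∈ nice` are products of
words of `ws` and their inverses (checked by the oracle), then `S` is at least as large as every lower
bound for subgroups containing `nice`.
-/

set_option autoImplicit false
set_option maxRecDepth 100000

namespace Cfsg.Agent.BM.ChainConj

open Cfsg.Agent.BM.Chain

/-- The value of a hexadecimal word in `Fi23` (letters `t1, …, t10`). -/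
noncomputable def E (w : ℕ) : Cfsg.Spor.Fi23 := Script.ev (OracleFi23.fgen 0) w

/-- The inverse words. -/
noncomputable def invOk : List ℕ → List ℕ → Bool
  | [], [] => true
  | w :: ws, v :: vs => decide (dig v = (dig w).reverse) && invOk ws vs
  | _, _ => false

theorem E_eq (w : ℕ) : E w = A23.wd (dig w) := ev_eq _ _

theorem inv_of_invOk : ∀ {ws vs : List ℕ}, invOk ws vs = true → ∀ k, E (vs.getD k 0) = (E (ws.getD k 0))⁻¹
  | [], [], _ => fun k => by simp [E]
  | w :: ws, v :: vs, h => by
    unfold invOk at h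
    rw [Bool.and_eq_true, decide_eq_true_eq] at h
    intro k
    cases k with
    | zero =>
      simp only [List.getD_cons_zero]
      rw [E_eq, E_eq, h.1, Act.wd_reverse]
    | succ k =>
      simp only [List.getD_cons_succ]
      exact inv_of_invOk h.2 k
  | [], _ :: _, h => absurd h (by simp [invOk])
  | _ :: _, [], h => absurd h (by simp [invOk])

/-- The word with the code `c`. -/
noncomputable def cw (ws vs : List ℕ) (c : ℕ) : ℕ :=
  Bool.rec (vs.getD (c / 2) 0) (ws.getD (c / 2) 0) (Nat.beq (c % 2) 0)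

/-- The oracle check: the conjugates `g n g⁻¹` are the products with codes `cs`. -/
noncomputable def conjB (ws vs : List ℕ) (g g' : ℕ) : List ℕ → List (List ℕ) → Bool
  | [], [] => true
  | n :: nice, cs :: css =>
    and (Script.eqB (OracleFi23.act 0) OracleFi23.pbase (cs.map (cw ws vs)) [g, n, g'])
      (conjB ws vs g g' nice css)
  | _, _ => false

/-- One line of the check. -/
noncomputable def chk1 (ws vs : List ℕ) (g g' n : ℕ) (cs : List ℕ) : Bool :=
  Script.eqB (OracleFi23.act 0) OracleFi23.pbase (cs.map (cw ws vs)) [g, n, g']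

theorem conjB_nil (ws vs : List ℕ) (g g' : ℕ) : conjB ws vs g g' [] [] = true := rfl

theorem conjB_cons {ws vs : List ℕ} {g g' n : ℕ} {cs : List ℕ} {nice : List ℕ} {css : List (List ℕ)}
    (h : chk1 ws vs g g' n cs = true) (h' : conjB ws vs g g' nice css = true) :
    conjB ws vs g g' (n :: nice) (cs :: css) = true := by
  unfold conjB
  rw [Bool.and_eq_true]
  exact ⟨h, h'⟩

theorem E_cw_mem {S : Subgroup Cfsg.Spor.Fi23} {ws vs : List ℕ} (hS : ∀ w ∈ ws, E w ∈ S)
    (hv : invOk ws vs = true) (c : ℕ) : E (cw ws vs c) ∈ S := by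
  have h : E (ws.getD (c / 2) 0) ∈ S := by
    by_cases hc : c / 2 < ws.length
    · rw [List.getD_eq_getElem _ _ hc]
      exact hS _ (List.getElem_mem hc)
    · rw [List.getD_eq_default _ _ (by omega)]
      unfold E
      rw [Script.ev_zero]
      exact S.one_mem
  unfold cw
  cases Nat.beq (c % 2) 0 with
  | true => exact h
  | false =>
    show E (vs.getD (c / 2) 0) ∈ S
    rw [inv_of_invOk hv]
    exact S.inv_mem h

theorem mem_of_conjB {S : Subgroup Cfsg.Spor.Fi23} {ws vs : List ℕ} (hS : ∀ w ∈ ws, E w ∈ S)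
    (hv : invOk ws vs = true) {g g' : ℕ} : ∀ {nice : List ℕ} {css : List (List ℕ)},
    conjB ws vs g g' nice css = true → ∀ n ∈ nice, E g * E n * E g' ∈ S
  | [], [], _ => fun n hn => absurd hn (by simp)
  | n :: nice, cs :: css, h => by
    unfold conjB at h
    rw [Bool.and_eq_true] at h
    intro x hx
    rcases List.mem_cons.1 hx with rfl | hx
    · have h1 := OracleFi23.eq_of_eqB Psi.card_Fi23.le 0 h.1
      have h2 : E g * E x * E g' = ((cs.map (cw ws vs)).map (Script.ev (OracleFi23.fgen 0))).prod := by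
        rw [h1]
        simp only [List.map_cons, List.map_nil, List.prod_cons, List.prod_nil, mul_one]
        rw [mul_assoc]
        rfl
      rw [h2]
      apply Subgroup.list_prod_mem
      intro y hy
      obtain ⟨w, hw, rfl⟩ := List.mem_map.1 hy
      obtain ⟨c, _, rfl⟩ := List.mem_map.1 hw
      exact E_cw_mem hS hv c
    · exact mem_of_conjB hS hv h.2 x hx
  | [], _ :: _, h => absurd h (by simp [conjB])
  | _ :: _, [], h => absurd h (by simp [conjB])

/-- Transfer of an order bound to a conjugate. -/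
theorem card_ge_of_conj {N : ℕ} {nice : List ℕ}
    (hN : ∀ S : Subgroup Cfsg.Spor.Fi23, (∀ w ∈ nice, Script.ev (OracleFi23.fgen 0) w ∈ S) → N ≤ Nat.card S)
    (S : Subgroup Cfsg.Spor.Fi23) {ws vs : List ℕ} (hS : ∀ w ∈ ws, Script.ev (OracleFi23.fgen 0) w ∈ S)
    (hv : invOk ws vs = true) {g g' : ℕ} (hg : invOk [g] [g'] = true) {css : List (List ℕ)}
    (hc : conjB ws vs g g' nice css = true) : N ≤ Nat.card S := by
  have hg' : E g' = (E g)⁻¹ := inv_of_invOk hg 0
  have h := hN (S.map (MulAut.conj (E g)⁻¹).toMonoidHom) (by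
    intro w hw
    have h1 := mem_of_conjB (S := S) hS hv hc w hw
    rw [hg'] at h1
    refine ⟨E g * E w * (E g)⁻¹, h1, ?_⟩
    show (E g)⁻¹ * (E g * E w * (E g)⁻¹) * (E g)⁻¹⁻¹ = Script.ev (OracleFi23.fgen 0) w
    rw [inv_inv]
    have : (E g)⁻¹ * (E g * E w * (E g)⁻¹) * E g = E w := by group
    rw [this]
    rfl)
  refine le_trans h (le_of_eq ?_)
  exact (Nat.card_congr (S.equivMapOfInjective _ (MulAut.conj (E g)⁻¹).injective).toEquiv).symm

end Cfsg.Agent.BM.ChainConj
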