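import Cfsg.Agent.BM.Chain

/-!
# Index bounds through conjugation

Let `S` be a subgroup of `Spor.Fi23` containing the words `ws`.  If for a word `g` and all words `n` of a list `ns`
the element `g n g⁻¹` is a product of the words `ws` and their inverses, then the conjugate `g⁻¹ S g` contains
`ns`; so an index bound for subgroups containing `ns` is an index bound for `S`.
-/

set_option autoImplicit false
set_option maxRecDepth 100000

namespace Cfsg.Agent.BM.ConjIdx

open Cfsg.Agent.BM.Chain Cfsg.Agent.BM.Script Cfsg.Agent.BM.OracleFi23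
open Cfsg.Spor

/-- The word with a given number. -/
def sel : List ℕ → ℕ → ℕ
  | [], _ => 0
  | w :: _, 0 => w
  | _ :: l, c + 1 => sel l c

theorem sel_mem {S : Subgroup Fi23} {l : List ℕ} (h : ∀ w ∈ l, ev (fgen 0) w ∈ S) (c : ℕ) :
    ev (fgen 0) (sel l c) ∈ S := by
  induction l generalizing c with
  | nil => unfold sel; rw [ev_zero]; exact S.one_mem
  | cons w l ih =>
    cases c with
    | zero => exact h w (by simp)
    | succ c => exact ih (fun v hv => h v (by simp [hv])) c

/-- The check. -/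
noncomputable def conjB (gw gwr : ℕ) (l : List ℕ) : List ℕ → List (List ℕ) → Bool
  | [], [] => true
  | n :: ns, cs :: css => eqB (act 0) pbase [gw, n, gwr] (cs.map (sel l)) && conjB gw gwr l ns css
  | _, _ => false

theorem ev_inv {w v : ℕ} (h : dig v = (dig w).reverse) : ev (fgen 0) v = (ev (fgen 0) w)⁻¹ := by
  rw [ev_eq, ev_eq, h]
  exact A23.wd_reverse (dig w)

theorem prod_mem {S : Subgroup Fi23} {l : List ℕ} (h : ∀ w ∈ l, ev (fgen 0) w ∈ S) (cs : List ℕ) :
    ((cs.map (sel l)).map (ev (fgen 0))).prod ∈ S := by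
  refine S.list_prod_mem ?_
  intro y hy
  obtain ⟨v, hv, rfl⟩ := List.mem_map.1 hy
  obtain ⟨c, _, rfl⟩ := List.mem_map.1 hv
  exact sel_mem h c

theorem conj_mem {S : Subgroup Fi23} {gw gwr : ℕ} {l : List ℕ} (h : ∀ w ∈ l, ev (fgen 0) w ∈ S)
    (hg : dig gwr = (dig gw).reverse) :
    ∀ {ns : List ℕ} {css : List (List ℕ)}, conjB gw gwr l ns css = true →
      ∀ n ∈ ns, ev (fgen 0) gw * ev (fgen 0) n * (ev (fgen 0) gw)⁻¹ ∈ S
  | [], [], _ => fun n hn => absurd hn (by simp)
  | n :: ns, cs :: css, hc => by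
    unfold conjB at hc
    rw [Bool.and_eq_true] at hc
    intro m hm
    rcases List.mem_cons.1 hm with rfl | hm
    · have e := OracleFi23.eq_of_eqB Psi.card_Fi23.le 0 hc.1
      rw [List.map_cons, List.map_cons, List.map_cons, List.map_nil, List.prod_cons, List.prod_cons,
        List.prod_cons, List.prod_nil, mul_one, ev_inv hg, ← mul_assoc] at e
      rw [e]
      exact prod_mem h cs
    · exact conj_mem h hg hc.2 m hm
  | [], _ :: _, hc => absurd hc (by simp [conjB])
  | _ :: _, [], hc => absurd hc (by simp [conjB])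

/-- The inverses of the words belong to `S`, too. -/
theorem mem_append {S : Subgroup Fi23} {ws wsr : List ℕ} (h : ∀ w ∈ ws, ev (fgen 0) w ∈ S)
    (hr : wsr.map dig = ws.map (fun w => (dig w).reverse)) :
    ∀ w ∈ ws ++ wsr, ev (fgen 0) w ∈ S := by
  intro w hw
  rcases List.mem_append.1 hw with hw | hw
  · exact h w hw
  · have h1 : dig w ∈ wsr.map dig := List.mem_map_of_mem hw
    rw [hr] at h1
    obtain ⟨v, hv, hvw⟩ := List.mem_map.1 h1
    rw [ev_inv (w := v) hvw.symm]
    exact S.inv_mem (h v hv)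

/-- An index bound through conjugation. -/
theorem index_le_of_conj {S : Subgroup Fi23} {ws wsr ns : List ℕ} {gw gwr q : ℕ} {css : List (List ℕ)}
    (h : ∀ w ∈ ws, ev (fgen 0) w ∈ S)
    (hr : wsr.map dig = ws.map (fun w => (dig w).reverse)) (hg : dig gwr = (dig gw).reverse)
    (hc : conjB gw gwr (ws ++ wsr) ns css = true)
    (hind : ∀ T : Subgroup Fi23, (∀ n ∈ ns, ev (fgen 0) n ∈ T) → T.index ≠ 0 ∧ T.index ≤ q) :
    S.index ≠ 0 ∧ S.index ≤ q := by
  have h1 := hind (S.comap (MulAut.conj (ev (fgen 0) gw)).toMonoidHom) (by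
    intro n hn
    rw [Subgroup.mem_comap]
    exact conj_mem (mem_append h hr) hg hc n hn)
  rwa [Subgroup.index_comap_of_surjective _ (MulAut.conj (ev (fgen 0) gw)).surjective] at h1

end Cfsg.Agent.BM.ConjIdx
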