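import Cfsg.Agent.BM.CovALib
import Cfsg.Agent.BM.StageAData

/-!
The coverings `A = ⋃ S_i a_e O` (`e` over the edges of the node `i`) of the eight `A`-nodes, `A = ⟨t2, …, t10⟩ ≤ Fi23`,
`O = ⟨t3, …, t10⟩`.
-/

set_option autoImplicit false
set_option maxRecDepth 100000

namespace Cfsg.Agent.BM.CovA

open Cfsg.Agent.Lib.PermNet Cfsg.Agent.Lib.PermNetOrbit Cfsg.Agent.BM
open Cfsg.Agent.Fischer.Fi23OrbData Cfsg.Agent.BM.StageAData
open Cfsg.Spor

/-- words and points of the edges of node 0 -/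
noncomputable def es0 : List (ℕ × ℕ) :=
  [(0, 1)]

noncomputable def ws0 : List ℕ :=
  [0x2, 0x3, 0x4, 0x5, 0x6, 0x7, 0x8, 0x9, 0xa]

theorem mw0 : masksB mA ws0 = true := by decide +kernel
theorem me0 : masksB mA (es0.map Prod.fst) = true := by decide +kernel
theorem pt0 : ptsB es0 = true := by decide +kernel
theorem st0 : Nat.beq (satW ws0 9 (vset es0)) U1 = true := by decide +kernel

/-- words and points of the edges of node 1 -/
noncomputable def es1 : List (ℕ × ℕ) :=
  [(0x2, 2), (0x23459a, 10), (0x234596543a9765487659a, 1536)]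

noncomputable def ws1 : List ℕ :=
  [0x6, 0x9, 0x7, 0x8, 0x5, 0x3, 0x4, 0x2]

theorem mw1 : masksB mA ws1 = true := by decide +kernel
theorem me1 : masksB mA (es1.map Prod.fst) = true := by decide +kernel
theorem pt1 : ptsB es1 = true := by decide +kernel
theorem st1 : Nat.beq (satW ws1 8 (vset es1)) U1 = true := by decide +kernel

/-- words and points of the edges of node 2 -/
noncomputable def es2 : List (ℕ × ℕ) :=
  [(0, 1), (0x2345965432, 36), (0x23459a65976543254965, 1315), (0x234596578, 20), (0x75623459a956345976543287659a64597654396546597656878, 16314)]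

noncomputable def ws2 : List ℕ :=
  [0x87659a459675645987654a95678, 0x876543956459a956459876548765a, 0x87659a459345623459a7659876543287659a5674563459876543459a67564598765495a9876878]

theorem mw2 : masksB mA ws2 = true := by decide +kernel
theorem me2 : masksB mA (es2.map Prod.fst) = true := by decide +kernel
theorem pt2 : ptsB es2 = true := by decide +kernel
theorem st2 : Nat.beq (satW ws2 8 (vset es2)) U1 = true := by decide +kernel

/-- words and points of the edges of node 3 -/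
noncomputable def es3 : List (ℕ × ℕ) :=
  [(0, 1), (0x23, 3)]

noncomputable def ws3 : List ℕ :=
  [0x659a459876543956459765487659876878, 0x2a4597867563459a67456345987654356459a765987654a965a9a]

theorem mw3 : masksB mA ws3 = true := by decide +kernel
theorem me3 : masksB mA (es3.map Prod.fst) = true := by decide +kernel
theorem pt3 : ptsB es3 = true := by decide +kernel
theorem st3 : Nat.beq (satW ws3 13 (vset es3)) U1 = true := by decide +kernel

/-- words and points of the edges of node 4 -/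
noncomputable def es4 : List (ℕ × ℕ) :=
  [(0x23, 3), (0x23459657a, 24)]

noncomputable def ws4 : List ℕ :=
  [0x87659a459675645987654a9567, 0x597456345987654396, 0x324354958]

theorem mw4 : masksB mA ws4 = true := by decide +kernel
theorem me4 : masksB mA (es4.map Prod.fst) = true := by decide +kernel
theorem pt4 : ptsB es4 = true := by decide +kernel
theorem st4 : Nat.beq (satW ws4 7 (vset es4)) U1 = true := by decide +kernel

/-- words and points of the edges of node 5 -/
noncomputable def es5 : List (ℕ × ℕ) :=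
  [(0x2345, 5), (0x23459678, 15), (0x23459678a, 21), (0x2a9543657, 3), (0x287659a4596756459876543a956459a675645987654a659765a96, 606)]

noncomputable def ws5 : List ℕ :=
  [0x7659a634597654365976549765a96a, 0x5432975634598765434876]

theorem mw5 : masksB mA ws5 = true := by decide +kernel
theorem me5 : masksB mA (es5.map Prod.fst) = true := by decide +kernel
theorem pt5 : ptsB es5 = true := by decide +kernel
theorem st5 : Nat.beq (satW ws5 13 (vset es5)) U1 = true := by decide +kernel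

/-- words and points of the edges of node 6 -/
noncomputable def es6 : List (ℕ × ℕ) :=
  [(0x2, 2), (0x234, 4), (0x23459, 7), (0x2345965a9, 27), (0x23459675645987654a9, 736), (0x87623459a95645976543259765439a6597654876597, 7490), (0x87623459a956459765432659765439a59654876597, 9686), (0xa95623459a7634598765432a597654345967564598765476598765a9876878a, 21226), (0xa956745623459a6756459876543256459876543459675645987654a978, 10507)]

noncomputable def ws6 : List ℕ :=
  [0x87659a459675645987654a95678, 0x76543876547657687, 0x2378]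

theorem mw6 : masksB mA ws6 = true := by decide +kernel
theorem me6 : masksB mA (es6.map Prod.fst) = true := by decide +kernel
theorem pt6 : ptsB es6 = true := by decide +kernel
theorem st6 : Nat.beq (satW ws6 8 (vset es6)) U1 = true := by decide +kernel

/-- words and points of the edges of node 7 -/
noncomputable def es7 : List (ℕ × ℕ) :=
  [(0, 1), (0x234, 4), (0x234596a, 14), (0x4323a459654a, 26), (0xa2345965432959a, 53)]

noncomputable def ws7 : List ℕ :=
  [0x45967563459a63459876543986756459a9564597654a76598765968a, 0x45965432434596545978]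

theorem mw7 : masksB mA ws7 = true := by decide +kernel
theorem me7 : masksB mA (es7.map Prod.fst) = true := by decide +kernel
theorem pt7 : ptsB es7 = true := by decide +kernel
theorem st7 : Nat.beq (satW ws7 12 (vset es7)) U1 = true := by decide +kernel

theorem cov0 (k : Fi23) (hk : k ∈ gp mA) : ∃ e : Fin 32, srcE e = 0 ∧
    ∃ s ∈ Subgroup.closure {x | ∃ w ∈ wsA 0, E w = x}, ∃ x ∈ gp mO, k = s * E (aE e) * x := by
  obtain ⟨e, he, s, hs, x, hx, h⟩ := cov_of_check ws0 es0 9 mw0 me0 pt0 st0 k hk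
  have hw : wsA 0 = ws0 := rfl
  rw [hw]
  unfold es0 at he
  simp only [List.mem_cons, List.not_mem_nil, or_false] at he
  rcases he with rfl
  · exact ⟨0, rfl, s, hs, x, hx, h⟩

theorem cov1 (k : Fi23) (hk : k ∈ gp mA) : ∃ e : Fin 32, srcE e = 1 ∧
    ∃ s ∈ Subgroup.closure {x | ∃ w ∈ wsA 1, E w = x}, ∃ x ∈ gp mO, k = s * E (aE e) * x := by
  obtain ⟨e, he, s, hs, x, hx, h⟩ := cov_of_check ws1 es1 8 mw1 me1 pt1 st1 k hk
  have hw : wsA 1 = ws1 := rfl
  rw [hw]
  unfold es1 at he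
  simp only [List.mem_cons, List.not_mem_nil, or_false] at he
  rcases he with rfl | rfl | rfl
  · exact ⟨1, rfl, s, hs, x, hx, h⟩
  · exact ⟨3, rfl, s, hs, x, hx, h⟩
  · exact ⟨7, rfl, s, hs, x, hx, h⟩

theorem cov2 (k : Fi23) (hk : k ∈ gp mA) : ∃ e : Fin 32, srcE e = 2 ∧
    ∃ s ∈ Subgroup.closure {x | ∃ w ∈ wsA 2, E w = x}, ∃ x ∈ gp mO, k = s * E (aE e) * x := by
  obtain ⟨e, he, s, hs, x, hx, h⟩ := cov_of_check ws2 es2 8 mw2 me2 pt2 st2 k hk
  have hw : wsA 2 = ws2 := rfl
  rw [hw]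
  unfold es2 at he
  simp only [List.mem_cons, List.not_mem_nil, or_false] at he
  rcases he with rfl | rfl | rfl | rfl | rfl
  · exact ⟨2, rfl, s, hs, x, hx, h⟩
  · exact ⟨4, rfl, s, hs, x, hx, h⟩
  · exact ⟨5, rfl, s, hs, x, hx, h⟩
  · exact ⟨8, rfl, s, hs, x, hx, h⟩
  · exact ⟨26, rfl, s, hs, x, hx, h⟩

theorem cov3 (k : Fi23) (hk : k ∈ gp mA) : ∃ e : Fin 32, srcE e = 3 ∧
    ∃ s ∈ Subgroup.closure {x | ∃ w ∈ wsA 3, E w = x}, ∃ x ∈ gp mO, k = s * E (aE e) * x := by
  obtain ⟨e, he, s, hs, x, hx, h⟩ := cov_of_check ws3 es3 13 mw3 me3 pt3 st3 k hk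
  have hw : wsA 3 = ws3 := rfl
  rw [hw]
  unfold es3 at he
  simp only [List.mem_cons, List.not_mem_nil, or_false] at he
  rcases he with rfl | rfl
  · exact ⟨6, rfl, s, hs, x, hx, h⟩
  · exact ⟨21, rfl, s, hs, x, hx, h⟩

theorem cov4 (k : Fi23) (hk : k ∈ gp mA) : ∃ e : Fin 32, srcE e = 4 ∧
    ∃ s ∈ Subgroup.closure {x | ∃ w ∈ wsA 4, E w = x}, ∃ x ∈ gp mO, k = s * E (aE e) * x := by
  obtain ⟨e, he, s, hs, x, hx, h⟩ := cov_of_check ws4 es4 7 mw4 me4 pt4 st4 k hk
  have hw : wsA 4 = ws4 := rfl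
  rw [hw]
  unfold es4 at he
  simp only [List.mem_cons, List.not_mem_nil, or_false] at he
  rcases he with rfl | rfl
  · exact ⟨9, rfl, s, hs, x, hx, h⟩
  · exact ⟨10, rfl, s, hs, x, hx, h⟩

theorem cov5 (k : Fi23) (hk : k ∈ gp mA) : ∃ e : Fin 32, srcE e = 5 ∧
    ∃ s ∈ Subgroup.closure {x | ∃ w ∈ wsA 5, E w = x}, ∃ x ∈ gp mO, k = s * E (aE e) * x := by
  obtain ⟨e, he, s, hs, x, hx, h⟩ := cov_of_check ws5 es5 13 mw5 me5 pt5 st5 k hk
  have hw : wsA 5 = ws5 := rfl
  rw [hw]
  unfold es5 at he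
  simp only [List.mem_cons, List.not_mem_nil, or_false] at he
  rcases he with rfl | rfl | rfl | rfl | rfl
  · exact ⟨18, rfl, s, hs, x, hx, h⟩
  · exact ⟨19, rfl, s, hs, x, hx, h⟩
  · exact ⟨20, rfl, s, hs, x, hx, h⟩
  · exact ⟨24, rfl, s, hs, x, hx, h⟩
  · exact ⟨25, rfl, s, hs, x, hx, h⟩

theorem cov6 (k : Fi23) (hk : k ∈ gp mA) : ∃ e : Fin 32, srcE e = 6 ∧
    ∃ s ∈ Subgroup.closure {x | ∃ w ∈ wsA 6, E w = x}, ∃ x ∈ gp mO, k = s * E (aE e) * x := by
  obtain ⟨e, he, s, hs, x, hx, h⟩ := cov_of_check ws6 es6 8 mw6 me6 pt6 st6 k hk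
  have hw : wsA 6 = ws6 := rfl
  rw [hw]
  unfold es6 at he
  simp only [List.mem_cons, List.not_mem_nil, or_false] at he
  rcases he with rfl | rfl | rfl | rfl | rfl | rfl | rfl | rfl | rfl
  · exact ⟨11, rfl, s, hs, x, hx, h⟩
  · exact ⟨12, rfl, s, hs, x, hx, h⟩
  · exact ⟨13, rfl, s, hs, x, hx, h⟩
  · exact ⟨14, rfl, s, hs, x, hx, h⟩
  · exact ⟨15, rfl, s, hs, x, hx, h⟩
  · exact ⟨16, rfl, s, hs, x, hx, h⟩
  · exact ⟨17, rfl, s, hs, x, hx, h⟩
  · exact ⟨22, rfl, s, hs, x, hx, h⟩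
  · exact ⟨23, rfl, s, hs, x, hx, h⟩

theorem cov7 (k : Fi23) (hk : k ∈ gp mA) : ∃ e : Fin 32, srcE e = 7 ∧
    ∃ s ∈ Subgroup.closure {x | ∃ w ∈ wsA 7, E w = x}, ∃ x ∈ gp mO, k = s * E (aE e) * x := by
  obtain ⟨e, he, s, hs, x, hx, h⟩ := cov_of_check ws7 es7 12 mw7 me7 pt7 st7 k hk
  have hw : wsA 7 = ws7 := rfl
  rw [hw]
  unfold es7 at he
  simp only [List.mem_cons, List.not_mem_nil, or_false] at he
  rcases he with rfl | rfl | rfl | rfl | rfl
  · exact ⟨27, rfl, s, hs, x, hx, h⟩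
  · exact ⟨28, rfl, s, hs, x, hx, h⟩
  · exact ⟨29, rfl, s, hs, x, hx, h⟩
  · exact ⟨30, rfl, s, hs, x, hx, h⟩
  · exact ⟨31, rfl, s, hs, x, hx, h⟩

/-- The coverings of the `A`-nodes. -/
theorem covA (i : Fin 8) (k : Fi23) (hk : k ∈ gp mA) : ∃ e : Fin 32, srcE e = i ∧
    ∃ s ∈ Subgroup.closure {x | ∃ w ∈ wsA i, E w = x}, ∃ x ∈ gp mO, k = s * E (aE e) * x := by
  fin_cases i
  · exact cov0 k hk
  · exact cov1 k hk
  · exact cov2 k hk
  · exact cov3 k hk
  · exact cov4 k hk
  · exact cov5 k hk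
  · exact cov6 k hk
  · exact cov7 k hk

end Cfsg.Agent.BM.CovA
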