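import Cfsg.Agent.BM.Fi22O

/-!
Coverings `Fi₂₂ = ⋃ ⟨T⟩ m O` of the eight `A`-nodes of stage A over `Fi₂₂ = ⟨t2, …, t10⟩` (labels
`g f e d c b a h i = t2 t3 t4 t5 t6 t7 t8 t9 t10`), `O = ⟨t3, …, t10⟩`.  Generated by a program.
-/

set_option autoImplicit false
set_option maxRecDepth 100000
set_option Elab.async false

namespace Cfsg.Agent.BM.CovA22Chk

open Cfsg.Spor Cfsg.Spor.Fi22 Cfsg.Agent.BM.NodeLib Cfsg.Agent.BM.Fi22O

/-! ### node 0 -/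

def T0 : List (List Gen) :=
  [[.g],
   [.f],
   [.e],
   [.d],
   [.c],
   [.b],
   [.a],
   [.h],
   [.i]]

def M0 : List (List Gen) :=
  [[]]

theorem covB0 : R.covB T0 M0 0 9 U = true := by decide +kernel

/-- the covering of node 0 -/
theorem cov0 (k : Spor.Fi22) :
    ∃ m ∈ M0, ∃ s ∈ R.clo T0, ∃ x ∈ O, k = s * R.wd m * x :=
  cov_of_check covB0 k

/-! ### node 1 -/

def T1 : List (List Gen) :=
  [[.c],
   [.h],
   [.b],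
   [.a],
   [.d],
   [.f],
   [.e],
   [.g]]

def M1 : List (List Gen) :=
  [[.g],
   [.i, .h, .d, .e, .f, .g],
   [.i, .h, .d, .c, .b, .a, .e, .d, .c, .b, .h, .i, .f, .e, .d, .c, .h, .d, .e, .f, .g]]

theorem covB1 : R.covB T1 M1 0 8 U = true := by decide +kernel

/-- the covering of node 1 -/
theorem cov1 (k : Spor.Fi22) :
    ∃ m ∈ M1, ∃ s ∈ R.clo T1, ∃ x ∈ O, k = s * R.wd m * x :=
  cov_of_check covB1 k

/-! ### node 2 -/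

def T2 : List (List Gen) :=
  [[.a, .b, .c, .d, .h, .i, .e, .d, .c, .b, .a, .h, .d, .e, .c, .d, .b, .c, .h, .d, .e, .i, .h, .d, .c, .b,
    .a],
   [.i, .d, .c, .b, .a, .e, .d, .c, .b, .a, .h, .d, .e, .c, .d, .h, .i, .h, .d, .e, .c, .d, .h, .f, .e, .d, .c,
    .b, .a],
   [.a, .b, .a, .c, .b, .a, .h, .i, .d, .h, .e, .d, .c, .b, .a, .h, .d, .e, .c, .d, .b, .c, .i, .h, .d, .e, .f,
    .e, .d, .c, .b, .a, .h, .d, .e, .f, .c, .d, .e, .b, .c, .d, .i, .h, .d, .c, .b, .a, .g, .f, .e, .d, .c, .b,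
    .a, .h, .d, .c, .b, .i, .h, .d, .e, .f, .g, .c, .d, .e, .f, .h, .d, .e, .i, .h, .d, .c, .b, .a]]

def M2 : List (List Gen) :=
  [[],
   [.g, .f, .e, .d, .c, .h, .d, .e, .f, .g],
   [.d, .c, .h, .e, .d, .g, .f, .e, .d, .c, .b, .h, .d, .c, .i, .h, .d, .e, .f, .g],
   [.a, .b, .d, .c, .h, .d, .e, .f, .g],
   [.a, .b, .a, .c, .d, .c, .b, .h, .d, .c, .e, .d, .c, .h, .f, .e, .d, .c, .b, .h, .d, .e, .c, .i, .h, .d, .c,
    .b, .a, .g, .f, .e, .d, .c, .b, .h, .d, .e, .f, .c, .d, .h, .i, .h, .d, .e, .f, .g, .c, .d, .b]]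

theorem covB2 : R.covB T2 M2 0 8 U = true := by decide +kernel

/-- the covering of node 2 -/
theorem cov2 (k : Spor.Fi22) :
    ∃ m ∈ M2, ∃ s ∈ R.clo T2, ∃ x ∈ O, k = s * R.wd m * x :=
  cov_of_check covB2 k

/-! ### node 3 -/

def T3 : List (List Gen) :=
  [[.a, .b, .a, .c, .b, .a, .h, .d, .c, .b, .a, .e, .d, .c, .b, .h, .d, .e, .c, .d, .h, .f, .e, .d, .c, .b, .a,
    .h, .d, .e, .i, .h, .d, .c],
   [.i, .h, .i, .d, .c, .h, .i, .e, .d, .c, .b, .a, .h, .d, .c, .b, .i, .h, .d, .e, .c, .d, .f, .e, .d, .c, .b,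
    .a, .h, .d, .e, .f, .c, .d, .e, .b, .c, .i, .h, .d, .e, .f, .c, .d, .b, .c, .a, .b, .h, .d, .e, .i, .g]]

def M3 : List (List Gen) :=
  [[],
   [.f, .g]]

theorem covB3 : R.covB T3 M3 0 13 U = true := by decide +kernel

/-- the covering of node 3 -/
theorem cov3 (k : Spor.Fi22) :
    ∃ m ∈ M3, ∃ s ∈ R.clo T3, ∃ x ∈ O, k = s * R.wd m * x :=
  cov_of_check covB3 k

/-! ### node 4 -/

def T4 : List (List Gen) :=
  [[.b, .c, .d, .h, .i, .e, .d, .c, .b, .a, .h, .d, .e, .c, .d, .b, .c, .h, .d, .e, .i, .h, .d, .c, .b, .a],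
   [.c, .h, .f, .e, .d, .c, .b, .a, .h, .d, .e, .f, .c, .d, .e, .b, .h, .d],
   [.a, .d, .h, .e, .d, .f, .e, .g, .f]]

def M4 : List (List Gen) :=
  [[.f, .g],
   [.i, .b, .d, .c, .h, .d, .e, .f, .g]]

theorem covB4 : R.covB T4 M4 0 7 U = true := by decide +kernel

/-- the covering of node 4 -/
theorem cov4 (k : Spor.Fi22) :
    ∃ m ∈ M4, ∃ s ∈ R.clo T4, ∃ x ∈ O, k = s * R.wd m * x :=
  cov_of_check covB4 k

/-! ### node 5 -/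

def T5 : List (List Gen) :=
  [[.i, .c, .h, .i, .d, .c, .b, .h, .e, .d, .c, .b, .h, .d, .c, .f, .e, .d, .c, .b, .h, .d, .e, .f, .c, .i, .h,
    .d, .c, .b],
   [.c, .b, .a, .e, .f, .e, .d, .c, .b, .a, .h, .d, .e, .f, .c, .d, .b, .h, .g, .f, .e, .d]]

def M5 : List (List Gen) :=
  [[.d, .e, .f, .g],
   [.a, .b, .c, .h, .d, .e, .f, .g],
   [.i, .a, .b, .c, .h, .d, .e, .f, .g],
   [.b, .d, .c, .f, .e, .d, .h, .i, .g],
   [.c, .h, .i, .d, .c, .b, .h, .d, .c, .i, .e, .d, .c, .b, .a, .h, .d, .e, .c, .d, .b, .c, .i, .h, .d, .e, .c,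
    .d, .h, .i, .f, .e, .d, .c, .b, .a, .h, .d, .e, .c, .d, .b, .c, .h, .d, .e, .i, .h, .d, .c, .b, .a, .g]]

theorem covB5 : R.covB T5 M5 0 13 U = true := by decide +kernel

/-- the covering of node 5 -/
theorem cov5 (k : Spor.Fi22) :
    ∃ m ∈ M5, ∃ s ∈ R.clo T5, ∃ x ∈ O, k = s * R.wd m * x :=
  cov_of_check covB5 k

/-! ### node 6 -/

def T6 : List (List Gen) :=
  [[.a, .b, .c, .d, .h, .i, .e, .d, .c, .b, .a, .h, .d, .e, .c, .d, .b, .c, .h, .d, .e, .i, .h, .d, .c, .b,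
    .a],
   [.b, .a, .c, .b, .d, .c, .b, .e, .d, .c, .b, .a, .f, .e, .d, .c, .b],
   [.a, .b, .f, .g]]

def M6 : List (List Gen) :=
  [[.g],
   [.e, .f, .g],
   [.h, .d, .e, .f, .g],
   [.h, .i, .d, .c, .h, .d, .e, .f, .g],
   [.h, .i, .e, .d, .c, .b, .a, .h, .d, .e, .c, .d, .b, .c, .h, .d, .e, .f, .g],
   [.b, .h, .d, .c, .b, .a, .e, .d, .c, .b, .h, .d, .c, .i, .h, .f, .e, .d, .c, .b, .h, .d, .g, .f, .e, .d, .c,
    .b, .h, .d, .e, .c, .d, .h, .i, .h, .d, .e, .f, .g, .c, .b, .a],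
   [.b, .h, .d, .c, .b, .a, .e, .d, .c, .h, .d, .i, .h, .f, .e, .d, .c, .b, .h, .d, .c, .g, .f, .e, .d, .c, .b,
    .h, .d, .e, .c, .d, .h, .i, .h, .d, .e, .f, .g, .c, .b, .a],
   [.i, .a, .b, .a, .c, .b, .a, .h, .i, .d, .c, .b, .a, .h, .d, .c, .b, .e, .d, .c, .b, .a, .h, .d, .e, .c, .d,
    .b, .c, .h, .d, .e, .f, .e, .d, .c, .b, .h, .d, .i, .g, .f, .e, .d, .c, .b, .a, .h, .d, .e, .f, .c, .b, .i,
    .h, .d, .e, .f, .g, .c, .d, .h, .i],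
   [.a, .b, .h, .i, .e, .d, .c, .b, .a, .h, .d, .e, .c, .d, .b, .c, .h, .d, .e, .f, .e, .d, .c, .b, .a, .h, .d,
    .e, .c, .d, .g, .f, .e, .d, .c, .b, .a, .h, .d, .e, .c, .d, .b, .c, .i, .h, .d, .e, .f, .g, .c, .d, .e, .b,
    .c, .d, .h, .i]]

theorem covB6 : R.covB T6 M6 0 8 U = true := by decide +kernel

/-- the covering of node 6 -/
theorem cov6 (k : Spor.Fi22) :
    ∃ m ∈ M6, ∃ s ∈ R.clo T6, ∃ x ∈ O, k = s * R.wd m * x :=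
  cov_of_check covB6 k

/-! ### node 7 -/

def T7 : List (List Gen) :=
  [[.i, .a, .c, .h, .d, .c, .b, .a, .h, .d, .c, .b, .i, .e, .d, .c, .b, .h, .d, .e, .c, .d, .h, .i, .h, .d, .e,
    .c, .d, .b, .c, .a, .h, .f, .e, .d, .c, .b, .a, .h, .d, .e, .f, .c, .i, .h, .d, .e, .f, .c, .d, .b, .c, .h,
    .d, .e],
   [.a, .b, .h, .d, .e, .d, .c, .h, .d, .e, .f, .e, .g, .f, .e, .d, .c, .h, .d, .e]]

def M7 : List (List Gen) :=
  [[],
   [.e, .f, .g],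
   [.i, .c, .h, .d, .e, .f, .g],
   [.i, .e, .d, .c, .h, .d, .e, .i, .f, .g, .f, .e],
   [.i, .h, .d, .h, .g, .f, .e, .d, .c, .h, .d, .e, .f, .g, .i]]

theorem covB7 : R.covB T7 M7 0 12 U = true := by decide +kernel

/-- the covering of node 7 -/
theorem cov7 (k : Spor.Fi22) :
    ∃ m ∈ M7, ∃ s ∈ R.clo T7, ∃ x ∈ O, k = s * R.wd m * x :=
  cov_of_check covB7 k

end Cfsg.Agent.BM.CovA22Chk
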