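import Cfsg.Agent.BM.OracleFi23
import Cfsg.Agent.BM.Psi
import Cfsg.Agent.Fischer.Fi23H

/-!
Coverings of `A = ⟨t2, …, t10⟩ = 2.Fi22 ≤ Fi23` by double cosets `S a O`, `O = ⟨t3, …, t10⟩ = O₇(3)`: the left cosets
`k O` correspond to the 28160 points of the orbit of the point `1` (= coset of `t1`). Words are hexadecimal numbers as in
`Script`.
-/

set_option autoImplicit false
set_option maxRecDepth 100000

namespace Cfsg.Agent.BM.CovA

open Cfsg.Agent.Lib.PermNet Cfsg.Agent.Lib.PermNetOrbit Cfsg.Agent.BM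
open Cfsg.Agent.Fischer.Fi23Rel Cfsg.Agent.Fischer.Fi23Hom Cfsg.Agent.Fischer.Fi23Orb
  Cfsg.Agent.Fischer.Fi23OrbData
open Cfsg.Spor Cfsg.Spor.Fi23
open Cfsg.Agent.BM.OracleFi23 (lt lt0 fgen)

/-- The element of `Fi23` of a word (letters `1, …, a` are `t1, …, t10`). -/
noncomputable def E (w : ℕ) : Fi23 := Script.ev (fgen 0) w

/-- The action of a letter on sets of points. -/
noncomputable def app (d V : ℕ) : ℕ := (net (lt 0 d)).app V

theorem testBit_appLetter (d V p : ℕ) : (app d V).testBit p = V.testBit (rho (fgen 0 d) p) := by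
  unfold app fgen
  rw [testBit_app (ok_net _), rho_gen]

theorem testBit_traceF (n w V p : ℕ) :
    (Script.traceF app n w V).testBit p = V.testBit (rho (Script.evF (fgen 0) n w) p) := by
  induction n generalizing w V with
  | zero =>
    rw [Script.traceF_zero, Script.evF_zero, map_one]
    rfl
  | succ n ih =>
    rw [Script.traceF_succ, Script.evF_succ]
    split_ifs with h
    · rw [map_one]; rfl
    · rw [ih, testBit_appLetter, map_mul, Equiv.Perm.mul_apply]

theorem testBit_trace (w V p : ℕ) : (Script.trace app w V).testBit p = V.testBit (rho (E w) p) :=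
  testBit_traceF _ w V p

/-- One round of saturation under the words `ws`. -/
noncomputable def satRoundW (ws : List ℕ) : ℕ → ℕ :=
  List.rec (motive := fun _ => ℕ → ℕ) (fun V => V)
    (fun w _ ih V => seq (Nat.lor V (Script.trace app w V)) ih) ws

/-- `r` rounds of saturation. -/
noncomputable def satW (ws : List ℕ) (r : ℕ) : ℕ → ℕ :=
  Nat.rec (motive := fun _ => ℕ → ℕ) (fun V => V) (fun _ ih V => seq (satRoundW ws V) ih) r

theorem satRoundW_cons (w : ℕ) (ws : List ℕ) (V : ℕ) :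
    satRoundW (w :: ws) V = satRoundW ws (V ||| Script.trace app w V) := by
  show seq (Nat.lor V (Script.trace app w V)) (satRoundW ws) = _
  rw [seq_eq]; rfl

theorem satW_succ (ws : List ℕ) (r V : ℕ) : satW ws (r + 1) V = satW ws r (satRoundW ws V) := by
  show seq (satRoundW ws V) (satW ws r) = _
  rw [seq_eq]

theorem satRoundW_spec {K : Subgroup Fi23} {ws : List ℕ} (hK : ∀ w ∈ ws, E w ∈ K) {V p : ℕ}
    (h : (satRoundW ws V).testBit p = true) : ∃ g ∈ K, V.testBit (rho g p) = true := by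
  induction ws generalizing V with
  | nil => exact ⟨1, K.one_mem, by rw [map_one]; exact h⟩
  | cons w ws ih =>
    rw [satRoundW_cons] at h
    obtain ⟨g, hg, h'⟩ := ih (fun w' h' => hK w' (List.mem_cons_of_mem _ h')) h
    rw [Nat.testBit_or, Bool.or_eq_true, testBit_trace] at h'
    rcases h' with h' | h'
    · exact ⟨g, hg, h'⟩
    · refine ⟨E w * g, K.mul_mem (hK w List.mem_cons_self) hg, ?_⟩
      rw [map_mul, Equiv.Perm.mul_apply]
      exact h'

theorem satW_spec {K : Subgroup Fi23} {ws : List ℕ} (hK : ∀ w ∈ ws, E w ∈ K) (r : ℕ) {V p : ℕ}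
    (h : (satW ws r V).testBit p = true) : ∃ g ∈ K, V.testBit (rho g p) = true := by
  induction r generalizing V with
  | zero => exact ⟨1, K.one_mem, by rw [map_one]; exact h⟩
  | succ r ih =>
    rw [satW_succ] at h
    obtain ⟨g, hg, h'⟩ := ih h
    obtain ⟨g', hg', h''⟩ := satRoundW_spec hK h'
    refine ⟨g' * g, K.mul_mem hg' hg, ?_⟩
    rw [map_mul, Equiv.Perm.mul_apply]
    exact h''

/-- The set of the points of a list. -/
noncomputable def vset (es : List (ℕ × ℕ)) : ℕ :=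
  List.rec (motive := fun _ => ℕ) 0 (fun e _ ih => Nat.lor (Nat.pow 2 e.2) ih) es

theorem vset_cons (e : ℕ × ℕ) (es : List (ℕ × ℕ)) : vset (e :: es) = 2 ^ e.2 ||| vset es := rfl

theorem testBit_vset {es : List (ℕ × ℕ)} {p : ℕ} (h : (vset es).testBit p = true) : ∃ e ∈ es, e.2 = p := by
  induction es with
  | nil => exact absurd h (by show ¬ (Nat.testBit 0 p = true); simp)
  | cons e es ih =>
    rw [vset_cons, Nat.testBit_or, Bool.or_eq_true, Nat.testBit_two_pow] at h
    rcases h with h | h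
    · exact ⟨e, List.mem_cons_self, by simpa using h⟩
    · obtain ⟨e', he', h'⟩ := ih h
      exact ⟨e', List.mem_cons_of_mem _ he', h'⟩

/-- Each word moves the point `1` to the given point. -/
noncomputable def ptsB (es : List (ℕ × ℕ)) : Bool :=
  List.rec (motive := fun _ => Bool) true
    (fun e _ ih => and (tb (Script.trace app e.1 (Nat.pow 2 e.2)) 1) ih) es

theorem ptsB_spec {es : List (ℕ × ℕ)} (h : ptsB es = true) : ∀ e ∈ es, rho (E e.1) 1 = e.2 := by
  induction es with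
  | nil => intro e he; exact absurd he (by simp)
  | cons e es ih =>
    have h' : and (tb (Script.trace app e.1 (Nat.pow 2 e.2)) 1) (ptsB es) = true := h
    rw [Bool.and_eq_true] at h'
    intro e' he'
    rcases List.mem_cons.1 he' with rfl | he'
    · have h1 := h'.1
      rw [tb_eq, testBit_trace] at h1
      have h2 : (2 ^ e'.2).testBit (rho (E e'.1) 1) = true := h1
      rw [Nat.testBit_two_pow] at h2
      exact (by simpa using h2 : e'.2 = rho (E e'.1) 1).symm
    · exact ih h'.2 e' he'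

/-- All words have letters in the mask. -/
noncomputable def masksB (m : ℕ) (ws : List ℕ) : Bool :=
  List.rec (motive := fun _ => Bool) true (fun w _ ih => and (Script.wordIn m w) ih) ws

theorem masksB_spec {m : ℕ} {ws : List ℕ} (h : masksB m ws = true) : ∀ w ∈ ws, Script.wordIn m w = true := by
  induction ws with
  | nil => intro w hw; exact absurd hw (by simp)
  | cons v ws ih =>
    have h' : and (Script.wordIn m v) (masksB m ws) = true := h
    rw [Bool.and_eq_true] at h'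
    intro w hw
    rcases List.mem_cons.1 hw with rfl | hw
    · exact h'.1
    · exact ih h'.2 w hw

/-! ### The subgroups -/

/-- The mask of the letters `2, …, a`. -/
noncomputable def mA : ℕ := nat_lit 2044
/-- The mask of the letters `3, …, a`. -/
noncomputable def mO : ℕ := nat_lit 2040

/-- The subgroup of `Fi23` generated by the letters of a mask. -/
def gp (m : ℕ) : Subgroup Fi23 := Subgroup.closure {x | ∃ d, m.testBit d = true ∧ fgen 0 d = x}

theorem E_mem {m w : ℕ} (h : Script.wordIn m w = true) : E w ∈ gp m := by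
  refine Script.ev_mem (m := m) (K := gp m) ?_ w h
  intro d hd
  exact Subgroup.subset_closure ⟨d, hd, rfl⟩

theorem bits_lt {m : ℕ} (hm : m < 2 ^ 11) {d : ℕ} (h : m.testBit d = true) : d < 11 := by
  by_contra hc
  rw [Nat.testBit_lt_two_pow (lt_of_lt_of_le hm (Nat.pow_le_pow_right (by norm_num) (by omega)))] at h
  exact absurd h (by simp)

theorem letters_mA {d : ℕ} (h : mA.testBit d = true) : 2 ≤ d ∧ d ≤ 10 := by
  have h1 : d < 11 := bits_lt (m := mA) (by decide +kernel) h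
  refine ⟨?_, by omega⟩
  by_contra hc
  interval_cases d
  · exact absurd h (by decide +kernel)
  · exact absurd h (by decide +kernel)

theorem letters_mO {d : ℕ} (h : mO.testBit d = true) : 3 ≤ d ∧ d ≤ 10 := by
  have h1 : d < 11 := bits_lt (m := mO) (by decide +kernel) h
  refine ⟨?_, by omega⟩
  by_contra hc
  interval_cases d
  · exact absurd h (by decide +kernel)
  · exact absurd h (by decide +kernel)
  · exact absurd h (by decide +kernel)

theorem lt_2 : lt 0 2 = .g := by rfl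
theorem lt_3 : lt 0 3 = .f := by rfl
theorem lt_4 : lt 0 4 = .e := by rfl
theorem lt_5 : lt 0 5 = .d := by rfl
theorem lt_6 : lt 0 6 = .c := by rfl
theorem lt_7 : lt 0 7 = .b := by rfl
theorem lt_8 : lt 0 8 = .a := by rfl
theorem lt_9 : lt 0 9 = .h := by rfl
theorem lt_10 : lt 0 10 = .i := by rfl

theorem gpA_le : gp mA ≤ H := by
  unfold gp
  rw [Subgroup.closure_le]
  rintro x ⟨d, hd, rfl⟩
  obtain ⟨h2, h10⟩ := letters_mA hd
  have key : ∀ y : Gen, [y] ∈ w1 → gen y ∈ H := fun y hy =>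
    Subgroup.subset_closure ⟨[y], hy, by simp [word]⟩
  show gen (lt 0 d) ∈ H
  interval_cases d
  · rw [lt_2]; exact key _ (by simp [w1])
  · rw [lt_3]; exact key _ (by simp [w1])
  · rw [lt_4]; exact key _ (by simp [w1])
  · rw [lt_5]; exact key _ (by simp [w1])
  · rw [lt_6]; exact key _ (by simp [w1])
  · rw [lt_7]; exact key _ (by simp [w1])
  · rw [lt_8]; exact key _ (by simp [w1])
  · rw [lt_9]; exact key _ (by simp [w1])
  · rw [lt_10]; exact key _ (by simp [w1])

theorem mem_gp {m d : ℕ} (h : m.testBit d = true) : gen (lt 0 d) ∈ gp m :=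
  Subgroup.subset_closure ⟨d, h, rfl⟩

theorem H_le : H ≤ gp mA := by
  unfold H
  rw [Subgroup.closure_le]
  rintro x ⟨l, hl, rfl⟩
  unfold w1 at hl
  simp only [List.mem_cons, List.not_mem_nil, or_false] at hl
  have e1 : ∀ y : Gen, word [y] = gen y := fun y => by simp [word]
  rcases hl with rfl | rfl | rfl | rfl | rfl | rfl | rfl | rfl | rfl
  · rw [e1, ← lt_2]; exact mem_gp (by decide +kernel)
  · rw [e1, ← lt_3]; exact mem_gp (by decide +kernel)
  · rw [e1, ← lt_4]; exact mem_gp (by decide +kernel)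
  · rw [e1, ← lt_5]; exact mem_gp (by decide +kernel)
  · rw [e1, ← lt_6]; exact mem_gp (by decide +kernel)
  · rw [e1, ← lt_7]; exact mem_gp (by decide +kernel)
  · rw [e1, ← lt_8]; exact mem_gp (by decide +kernel)
  · rw [e1, ← lt_9]; exact mem_gp (by decide +kernel)
  · rw [e1, ← lt_10]; exact mem_gp (by decide +kernel)

/-- `A = ⟨t2, …, t10⟩`. -/
theorem H_eq_gp : H = gp mA := le_antisymm H_le gpA_le

/-- The letters of `O` generate a subgroup fixing the point `1`. -/
theorem gpO_le : gp mO ≤ gp mA := by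
  unfold gp
  refine Subgroup.closure_mono ?_
  rintro x ⟨d, hd, rfl⟩
  refine ⟨d, ?_, rfl⟩
  obtain ⟨h2, h10⟩ := letters_mO hd
  interval_cases d <;> decide +kernel

/-! ### The order of `O` -/

/-- the letters of the levels of the stabiliser chain of `O` -/
def o0 : List (List Gen) := [[.f], [.e], [.d], [.c], [.b], [.a], [.h], [.i]]
def o1 : List (List Gen) := [[.e], [.d], [.c], [.b], [.a], [.h], [.i]]
def o2 : List (List Gen) := [[.d], [.c], [.b], [.a], [.h], [.i]]
def o3 : List (List Gen) := [[.c], [.b], [.a], [.h], [.i]]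
def o4 : List (List Gen) := [[.b], [.a], [.i]]
def o5 : List (List Gen) := [[.a], [.i]]
def o6 : List (List Gen) := [[.i]]

theorem ofix0 : fixAllB (nw o0) [1, 0] = true := by decide +kernel
theorem om0 : Nat.ble (3159 : ℕ) (pc 15 (sat (nw o0) 7 (Nat.pow 2 (8005 : ℕ)))) = true := by decide +kernel
theorem olt0 : Nat.beq (Nat.shiftRight (sat (nw o0) 7 (Nat.pow 2 (8005 : ℕ))) (Nat.pow 2 (15 : ℕ))) 0 = true := by
  decide +kernel
theorem ofix1 : fixAllB (nw o1) [8005, 1, 0] = true := by decide +kernel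
theorem om1 : Nat.ble (288 : ℕ) (pc 15 (sat (nw o1) 6 (Nat.pow 2 (8002 : ℕ)))) = true := by decide +kernel
theorem olt1 : Nat.beq (Nat.shiftRight (sat (nw o1) 6 (Nat.pow 2 (8002 : ℕ))) (Nat.pow 2 (15 : ℕ))) 0 = true := by
  decide +kernel
theorem ofix2 : fixAllB (nw o2) [8002, 8005, 1, 0] = true := by decide +kernel
theorem om2 : Nat.ble (35 : ℕ) (pc 15 (sat (nw o2) 4 (Nat.pow 2 (8001 : ℕ)))) = true := by decide +kernel
theorem olt2 : Nat.beq (Nat.shiftRight (sat (nw o2) 4 (Nat.pow 2 (8001 : ℕ))) (Nat.pow 2 (15 : ℕ))) 0 = true := by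
  decide +kernel
theorem ofix3 : fixAllB (nw o3) [8001, 8002, 8005, 1, 0] = true := by decide +kernel
theorem om3 : Nat.ble (12 : ℕ) (pc 15 (sat (nw o3) 3 (Nat.pow 2 (8000 : ℕ)))) = true := by decide +kernel
theorem olt3 : Nat.beq (Nat.shiftRight (sat (nw o3) 3 (Nat.pow 2 (8000 : ℕ))) (Nat.pow 2 (15 : ℕ))) 0 = true := by
  decide +kernel
theorem ofix4 : fixAllB (nw o4) [8000, 8001, 8002, 8005, 1, 0] = true := by decide +kernel
theorem om4 : Nat.ble (3 : ℕ) (pc 15 (sat (nw o4) 2 (Nat.pow 2 (8003 : ℕ)))) = true := by decide +kernel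
theorem olt4 : Nat.beq (Nat.shiftRight (sat (nw o4) 2 (Nat.pow 2 (8003 : ℕ))) (Nat.pow 2 (15 : ℕ))) 0 = true := by
  decide +kernel
theorem ofix5 : fixAllB (nw o5) [8003, 8000, 8001, 8002, 8005, 1, 0] = true := by decide +kernel
theorem om5 : Nat.ble (2 : ℕ) (pc 15 (sat (nw o5) 2 (Nat.pow 2 (8004 : ℕ)))) = true := by decide +kernel
theorem olt5 : Nat.beq (Nat.shiftRight (sat (nw o5) 2 (Nat.pow 2 (8004 : ℕ))) (Nat.pow 2 (15 : ℕ))) 0 = true := by
  decide +kernel
theorem ofix6 : fixAllB (nw o6) [8004, 8003, 8000, 8001, 8002, 8005, 1, 0] = true := by decide +kernel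
theorem om6 : Nat.ble (2 : ℕ) (pc 15 (sat (nw o6) 2 (Nat.pow 2 (7999 : ℕ)))) = true := by decide +kernel
theorem olt6 : Nat.beq (Nat.shiftRight (sat (nw o6) 2 (Nat.pow 2 (7999 : ℕ))) (Nat.pow 2 (15 : ℕ))) 0 = true := by
  decide +kernel

/-- The action of `O`. -/
noncomputable def rhoO : gp mO →* Equiv.Perm ℕ := rho.comp (gp mO).subtype

theorem img_o {ws : List (List Gen)} (h : ∀ l ∈ ws, ∃ d, mO.testBit d = true ∧ l = [lt 0 d]) :
    ∀ w ∈ nw ws, ∃ g, rhoO g = wperm w := by
  intro w hw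
  obtain ⟨l, hl, rfl⟩ := List.mem_map.1 hw
  obtain ⟨d, hd, rfl⟩ := h l hl
  refine ⟨⟨gen (lt 0 d), mem_gp hd⟩, ?_⟩
  show rho (gen (lt 0 d)) = _
  rw [← rho_word]
  simp [word]

theorem ex3 : ∃ d, mO.testBit d = true ∧ ([Gen.f] : List Gen) = [lt 0 d] := ⟨3, by decide +kernel, by rw [lt_3]⟩
theorem ex4 : ∃ d, mO.testBit d = true ∧ ([Gen.e] : List Gen) = [lt 0 d] := ⟨4, by decide +kernel, by rw [lt_4]⟩
theorem ex5 : ∃ d, mO.testBit d = true ∧ ([Gen.d] : List Gen) = [lt 0 d] := ⟨5, by decide +kernel, by rw [lt_5]⟩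
theorem ex6 : ∃ d, mO.testBit d = true ∧ ([Gen.c] : List Gen) = [lt 0 d] := ⟨6, by decide +kernel, by rw [lt_6]⟩
theorem ex7 : ∃ d, mO.testBit d = true ∧ ([Gen.b] : List Gen) = [lt 0 d] := ⟨7, by decide +kernel, by rw [lt_7]⟩
theorem ex8 : ∃ d, mO.testBit d = true ∧ ([Gen.a] : List Gen) = [lt 0 d] := ⟨8, by decide +kernel, by rw [lt_8]⟩
theorem ex9 : ∃ d, mO.testBit d = true ∧ ([Gen.h] : List Gen) = [lt 0 d] := ⟨9, by decide +kernel, by rw [lt_9]⟩
theorem ex10 : ∃ d, mO.testBit d = true ∧ ([Gen.i] : List Gen) = [lt 0 d] := ⟨10, by decide +kernel, by rw [lt_10]⟩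

theorem ex_all (l : List Gen) (h : l ∈ o0) : ∃ d, mO.testBit d = true ∧ l = [lt 0 d] := by
  unfold o0 at h
  simp only [List.mem_cons, List.not_mem_nil, or_false] at h
  rcases h with rfl | rfl | rfl | rfl | rfl | rfl | rfl | rfl
  · exact ex3
  · exact ex4
  · exact ex5
  · exact ex6
  · exact ex7
  · exact ex8
  · exact ex9
  · exact ex10

theorem mem_o (l : List Gen) : (l ∈ o1 → l ∈ o0) ∧ (l ∈ o2 → l ∈ o0) ∧ (l ∈ o3 → l ∈ o0) ∧ (l ∈ o4 → l ∈ o0) ∧
    (l ∈ o5 → l ∈ o0) ∧ (l ∈ o6 → l ∈ o0) := by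
  unfold o0 o1 o2 o3 o4 o5 o6
  simp only [List.mem_cons, List.not_mem_nil, or_false]
  tauto

theorem finite_Fi23 : Finite Fi23 := Psi.finite_Fi23

/-- Lower bound for the order of `O`. -/
theorem card_O_ge : 4585351680 ≤ Nat.card (gp mO) := by
  have := finite_Fi23
  have h0 := stabL_step_of_check (k := 15) rhoO [1, 0] 8005 3159 7 (nw_ok o0) (img_o ex_all) ofix0 om0 olt0
  have h1 := stabL_step_of_check (k := 15) rhoO [8005, 1, 0] 8002 288 6 (nw_ok o1)
    (img_o fun l hl => ex_all l ((mem_o l).1 hl)) ofix1 om1 olt1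
  have h2 := stabL_step_of_check (k := 15) rhoO [8002, 8005, 1, 0] 8001 35 4 (nw_ok o2)
    (img_o fun l hl => ex_all l ((mem_o l).2.1 hl)) ofix2 om2 olt2
  have h3 := stabL_step_of_check (k := 15) rhoO [8001, 8002, 8005, 1, 0] 8000 12 3 (nw_ok o3)
    (img_o fun l hl => ex_all l ((mem_o l).2.2.1 hl)) ofix3 om3 olt3
  have h4 := stabL_step_of_check (k := 15) rhoO [8000, 8001, 8002, 8005, 1, 0] 8003 3 2 (nw_ok o4)
    (img_o fun l hl => ex_all l ((mem_o l).2.2.2.1 hl)) ofix4 om4 olt4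
  have h5 := stabL_step_of_check (k := 15) rhoO [8003, 8000, 8001, 8002, 8005, 1, 0] 8004 2 2 (nw_ok o5)
    (img_o fun l hl => ex_all l ((mem_o l).2.2.2.2.1 hl)) ofix5 om5 olt5
  have h6 := stabL_step_of_check (k := 15) rhoO [8004, 8003, 8000, 8001, 8002, 8005, 1, 0] 7999 2 2 (nw_ok o6)
    (img_o fun l hl => ex_all l ((mem_o l).2.2.2.2.2 hl)) ofix6 om6 olt6
  have h7 : 1 ≤ Nat.card (stabL rhoO [7999, 8004, 8003, 8000, 8001, 8002, 8005, 1, 0]) := Nat.card_pos
  have h8 : Nat.card (stabL rhoO [1, 0]) ≤ Nat.card (gp mO) :=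
    Nat.card_le_card_of_injective _ Subtype.val_injective
  omega

/-- The action of `A`. -/
noncomputable def rhoA : gp mA →* Equiv.Perm ℕ := rho.comp (gp mA).subtype

theorem card_A_le : Nat.card (gp mA) ≤ 129123503308800 := by
  rw [← H_eq_gp]; exact Cfsg.Agent.Fischer.Fi23H.card_H_le

theorem orbA (p : ℕ) : (∃ x ∈ gp mA, rho x 1 = p) ↔ U1.testBit p = true := by
  have h := orb1
  rw [H_eq_gp] at h
  exact Set.ext_iff.1 h p

theorem U1_lt : U1 < 2 ^ 2 ^ 15 := by
  have h1 : U1 >>> 2 ^ 15 = 0 := Nat.eq_of_beq_eq_true lt1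
  rw [Nat.shiftRight_eq_div_pow, Nat.div_eq_zero_iff_lt (Nat.pow_pos (by norm_num))] at h1
  exact h1

theorem card_U1 : (bits (2 ^ 15) U1).card = 28160 := by
  rw [← pc_eq 15 U1 U1_lt]
  exact Nat.eq_of_beq_eq_true pc1

theorem card_stab_le : Nat.card (stabL rhoA [1]) ≤ 4585351680 := by
  have := finite_Fi23
  have h := stabL_step rhoA [] 1 (bits (2 ^ 15) U1) (by
    intro t ht
    obtain ⟨x, hx, hx1⟩ := (orbA t).2 (mem_bits.1 ht).2
    exact ⟨⟨x, hx⟩, fun q hq => absurd hq (by simp), hx1⟩)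
  rw [card_U1] at h
  have h2 : Nat.card (stabL rhoA []) ≤ Nat.card (gp mA) :=
    Nat.card_le_card_of_injective _ Subtype.val_injective
  have h3 := card_A_le
  omega

theorem O_fix {x : Fi23} (hx : x ∈ gp mO) : rho x 1 = 1 := by
  unfold gp at hx
  induction hx using Subgroup.closure_induction with
  | mem x hx =>
    obtain ⟨d, hd, rfl⟩ := hx
    have key : ∀ l : List Gen, l ∈ o0 → rho (word l) 1 = 1 := by
      intro l hl
      rw [rho_word]
      exact fixAllB_spec (nw_ok o0) ofix0 1 (by simp) _ (List.mem_map_of_mem hl)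
    obtain ⟨h3, h10⟩ := letters_mO hd
    have e1 : ∀ y : Gen, word [y] = gen y := fun y => by simp [word]
    show rho (gen (lt 0 d)) 1 = 1
    interval_cases d
    · rw [lt_3, ← e1]; exact key _ (by simp [o0])
    · rw [lt_4, ← e1]; exact key _ (by simp [o0])
    · rw [lt_5, ← e1]; exact key _ (by simp [o0])
    · rw [lt_6, ← e1]; exact key _ (by simp [o0])
    · rw [lt_7, ← e1]; exact key _ (by simp [o0])
    · rw [lt_8, ← e1]; exact key _ (by simp [o0])
    · rw [lt_9, ← e1]; exact key _ (by simp [o0])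
    · rw [lt_10, ← e1]; exact key _ (by simp [o0])
  | one => rw [MonoidHom.map_one rho]; rfl
  | mul x y _ _ hx hy => rw [MonoidHom.map_mul rho, Equiv.Perm.mul_apply, hy, hx]
  | inv x _ hx => rw [map_inv, Equiv.Perm.inv_eq_iff_eq, hx]

/-- The stabiliser of the point `1` in `A` is `O`. -/
theorem mem_O {x : Fi23} (hx : x ∈ gp mA) (h1 : rho x 1 = 1) : x ∈ gp mO := by
  have := finite_Fi23
  have hle : (gp mO).subgroupOf (gp mA) ≤ stabL rhoA [1] := by
    intro y hy q hq
    rw [List.mem_singleton] at hq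
    subst hq
    exact O_fix (Subgroup.mem_subgroupOf.1 hy)
  have hc : Nat.card ((gp mO).subgroupOf (gp mA)) = Nat.card (gp mO) :=
    Nat.card_congr (Subgroup.subgroupOfEquivOfLe gpO_le).toEquiv
  have heq : (gp mO).subgroupOf (gp mA) = stabL rhoA [1] :=
    Subgroup.eq_of_le_of_card_ge hle (by rw [hc]; exact card_stab_le.trans card_O_ge)
  have hm : (⟨x, hx⟩ : gp mA) ∈ stabL rhoA [1] := by
    intro q hq
    rw [List.mem_singleton] at hq
    subst hq
    exact h1
  rw [← heq] at hm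
  exact Subgroup.mem_subgroupOf.1 hm

/-- The covering criterion: `es` lists the words `a_e` with the images of the point `1`. -/
theorem cov_of_check (ws : List ℕ) (es : List (ℕ × ℕ)) (r : ℕ)
    (hws : masksB mA ws = true) (hes : masksB mA (es.map Prod.fst) = true) (hp : ptsB es = true)
    (hsat : Nat.beq (satW ws r (vset es)) U1 = true) :
    ∀ k ∈ gp mA, ∃ e ∈ es, ∃ s ∈ Subgroup.closure {x | ∃ w ∈ ws, E w = x}, ∃ x ∈ gp mO, k = s * E e.1 * x := by
  intro k hk
  have h1 : U1.testBit (rho k 1) = true := (orbA _).1 ⟨k, hk, rfl⟩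
  rw [← Nat.eq_of_beq_eq_true hsat] at h1
  obtain ⟨g, hg, h2⟩ := satW_spec (K := Subgroup.closure {x | ∃ w ∈ ws, E w = x})
    (fun w hw => Subgroup.subset_closure ⟨w, hw, rfl⟩) r h1
  obtain ⟨e, he, h3⟩ := testBit_vset h2
  have h4 := ptsB_spec hp e he
  have hgA : g ∈ gp mA := by
    refine (Subgroup.closure_le (gp mA)).2 ?_ hg
    rintro x ⟨w, hw, rfl⟩
    exact E_mem (masksB_spec hws w hw)
  have heA : E e.1 ∈ gp mA := E_mem (masksB_spec hes _ (List.mem_map_of_mem he))
  refine ⟨e, he, g⁻¹, Subgroup.inv_mem _ hg, (E e.1)⁻¹ * (g * k), mem_O ?_ ?_, by group⟩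
  · exact (gp mA).mul_mem ((gp mA).inv_mem heA) ((gp mA).mul_mem hgA hk)
  · rw [map_mul, map_mul, map_inv, Equiv.Perm.mul_apply, Equiv.Perm.inv_eq_iff_eq, Equiv.Perm.mul_apply, h4, h3]

end Cfsg.Agent.BM.CovA
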