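import Cfsg.Agent.BM.OracleFi23
import Cfsg.Agent.BM.OracleFi22

/-!
A word oracle for the group `Fi23 × Fi22`: sort 0 is `Fi23` with the letters `1, …, a` = `t1, …, t10`, sort 1 is `Fi22`
with the letters `3, …, b` = `t3, …, t11` (`i h d c b a e f g` = `t3 t4 t5 t6 t7 t8 t9 t10 t11`). The image of `(x, y)`
has the image of `x` in the low 80 bits and the image of `y` above.
-/

set_option autoImplicit false
set_option maxRecDepth 100000

namespace Cfsg.Agent.BM.PairOracle

open Cfsg.Agent.Lib.PermNet Cfsg.Agent.BM.Tab Cfsg.Agent.BM.PermOracle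
open Cfsg.Spor

theorem pk_lt (l : List ℕ) (h : ∀ a ∈ l, a < 2 ^ 16) : pk l < 2 ^ (16 * l.length) := by
  induction l with
  | nil => simp [pk_nil]
  | cons a l ih =>
    rw [pk_cons, List.length_cons]
    have h1 := h a List.mem_cons_self
    have h2 := ih (fun b hb => h b (List.mem_cons_of_mem _ hb))
    apply Nat.or_lt_two_pow
    · exact lt_of_lt_of_le h1 (Nat.pow_le_pow_right (by norm_num) (by omega))
    · rw [Nat.shiftLeft_eq, show 16 * (l.length + 1) = 16 * l.length + 16 by ring, pow_add]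
      exact Nat.mul_lt_mul_of_pos_right h2 (by positivity)

/-- Pack two numbers. -/
def pair (a b : ℕ) : ℕ := a ||| (b <<< 80)

theorem pair_land {a b : ℕ} (ha : a < 2 ^ 80) : pair a b &&& (2 ^ 80 - 1) = a := by
  unfold pair
  apply Nat.eq_of_testBit_eq
  intro i
  simp only [Nat.testBit_and, Nat.testBit_or, Nat.testBit_shiftLeft, Nat.testBit_two_pow_sub_one]
  by_cases hi : i < 80
  · have : ¬ (i ≥ 80) := by omega
    simp [hi, this]
  · have : a.testBit i = false :=
      Nat.testBit_lt_two_pow (lt_of_lt_of_le ha (Nat.pow_le_pow_right (by norm_num) (by omega)))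
    simp [hi, this]

theorem pair_shift {a b : ℕ} (ha : a < 2 ^ 80) : pair a b >>> 80 = b := by
  unfold pair
  apply Nat.eq_of_testBit_eq
  intro i
  simp only [Nat.testBit_shiftRight, Nat.testBit_or, Nat.testBit_shiftLeft]
  have h1 : a.testBit (80 + i) = false :=
    Nat.testBit_lt_two_pow (lt_of_lt_of_le ha (Nat.pow_le_pow_right (by norm_num) (by omega)))
  simp [h1]

/-- Letters of sort 1 (digits 3, …, b). -/
noncomputable def ltB (d : ℕ) : Fi22.Gen :=
  Bool.rec
    (Bool.rec (Bool.rec (Bool.rec .g .f (Nat.ble d 10)) .e (Nat.ble d 9)) .a (Nat.ble d 8))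
    (Bool.rec (Bool.rec (Bool.rec .b .c (Nat.ble d 6)) .d (Nat.ble d 5)) (Bool.rec .h .i (Nat.ble d 3)) (Nat.ble d 4))
    (Nat.ble d 7)

/-- The action of a letter of sort 1. -/
noncomputable def actB (d P : ℕ) : ℕ := lanes (Tr.get (TabChk22.tabG (ltB d)) 2048) 5 P

/-- The element of a letter of sort 1. -/
noncomputable def bgen (d : ℕ) : Fi22 := Cfsg.Agent.Fischer.Fi22PtsRep.gen (ltB d)

theorem actB_img (d : ℕ) (x : Fi22) : actB d (img Cfsg.Agent.Fischer.Fi22PtsRep.φ OracleFi22.base x) =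
    img Cfsg.Agent.Fischer.Fi22PtsRep.φ OracleFi22.base (x * bgen d) :=
  lanes_img Cfsg.Agent.Fischer.Fi22PtsRep.φ OracleFi22.base (N := 3510) (by norm_num)
    (fun x _ hp => Cfsg.Agent.Fischer.Fi22Order.φ_lt x hp) OracleFi22.base_lt _ (bgen d)
    (fun p hp => OracleFi22.tab_spec (ltB d) p hp) x

/-- The action on pairs. -/
noncomputable def act (s d P : ℕ) : ℕ :=
  Bool.rec
    (Nat.lor (Nat.land P (nat_lit 1208925819614629174706175))
      (Nat.shiftLeft (actB d (Nat.shiftRight P 80)) 80))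
    (Nat.lor (OracleFi23.act 0 d (Nat.land P (nat_lit 1208925819614629174706175)))
      (Nat.shiftLeft (Nat.shiftRight P 80) 80))
    (Nat.beq s 0)

/-- Generators. -/
noncomputable def pgen (s d : ℕ) : Fi23 × Fi22 := if s = 0 then (OracleFi23.fgen 0 d, 1) else (1, bgen d)

/-- Images. -/
noncomputable def pimg (x : Fi23 × Fi22) : ℕ :=
  pair (img Cfsg.Agent.Fischer.Fi23Hom.rho OracleFi23.base x.1)
    (img Cfsg.Agent.Fischer.Fi22PtsRep.φ OracleFi22.base x.2)

theorem img23_lt (x : Fi23) : img Cfsg.Agent.Fischer.Fi23Hom.rho OracleFi23.base x < 2 ^ 80 := by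
  refine lt_of_lt_of_eq (pk_lt _ ?_) ?_
  · intro a ha
    obtain ⟨b, hb', rfl⟩ := List.mem_map.1 ha
    have := OracleFi23.rho_lt x⁻¹ b (OracleFi23.base_lt b hb')
    show Cfsg.Agent.Fischer.Fi23Hom.rho x⁻¹ b < 2 ^ 16
    omega
  · rw [List.length_map]; rfl

theorem land_pimg (x : Fi23 × Fi22) : Nat.land (pimg x) (nat_lit 1208925819614629174706175) =
    img Cfsg.Agent.Fischer.Fi23Hom.rho OracleFi23.base x.1 := by
  have h := pair_land (b := img Cfsg.Agent.Fischer.Fi22PtsRep.φ OracleFi22.base x.2) (img23_lt x.1)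
  have hm : (2 ^ 80 - 1 : ℕ) = nat_lit 1208925819614629174706175 := by norm_num
  rw [hm] at h
  exact h

theorem shift_pimg (x : Fi23 × Fi22) : Nat.shiftRight (pimg x) 80 =
    img Cfsg.Agent.Fischer.Fi22PtsRep.φ OracleFi22.base x.2 :=
  pair_shift (b := img Cfsg.Agent.Fischer.Fi22PtsRep.φ OracleFi22.base x.2) (img23_lt x.1)

theorem act_img (s d : ℕ) (x : Fi23 × Fi22) : act s d (pimg x) = pimg (x * pgen s d) := by
  unfold pgen act
  rw [land_pimg, shift_pimg, OracleFi23.act_img, actB_img]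
  by_cases hs : s = 0
  · subst hs
    rw [if_pos rfl]
    show pair _ _ = _
    unfold pimg
    simp
  · rw [if_neg hs, show Nat.beq s 0 = false by
      rw [← Bool.not_eq_true]; exact fun h' => hs (Nat.eq_of_beq_eq_true h')]
    show pair _ _ = _
    unfold pimg
    simp

theorem pimg_injective [Finite Fi23] (hle : Nat.card Fi23 ≤ 4089470473293004800) :
    Function.Injective pimg := by
  intro x y h
  unfold pimg at h
  have h1 := pair_land (b := img Cfsg.Agent.Fischer.Fi22PtsRep.φ OracleFi22.base x.2) (img23_lt x.1)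
  have h2 := pair_land (b := img Cfsg.Agent.Fischer.Fi22PtsRep.φ OracleFi22.base y.2) (img23_lt y.1)
  have h3 := pair_shift (b := img Cfsg.Agent.Fischer.Fi22PtsRep.φ OracleFi22.base x.2) (img23_lt x.1)
  have h4 := pair_shift (b := img Cfsg.Agent.Fischer.Fi22PtsRep.φ OracleFi22.base y.2) (img23_lt y.1)
  rw [h, h2] at h1
  rw [h, h4] at h3
  exact Prod.ext (OracleFi23.img_injective hle h1.symm) (OracleFi22.img_injective h3.symm)

/-- The packed base. -/
noncomputable def pbase : ℕ := nat_lit 0x96b0b520ae800020000043e00e02d4500010000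

theorem pimg_one : pimg 1 = pbase := by
  unfold pimg
  rw [Prod.fst_one, Prod.snd_one, OracleFi23.img_base, OracleFi22.img_base]
  unfold pair
  decide +kernel

end Cfsg.Agent.BM.PairOracle
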