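import Cfsg.Agent.BM.StageAB
import Cfsg.Agent.BM.StageAData
import Cfsg.Agent.BM.PairOracle

/-!
Stage A of S1704, B-side (helper264): coverings and index bounds in terms of the shared data module
`Cfsg.Agent.BM.StageAData` (words are hexadecimal numbers, letters `3, …, b` = `t3, …, t11` evaluated in `Spor.Fi22`
by `PairOracle.bgen`).
-/

set_option autoImplicit false
set_option maxRecDepth 100000

namespace Cfsg.Agent.BM.CovB

open Cfsg.Spor Cfsg.Spor.Fi22 Cfsg.Agent.BM.NodeLib Cfsg.Agent.BM.Fi22O Cfsg.Agent.BM.StageAData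
open Cfsg.Agent.BM.PairOracle (bgen ltB)

/-- The value of a word. -/
noncomputable def EB (w : ℕ) : Spor.Fi22 := Script.ev bgen w

/-- The letters of a word. -/
noncomputable def lstF (n : ℕ) : ℕ → List Gen :=
  Nat.rec (motive := fun _ => ℕ → List Gen) (fun _ => [])
    (fun _ ih w => Bool.rec (ltB (Nat.land w 15) :: ih (Nat.shiftRight w 4)) [] (Nat.beq w 0)) n

theorem lstF_succ (n w : ℕ) : lstF (n + 1) w = if w = 0 then [] else ltB (w % 16) :: lstF n (w / 16) := by
  show (Bool.rec (ltB (Nat.land w 15) :: lstF n (Nat.shiftRight w 4)) [] (Nat.beq w 0) : List Gen) = _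
  by_cases h : w = 0
  · subst h; rw [if_pos rfl]; rfl
  · rw [if_neg h, show Nat.beq w 0 = false by
      rw [← Bool.not_eq_true]; exact fun h' => h (Nat.eq_of_beq_eq_true h')]
    show ltB (Nat.land w 15) :: lstF n (Nat.shiftRight w 4) = _
    have h1 : Nat.land w 15 = w % 16 := by
      show w &&& 15 = _
      exact Nat.and_two_pow_sub_one_eq_mod w 4
    have h2 : Nat.shiftRight w 4 = w / 16 := by
      show w >>> 4 = _
      rw [Nat.shiftRight_eq_div_pow]
    rw [h1, h2]

/-- The letters of a word. -/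
noncomputable def lst (w : ℕ) : List Gen := lstF (nat_lit 4096) w

theorem evF_eq (n w : ℕ) : Script.evF bgen n w = R.wd (lstF n w) := by
  induction n generalizing w with
  | zero => rw [Script.evF_zero]; rfl
  | succ n ih =>
    rw [Script.evF_succ, lstF_succ]
    split_ifs with h
    · rfl
    · rw [ih, Rep.wd_cons]; rfl

theorem EB_eq (w : ℕ) : EB w = R.wd (lst w) := evF_eq _ w

/-- The subgroup of `Fi22` generated by the letters of a mask. -/
def gpB (m : ℕ) : Subgroup Spor.Fi22 := Subgroup.closure {x | ∃ d, m.testBit d = true ∧ bgen d = x}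

/-- The mask of the letters `3, …, a`. -/
noncomputable def mO : ℕ := nat_lit 2040

theorem ltB_3 : ltB 3 = .i := by rfl
theorem ltB_4 : ltB 4 = .h := by rfl
theorem ltB_5 : ltB 5 = .d := by rfl
theorem ltB_6 : ltB 6 = .c := by rfl
theorem ltB_7 : ltB 7 = .b := by rfl
theorem ltB_8 : ltB 8 = .a := by rfl
theorem ltB_9 : ltB 9 = .e := by rfl
theorem ltB_10 : ltB 10 = .f := by rfl
theorem ltB_11 : ltB 11 = .g := by rfl

theorem letters_mO {d : ℕ} (h : mO.testBit d = true) : 3 ≤ d ∧ d ≤ 10 := by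
  have h1 : d < 11 := by
    by_contra hc
    have h2 : mO < 2 ^ 11 := by decide +kernel
    rw [Nat.testBit_lt_two_pow (lt_of_lt_of_le h2 (Nat.pow_le_pow_right (by norm_num) (by omega)))] at h
    exact absurd h (by simp)
  refine ⟨?_, by omega⟩
  by_contra hc
  interval_cases d
  · exact absurd h (by decide +kernel)
  · exact absurd h (by decide +kernel)
  · exact absurd h (by decide +kernel)

theorem bgen_mem_O {d : ℕ} (h : mO.testBit d = true) : bgen d ∈ O := by
  obtain ⟨h3, h10⟩ := letters_mO h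
  have key : ∀ y : Gen, [y] ∈ TO → Cfsg.Agent.Fischer.Fi22PtsRep.gen y ∈ O := fun y hy => by
    have := R.wd_mem_clo hy
    rwa [Rep.wd_cons, Rep.wd_nil, mul_one] at this
  show Cfsg.Agent.Fischer.Fi22PtsRep.gen (ltB d) ∈ O
  interval_cases d
  · rw [ltB_3]; exact key _ (by decide)
  · rw [ltB_4]; exact key _ (by decide)
  · rw [ltB_5]; exact key _ (by decide)
  · rw [ltB_6]; exact key _ (by decide)
  · rw [ltB_7]; exact key _ (by decide)
  · rw [ltB_8]; exact key _ (by decide)
  · rw [ltB_9]; exact key _ (by decide)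
  · rw [ltB_10]; exact key _ (by decide)

theorem mem_gpB {m d : ℕ} (h : m.testBit d = true) : bgen d ∈ gpB m := Subgroup.subset_closure ⟨d, h, rfl⟩

theorem gen_mem_gpB {d : ℕ} (y : Gen) (hy : ltB d = y) (h : mO.testBit d = true) :
    R.wd [y] ∈ gpB mO := by
  rw [Rep.wd_cons, Rep.wd_nil, mul_one]
  subst hy
  exact mem_gpB h

/-- `O = ⟨t3, …, t10⟩`. -/
theorem O_eq : O = gpB mO := by
  apply le_antisymm
  · refine R.clo_le ?_
    intro w hw
    unfold TO at hw
    simp only [List.mem_cons, List.not_mem_nil, or_false] at hw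
    rcases hw with rfl | rfl | rfl | rfl | rfl | rfl | rfl | rfl
    · exact gen_mem_gpB _ ltB_8 (by decide +kernel)
    · exact gen_mem_gpB _ ltB_4 (by decide +kernel)
    · exact gen_mem_gpB _ ltB_9 (by decide +kernel)
    · exact gen_mem_gpB _ ltB_6 (by decide +kernel)
    · exact gen_mem_gpB _ ltB_10 (by decide +kernel)
    · exact gen_mem_gpB _ ltB_7 (by decide +kernel)
    · exact gen_mem_gpB _ ltB_3 (by decide +kernel)
    · exact gen_mem_gpB _ ltB_5 (by decide +kernel)
  · unfold gpB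
    rw [Subgroup.closure_le]
    rintro x ⟨d, hd, rfl⟩
    exact bgen_mem_O hd

/-- The stabiliser of the node `j`. -/
def SB (j : Fin 6) : Subgroup Spor.Fi22 := Subgroup.closure {x | ∃ w ∈ wsB j, EB w = x}

theorem SB_eq {j : Fin 6} {T : List (List Gen)} (h : (wsB j).map lst = T) : SB j = R.clo T := by
  subst h
  unfold SB Rep.clo
  congr 1
  ext x
  constructor
  · rintro ⟨w, hw, rfl⟩
    exact ⟨lst w, List.mem_map_of_mem hw, EB_eq w⟩
  · rintro ⟨v, hv, rfl⟩
    obtain ⟨w, hw, rfl⟩ := List.mem_map.1 hv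
    exact ⟨w, hw, EB_eq w⟩

/-- The statement of the covering of the node `j`. -/
def Cov (j : Fin 6) : Prop :=
  ∀ k : Spor.Fi22, ∃ e : Fin 32, tgtE e = j ∧ ∃ s ∈ SB j, ∃ x ∈ O, k = s * EB (bE e) * x

theorem cov_of {j : Fin 6} {T M : List (List Gen)} (hT : (wsB j).map lst = T)
    (hM : ∀ m ∈ M, ∃ e : Fin 32, tgtE e = j ∧ lst (bE e) = m)
    (h : ∀ k : Spor.Fi22, ∃ m ∈ M, ∃ s ∈ R.clo T, ∃ x ∈ O, k = s * R.wd m * x) : Cov j := by
  intro k
  obtain ⟨m, hm, s, hs, x, hx, rfl⟩ := h k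
  obtain ⟨e, he, rfl⟩ := hM m hm
  exact ⟨e, he, s, by rwa [SB_eq hT], x, hx, by rw [EB_eq]⟩

theorem T0_eq : (wsB 0).map lst = StageAB.T0 := by decide +kernel
theorem T1_eq : (wsB 1).map lst = StageAB.T1 := by decide +kernel
theorem T2_eq : (wsB 2).map lst = StageAB.T2 := by decide +kernel
theorem T3_eq : (wsB 3).map lst = StageAB.T3 := by decide +kernel
theorem T4_eq : (wsB 4).map lst = StageAB.T4 := by decide +kernel
theorem T5_eq : (wsB 5).map lst = StageAB.T5 := by decide +kernel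

theorem M0_mem : ∀ m ∈ StageAB.M0, ∃ e : Fin 32, tgtE e = 0 ∧ lst (bE e) = m := by decide +kernel
theorem M1_mem : ∀ m ∈ StageAB.M1, ∃ e : Fin 32, tgtE e = 1 ∧ lst (bE e) = m := by decide +kernel
theorem M2_mem : ∀ m ∈ StageAB.M2, ∃ e : Fin 32, tgtE e = 2 ∧ lst (bE e) = m := by decide +kernel
theorem M3_mem : ∀ m ∈ StageAB.M3, ∃ e : Fin 32, tgtE e = 3 ∧ lst (bE e) = m := by decide +kernel
theorem M4_mem : ∀ m ∈ StageAB.M4, ∃ e : Fin 32, tgtE e = 4 ∧ lst (bE e) = m := by decide +kernel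
theorem M5_mem : ∀ m ∈ StageAB.M5, ∃ e : Fin 32, tgtE e = 5 ∧ lst (bE e) = m := by decide +kernel

/-- **The coverings of the `B`-nodes.** -/
theorem covB (j : Fin 6) (k : Spor.Fi22) : ∃ e : Fin 32, tgtE e = j ∧
    ∃ s ∈ Subgroup.closure {x | ∃ w ∈ wsB j, EB w = x}, ∃ x ∈ gpB mO, k = s * EB (bE e) * x := by
  rw [← O_eq]
  have key : Cov j := by
    fin_cases j
    · exact cov_of T0_eq M0_mem StageAB.cov0
    · exact cov_of T1_eq M1_mem StageAB.cov1
    · exact cov_of T2_eq M2_mem StageAB.cov2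
    · exact cov_of T3_eq M3_mem StageAB.cov3
    · exact cov_of T4_eq M4_mem StageAB.cov4
    · exact cov_of T5_eq M5_mem StageAB.cov5
  exact key k

/-- The indices of the stabilisers of the `B`-nodes. -/
def idxB : Fin 6 → ℕ := ![14080, 17791488, 15206400, 400308480, 72783360, 679311360]

theorem sum_idxB : ∑ j, idxB j = 1185415168 := by decide

/-- **The index bounds of the `B`-nodes.** -/
theorem indexB (j : Fin 6) : (Subgroup.closure {x | ∃ w ∈ wsB j, EB w = x}).index ≠ 0 ∧
    (Subgroup.closure {x | ∃ w ∈ wsB j, EB w = x}).index ≤ idxB j := by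
  have key : ∀ {i : Fin 6} {T : List (List Gen)} {n : ℕ}, (wsB i).map lst = T →
      ((R.clo T).index ≠ 0 ∧ (R.clo T).index ≤ n) → idxB i = n →
      (SB i).index ≠ 0 ∧ (SB i).index ≤ idxB i := by
    intro i T n hT h hn
    rw [SB_eq hT, hn]; exact h
  change (SB j).index ≠ 0 ∧ (SB j).index ≤ idxB j
  fin_cases j
  · exact key T0_eq StageAB.index0 rfl
  · exact key T1_eq StageAB.index1 rfl
  · exact key T2_eq StageAB.index2 rfl
  · exact key T3_eq StageAB.index3 rfl
  · exact key T4_eq StageAB.index4 rfl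
  · exact key T5_eq StageAB.index5 rfl

end Cfsg.Agent.BM.CovB
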