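import Cfsg.Agent.BM.CovB0
import Cfsg.Agent.BM.CovB1
import Cfsg.Agent.BM.CovB2
import Cfsg.Agent.BM.CovB3
import Cfsg.Agent.BM.CovB4
import Cfsg.Agent.BM.CovB5
import Cfsg.Agent.BM.CovB6
import Cfsg.Agent.BM.CovB7

/-!
# Coverings of stage B of S1704

`Fi23 = ⋃ S_i κ_e J` for the eight nodes of the certificate `certB_v0.txt` (helper976), in the shape of
`AssembleB.index_le_of_facts`.
-/

set_option autoImplicit false
set_option maxRecDepth 100000

namespace Cfsg.Agent.BM.CovBAll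

open Cfsg.Agent.BM.CoverChk Cfsg.Agent.BM.JBase
open Cfsg.Spor

/-- stabiliser words -/
noncomputable def sg : ℕ → List ℕ
  | 0 => CovB0.gens
  | 1 => CovB1.gens
  | 2 => CovB2.gens
  | 3 => CovB3.gens
  | 4 => CovB4.gens
  | 5 => CovB5.gens
  | 6 => CovB6.gens
  | 7 => CovB7.gens
  | _ => []

/-- representatives -/
noncomputable def ks : ℕ → List ℕ
  | 0 => CovB0.ks
  | 1 => CovB1.ks
  | 2 => CovB2.ks
  | 3 => CovB3.ks
  | 4 => CovB4.ks
  | 5 => CovB5.ks
  | 6 => CovB6.ks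
  | 7 => CovB7.ks
  | _ => []

theorem cov : ∀ i < 8, ∀ S : Subgroup Fi23, (∀ u ∈ sg i, wd u ∈ S) →
    ∀ k : Fi23, ∃ e < (ks i).length, ∃ s ∈ S, ∃ y ∈ J, k = s * wd (nth (ks i) e) * y := by
  intro i hi S hS k
  interval_cases i
  · exact CovB0.cov S hS k
  · exact CovB1.cov S hS k
  · exact CovB2.cov S hS k
  · exact CovB3.cov S hS k
  · exact CovB4.cov S hS k
  · exact CovB5.cov S hS k
  · exact CovB6.cov S hS k
  · exact CovB7.cov S hS k

end Cfsg.Agent.BM.CovBAll
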