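import Cfsg.Agent.BM.CovBAll
import Cfsg.Agent.BM.CertBInst

/-!
# Coverings of stage B of S1704, in terms of the certificate

`CovBAll.cov` for the lists `CertB.sg`, `CertB.ks` of `CertBInst`.
-/

set_option autoImplicit false
set_option maxRecDepth 100000

namespace Cfsg.Agent.BM.CovBCert

open Cfsg.Agent.BM.CoverChk Cfsg.Agent.BM.JBase
open Cfsg.Spor

theorem sg_eq : ∀ i < 8, CertB.sg i = CovBAll.sg i := by
  intro i hi
  interval_cases i <;> rfl

theorem ks_eq : ∀ i < 8, CertB.ks i = CovBAll.ks i := by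
  intro i hi
  interval_cases i <;> rfl

/-- **Coverings** `Fi23 = ⋃ S_i κ J`, in the shape of `AssembleB.index_le_of_facts`. -/
theorem cov : ∀ i < 8, ∀ S : Subgroup Fi23, (∀ u ∈ CertB.sg i, wd u ∈ S) →
    ∀ k : Fi23, ∃ e < (CertB.ks i).length, ∃ s ∈ S, ∃ y ∈ J, k = s * wd (nth (CertB.ks i) e) * y := by
  intro i hi S
  rw [sg_eq i hi, ks_eq i hi]
  exact CovBAll.cov i hi S

end Cfsg.Agent.BM.CovBCert
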