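import Cfsg.Agent.BM.DCE

/-!
Covering lemma: `F = ⋃ S κ_e J`, checked by a transposition `d` which commutes with its point stabiliser in `J`
(or only maps it into `J`), for a permutation representation `rho` of `F`.
-/

set_option autoImplicit false

namespace Cfsg.Agent.BM.CoverPts

open Cfsg.Agent.BM.DCE

variable {F : Type*} [Group F]

/-- The stabiliser of a point in a subgroup. -/
def stab (rho : F →* Equiv.Perm ℕ) (J : Subgroup F) (p : ℕ) : Subgroup F where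
  carrier := {x | x ∈ J ∧ rho x p = p}
  mul_mem' := by
    rintro a b ⟨ha, ha'⟩ ⟨hb, hb'⟩
    exact ⟨J.mul_mem ha hb, by rw [map_mul, Equiv.Perm.mul_apply, hb', ha']⟩
  one_mem' := ⟨J.one_mem, by simp⟩
  inv_mem' := by
    rintro a ⟨ha, ha'⟩
    exact ⟨J.inv_mem ha, by rw [map_inv, Equiv.Perm.inv_eq_iff_eq, ha']⟩

theorem mem_stab {rho : F →* Equiv.Perm ℕ} {J : Subgroup F} {p : ℕ} {x : F} :
    x ∈ stab rho J p ↔ x ∈ J ∧ rho x p = p := Iff.rfl

/-- **Covering lemma.** -/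
theorem cover_points (rho : F →* Equiv.Perm ℕ) (J : Subgroup F) (p : ℕ) (d : F)
    (hd2 : d * d = 1) (hd : ∀ x ∈ J, rho x p = p → x * d = d * x)
    (hgen : Subgroup.closure ((J : Set F) ∪ {d}) = ⊤)
    (S : Subgroup F) {E : Type*} (κ : E → F) (Q : E → Subgroup F) (hQJ : ∀ e, Q e ≤ J)
    (hQ : ∀ e, ∀ q ∈ Q e, κ e * q * (κ e)⁻¹ ∈ S)
    {M : E → Type*} (ℓ : ∀ e, M e → F) (hℓ : ∀ e m, ℓ e m ∈ J)
    (hsat : ∀ e, ∀ x ∈ J, ∃ m, ∃ q ∈ Q e, rho (q * ℓ e m) p = rho x p)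
    (fact : ∀ e m, ∃ e', ∃ s ∈ S, ∃ x ∈ J, κ e * ℓ e m * d = s * κ e' * x)
    (one : ∃ e, ∃ s ∈ S, ∃ x ∈ J, (1 : F) = s * κ e * x) :
    ∀ k : F, ∃ e, ∃ s ∈ S, ∃ x ∈ J, k = s * κ e * x := by
  have key := cover S J (stab rho J p) d hd2 (by
      rintro l ⟨hl, hl'⟩
      have := hd l hl hl'
      have e : d⁻¹ * l * d = l := by rw [mul_assoc, this, ← mul_assoc, inv_mul_cancel, one_mul]
      rw [e]; exact hl) κ Q hQ ℓ (by
      intro e k hk
      obtain ⟨m, q, hq, h⟩ := hsat e k hk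
      refine ⟨m, q, hq, (q * ℓ e m)⁻¹ * k, ⟨?_, ?_⟩, by group⟩
      · exact J.mul_mem (J.inv_mem (J.mul_mem (hQJ e hq) (hℓ e m))) hk
      · rw [map_mul, Equiv.Perm.mul_apply, ← h, map_inv]; simp) (by
      intro e m
      obtain ⟨e', s, hs, x, hx, h⟩ := fact e m
      exact ⟨e', InDC.of_eq hs hx h⟩) (by
      obtain ⟨e, s, hs, x, hx, h⟩ := one
      exact ⟨e, InDC.of_eq hs hx h⟩)
  intro k
  obtain ⟨e, he⟩ := key k (by rw [hgen]; trivial)
  obtain ⟨s, hs, x, hx, h⟩ := he.exists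
  exact ⟨e, s, hs, x, hx, h⟩

/-- The saturation condition from bit sets: `U` is the set of all points reached, closed under `J`. -/
theorem sat_of (rho : F →* Equiv.Perm ℕ) (J : Subgroup F) (p : ℕ) (U : Set ℕ) (hp : p ∈ U)
    (gens : Set F) (hgens : J = Subgroup.closure gens) (hU : ∀ g ∈ gens, ∀ q, q ∈ U ↔ rho g q ∈ U)
    (Q : Subgroup F) {M : Type*} (ℓ : M → F)
    (hcov : ∀ q ∈ U, ∃ m, ∃ x ∈ Q, rho x (rho (ℓ m) p) = q) :
    ∀ x ∈ J, ∃ m, ∃ q ∈ Q, rho (q * ℓ m) p = rho x p := by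
  have hJ : ∀ x ∈ J, ∀ q, q ∈ U ↔ rho x q ∈ U := by
    intro x hx
    rw [hgens] at hx
    induction hx using Subgroup.closure_induction with
    | mem x hx => exact hU x hx
    | one => intro q; simp
    | mul x y _ _ hx hy => intro q; rw [map_mul, Equiv.Perm.mul_apply, hy q, hx]
    | inv x _ hx => intro q; rw [hx (rho x⁻¹ q), map_inv]; simp
  intro x hx
  obtain ⟨m, q, hq, h⟩ := hcov _ ((hJ x hx p).1 hp)
  exact ⟨m, q, hq, by rw [map_mul, Equiv.Perm.mul_apply, h]⟩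

end Cfsg.Agent.BM.CoverPts
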