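import Cfsg.Agent.BM.DCE

/-!
One-sided form of the bipartite double coset enumeration: an automorphism `φ` of order two of `G` preserves `H` and
`J₀ ≤ K ⊓ φ(K)`; the edges are paired by an involution `pr`.
-/

set_option autoImplicit false

namespace Cfsg.Agent.BM.OneSided

open Cfsg.Agent.BM.DCE

variable {G : Type*} [Group G]

theorem sameC_map {H : Subgroup G} {x y : G} (h : SameC H x y) (φ : G →* G) (hφ : ∀ a ∈ H, φ a ∈ H) :
    SameC H (φ x) (φ y) := by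
  have := hφ _ h
  rwa [map_mul, map_inv] at this

theorem oneSided {ι E : Type*} (H K J₀ : Subgroup G) (φ : G →* G) (hφφ : ∀ g, φ (φ g) = g)
    (hφH : ∀ a ∈ H, φ a ∈ H) (hφJ : ∀ a ∈ J₀, φ a ∈ J₀) (hJ : J₀ ≤ K)
    (w : ι → G) (S : ι → Subgroup G) (hS : ∀ i, ∀ s ∈ S i, w i * s * (w i)⁻¹ ∈ H)
    (src : E → ι) (pr : E → E) (hpr : ∀ e, pr (pr e) = e)
    (κ u : E → G) (hκ : ∀ e, κ e ∈ K) (hu : ∀ e, u e ∈ J₀)
    (same : ∀ e, SameC H (w (src e) * κ e) (φ (w (src (pr e)) * κ (pr e)) * u e))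
    (covK : ∀ i, ∀ k ∈ K, ∃ e, src e = i ∧ ∃ s ∈ S i, ∃ x ∈ J₀, k = s * κ e * x)
    (one : ∃ i, InDC H K (w i) 1) :
    ∀ g ∈ Subgroup.closure ((K : Set G) ∪ (K.map φ : Subgroup G)), ∃ i, InDC H K (w i) g := by
  refine bip H K (K.map φ) J₀ hJ ?_ w S hS (fun j => φ (w j)) (fun j => (S j).map φ) ?_ src
    (fun e => src (pr e)) κ (fun e => φ (κ (pr e)) * u e) hκ ?_ ?_ covK ?_ one
  · intro a ha
    exact ⟨φ a, hJ (hφJ a ha), hφφ a⟩
  · rintro j _ ⟨s, hs, rfl⟩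
    have := hφH _ (hS j s hs)
    rwa [map_mul, map_mul, map_inv] at this
  · intro e
    refine (K.map φ).mul_mem ⟨κ (pr e), hκ _, rfl⟩ ⟨φ (u e), hJ (hφJ _ (hu e)), hφφ _⟩
  · intro e
    have := same e
    rwa [map_mul, mul_assoc] at this
  · rintro j _ ⟨k, hk, rfl⟩
    obtain ⟨e, rfl, s, hs, x, hx, rfl⟩ := covK j k hk
    refine ⟨pr e, by rw [hpr], φ s, ⟨s, hs, rfl⟩, (u (pr e))⁻¹ * φ x,
      J₀.mul_mem (J₀.inv_mem (hu _)) (hφJ _ hx), ?_⟩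
    rw [hpr, map_mul, map_mul]
    group

end Cfsg.Agent.BM.OneSided
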