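import Cfsg.Agent.BM.TabData
import Cfsg.Agent.BM.TabFast
import Cfsg.Agent.Fischer.Fi23Rel

/-! The packed tables are the tables of the networks. -/

set_option autoImplicit false
set_option maxRecDepth 100000

namespace Cfsg.Agent.BM.TabChk

open Cfsg.Agent.BM.Tab Cfsg.Agent.BM.TabFast Cfsg.Agent.BM.TabData Cfsg.Agent.Fischer.Fi23Nets
  Cfsg.Agent.Fischer.Fi23Rel
open Cfsg.Spor.Fi23 (Gen)

theorem chk_a : chkFT 10 ta 15 (planes na 15) = true := by decide +kernel
theorem chk_b : chkFT 10 tb 15 (planes nb 15) = true := by decide +kernel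
theorem chk_c : chkFT 10 tc 15 (planes nc 15) = true := by decide +kernel
theorem chk_d : chkFT 10 td 15 (planes nd 15) = true := by decide +kernel
theorem chk_e : chkFT 10 te 15 (planes ne 15) = true := by decide +kernel
theorem chk_f : chkFT 10 tf 15 (planes nf 15) = true := by decide +kernel
theorem chk_g : chkFT 10 tg 15 (planes ng 15) = true := by decide +kernel
theorem chk_h : chkFT 10 th 15 (planes nh 15) = true := by decide +kernel
theorem chk_i : chkFT 10 ti 15 (planes ni 15) = true := by decide +kernel
theorem chk_j : chkFT 10 tj 15 (planes nj 15) = true := by decide +kernel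

/-- The table of a generator. -/
noncomputable def tabG : Gen → Tr
  | .a => ta
  | .b => tb
  | .c => tc
  | .d => td
  | .e => te
  | .f => tf
  | .g => tg
  | .j => tj
  | .h => th
  | .i => ti

theorem tabG_get (x : Gen) (p : ℕ) (hp : p < 2 ^ 15) : (tabG x).get 16384 p = (net x).perm p := by
  cases x
  · exact get_eq_perm ok_a (by norm_num) chk_a p hp
  · exact get_eq_perm ok_b (by norm_num) chk_b p hp
  · exact get_eq_perm ok_c (by norm_num) chk_c p hp
  · exact get_eq_perm ok_d (by norm_num) chk_d p hp
  · exact get_eq_perm ok_e (by norm_num) chk_e p hp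
  · exact get_eq_perm ok_f (by norm_num) chk_f p hp
  · exact get_eq_perm ok_g (by norm_num) chk_g p hp
  · exact get_eq_perm ok_j (by norm_num) chk_j p hp
  · exact get_eq_perm ok_h (by norm_num) chk_h p hp
  · exact get_eq_perm ok_i (by norm_num) chk_i p hp

end Cfsg.Agent.BM.TabChk
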