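import Cfsg.Agent.BM.PermOracle
import Cfsg.Agent.BM.TabChk
import Cfsg.Agent.Fischer.Fi23Final

/-!
The word oracle of the presented group `Fi23` (degree 31671, base 0, 1, 11589, 224, 1086).

Letters are those of the Baby Monster generators `t1, …, t11` (hexadecimal digits 1, …, b); sort 0 is
`⟨t1, …, t10⟩` (`j g f e | d | c b a | h i` = `t1 t2 t3 t4 | t5 | t6 t7 t8 | t9 t10`), sort 1 is
`⟨t1, …, t7, t9, t10, t11⟩` (`j g f e | d | h i | c b a` = `t1 t2 t3 t4 | t5 | t6 t7 | t9 t10 t11`).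
-/

set_option autoImplicit false
set_option maxRecDepth 100000

namespace Cfsg.Agent.BM.OracleFi23

open Cfsg.Agent.Lib.PermNet Cfsg.Agent.Lib.PermNetOrbit Cfsg.Agent.BM.Tab Cfsg.Agent.BM.TabChk
  Cfsg.Agent.BM.PermOracle Cfsg.Agent.Fischer.Fi23Rel Cfsg.Agent.Fischer.Fi23Hom
  Cfsg.Agent.Fischer.Fi23Final
open Cfsg.Spor Cfsg.Spor.Fi23

/-- Letters of sort 0. -/
noncomputable def lt0 (d : ℕ) : Gen :=
  Bool.rec
    (Bool.rec (Bool.rec (Bool.rec .i .h (Nat.ble d 9)) .a (Nat.ble d 8)) (Bool.rec .b .c (Nat.ble d 6)) (Nat.ble d 7))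
    (Bool.rec (Bool.rec (Bool.rec .d .e (Nat.ble d 4)) .f (Nat.ble d 3)) (Bool.rec .g .j (Nat.ble d 1)) (Nat.ble d 2))
    (Nat.ble d 5)

/-- Letters of sort 1. -/
noncomputable def lt1 (d : ℕ) : Gen :=
  Bool.rec
    (Bool.rec (Bool.rec (Bool.rec .a .b (Nat.ble d 10)) .c (Nat.ble d 9)) (Bool.rec .i .h (Nat.ble d 6)) (Nat.ble d 7))
    (Bool.rec (Bool.rec (Bool.rec .d .e (Nat.ble d 4)) .f (Nat.ble d 3)) (Bool.rec .g .j (Nat.ble d 1)) (Nat.ble d 2))
    (Nat.ble d 5)

/-- Letters of a sort. -/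
noncomputable def lt (s d : ℕ) : Gen := Bool.rec (lt1 d) (lt0 d) (Nat.beq s 0)

/-- The action of a letter on packed images. -/
noncomputable def act (s d P : ℕ) : ℕ := lanes (Tr.get (tabG (lt s d)) 16384) 5 P

/-- The base. -/
def base : List ℕ := [0, 1, 11589, 224, 1086]

/-- The packed base. -/
noncomputable def pbase : ℕ := nat_lit 0x043e00e02d4500010000

theorem pbase_eq : pbase = pk base := by decide +kernel

theorem rho_lt_gen (x : Gen) (p : ℕ) (hp : p < 2 ^ 15) : rho (gen x) p < 2 ^ 15 := by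
  rw [rho_gen]; exact perm_lt (ok_net x) hp

theorem rho_lt (x : Fi23) : ∀ p < 2 ^ 15, rho x p < 2 ^ 15 := by
  have hx : x ∈ Subgroup.closure (Set.range gen) := by rw [gens_top]; trivial
  induction hx using Subgroup.closure_induction_left with
  | one => intro p hp; rw [map_one]; exact hp
  | mul_left g hg y _ ih =>
    obtain ⟨y', rfl⟩ := hg
    intro p hp
    rw [map_mul, Equiv.Perm.mul_apply]
    exact rho_lt_gen y' _ (ih p hp)
  | inv_mul_cancel g hg y _ ih =>
    obtain ⟨y', rfl⟩ := hg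
    intro p hp
    rw [map_mul, Equiv.Perm.mul_apply, show (gen y')⁻¹ = gen y' from inv_eq_of_mul_eq_one_left (gen_sq y')]
    exact rho_lt_gen y' _ (ih p hp)

theorem base_lt : ∀ b ∈ base, b < 2 ^ 15 := by
  intro b hb
  simp only [base, List.mem_cons, List.not_mem_nil, or_false] at hb
  rcases hb with rfl | rfl | rfl | rfl | rfl <;> norm_num

theorem tab_spec (x : Gen) (p : ℕ) (hp : p < 2 ^ 15) : Tr.get (tabG x) 16384 p = rho (gen x)⁻¹ p := by
  rw [tabG_get x p hp, show (gen x)⁻¹ = gen x from inv_eq_of_mul_eq_one_left (gen_sq x), rho_gen]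

/-- The generator of `Fi23` belonging to a letter. -/
noncomputable def fgen (s d : ℕ) : Fi23 := gen (lt s d)

theorem act_img (s d : ℕ) (x : Fi23) : act s d (img rho base x) = img rho base (x * fgen s d) :=
  lanes_img rho base (N := 2 ^ 15) (by norm_num) (fun x => rho_lt x) base_lt _ (fgen s d) (fun p hp => tab_spec (lt s d) p hp) x

theorem base_trivial [Finite Fi23] (hle : Nat.card Fi23 ≤ 4089470473293004800) (x : Fi23)
    (h : ∀ b ∈ base, rho x b = b) : x = 1 := by
  have h3 : x ∈ stabL rho [1086, 224, 11589, 1, 0] := by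
    intro q hq
    apply h
    simp only [base, List.mem_cons, List.not_mem_nil, or_false] at hq ⊢
    tauto
  rw [stab_bot hle] at h3
  exact Subgroup.mem_bot.1 h3

theorem img_injective [Finite Fi23] (hle : Nat.card Fi23 ≤ 4089470473293004800) :
    Function.Injective (img rho base) :=
  img_inj rho base (N := 2 ^ 15) (by norm_num) (fun x => rho_lt x) base_lt (base_trivial hle)

theorem img_base : img rho base 1 = pbase := by rw [img_one, pbase_eq]

/-- Equality of products of words in `Fi23` (letters of the sort `s`) by a kernel check. -/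
theorem eq_of_eqB [Finite Fi23] (hle : Nat.card Fi23 ≤ 4089470473293004800) (s : ℕ) {us vs : List ℕ}
    (hc : Script.eqB (act s) pbase us vs = true) :
    (us.map (Script.ev (fgen s))).prod = (vs.map (Script.ev (fgen s))).prod :=
  Script.eq_of_eqB (act_img s) (img_injective hle) img_base hc

end Cfsg.Agent.BM.OracleFi23
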