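import Cfsg.Agent.BM.Script
import Cfsg.Agent.BM.OracleFi23
import Cfsg.Agent.BM.Psi
import Cfsg.Agent.BM.OneSided

/-!
# Stage B of S1704: facts about right cosets of `H = ⟨t2, …, t11⟩`

`G` is the presented Baby Monster (or any group with the same relations and with the automorphism `arm` exchanging the
arms of length three). Sort 0 is `psi` with the letters `1, …, a`, sort 1 is `psi2` with the letters `1, …, 7, 9, a, b`
(digits are the indices of the `t`s). Node `2 i` is `w_i` (sort 0), node `2 i + 1` is its mirror image `arm w_i`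
(sort 1). The types `0, 1, 2, 3` are silent and go from sort `0, 1, 0, 1` to sort `0, 1, 1, 0`; they transport all
letters of the sort, respectively the common letters `1, …, 7, 9, a`. Fact `2 n` is the `n`-th fact of the certificate,
fact `2 n + 1` is its mirror image. The rules `0, …, 3` are empty, the rules `4 + τ` and `8 + τ` are
`t8 t11 t8 t11 = 1` and `t11 t8 t11 t8 = 1` with type `τ`.
-/

set_option autoImplicit false
set_option maxRecDepth 100000
set_option linter.constructorNameAsVariable false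

namespace Cfsg.Agent.BM.FactsB

open Cfsg.Agent.Lib.PermNet Cfsg.Agent.BM.Script Cfsg.Agent.BM.Psi
open Cfsg.Spor

/-! ### Mirror images of words -/

/-- The swap of digits `(6 9)(7 a)(8 b)`. -/
noncomputable def swd (d : ℕ) : ℕ :=
  Bool.rec
    (Bool.rec
      (Bool.rec d (Nat.sub d 3) (Nat.ble d 11))
      (Nat.add d 3) (Nat.ble d 8))
    d (Nat.ble d 5)

theorem swd_eq (d : ℕ) : swd d = if d ≤ 5 then d else if d ≤ 8 then d + 3 else if d ≤ 11 then d - 3 else d := by
  unfold swd
  cases h5 : Nat.ble d 5 with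
  | true => rw [if_pos (Nat.le_of_ble_eq_true h5)]
  | false =>
    have h5' : ¬ d ≤ 5 := fun h => by rw [Nat.ble_eq_true_of_le h] at h5; exact absurd h5 (by simp)
    rw [if_neg h5']
    cases h8 : Nat.ble d 8 with
    | true => rw [if_pos (Nat.le_of_ble_eq_true h8)]
    | false =>
      have h8' : ¬ d ≤ 8 := fun h => by rw [Nat.ble_eq_true_of_le h] at h8; exact absurd h8 (by simp)
      rw [if_neg h8']
      cases h11 : Nat.ble d 11 with
      | true => rw [if_pos (Nat.le_of_ble_eq_true h11)]; rfl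
      | false =>
        have h11' : ¬ d ≤ 11 := fun h => by rw [Nat.ble_eq_true_of_le h] at h11; exact absurd h11 (by simp)
        rw [if_neg h11']

theorem swd_swd (d : ℕ) : swd (swd d) = d := by
  by_cases h : d < 12
  · interval_cases d <;> rfl
  · have h1 : swd d = d := by
      rw [swd_eq, if_neg (by omega), if_neg (by omega), if_neg (by omega)]
    rw [h1, h1]

theorem swd_lt {d : ℕ} (h : d < 16) : swd d < 16 := by
  rw [swd_eq]
  split_ifs <;> omega

theorem swd_eq_zero {d : ℕ} : swd d = 0 ↔ d = 0 := by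
  rw [swd_eq]
  constructor
  · intro h
    split_ifs at h <;> omega
  · rintro rfl
    rfl

/-- Mirror image of a word with at most `n` letters. -/
noncomputable def swwF (n : ℕ) : ℕ → ℕ :=
  Nat.rec (motive := fun _ => ℕ → ℕ) (fun w => w)
    (fun _ ih w => Bool.rec (seq (Nat.shiftRight w 4) fun w' => seq (ih w') fun v =>
      Nat.add (swd (Nat.land w 15)) (Nat.mul 16 v)) 0 (Nat.beq w 0)) n

/-- Mirror image of a word. -/
noncomputable def sww (w : ℕ) : ℕ := swwF (nat_lit 4096) w

theorem swwF_zero (w : ℕ) : swwF 0 w = w := rfl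

theorem swwF_succ (n w : ℕ) : swwF (n + 1) w = if w = 0 then 0 else swd (w % 16) + 16 * swwF n (w / 16) := by
  show (Bool.rec (seq (Nat.shiftRight w 4) fun w' => seq (swwF n w') fun v =>
      Nat.add (swd (Nat.land w 15)) (Nat.mul 16 v)) 0 (Nat.beq w 0) : ℕ) = _
  by_cases h : w = 0
  · subst h; rw [if_pos rfl]; rfl
  · rw [if_neg h, show Nat.beq w 0 = false by
      rw [← Bool.not_eq_true]; exact fun h' => h (Nat.eq_of_beq_eq_true h')]
    show (seq (Nat.shiftRight w 4) fun w' => seq (swwF n w') fun v =>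
      Nat.add (swd (Nat.land w 15)) (Nat.mul 16 v)) = _
    rw [seq_eq, seq_eq]
    have h1 : Nat.land w 15 = w % 16 := by
      show w &&& 15 = _
      exact Nat.and_two_pow_sub_one_eq_mod w 4
    have h2 : Nat.shiftRight w 4 = w / 16 := by
      show w >>> 4 = _
      rw [Nat.shiftRight_eq_div_pow]
    rw [h1, h2]
    rfl

theorem swwF_eq_zero {n w : ℕ} : swwF n w = 0 ↔ w = 0 := by
  induction n generalizing w with
  | zero => rw [swwF_zero]
  | succ n ih =>
    rw [swwF_succ]
    split_ifs with h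
    · simp [h]
    · constructor
      · intro h'
        exfalso
        have h1 : swd (w % 16) = 0 := by omega
        have h2 : swwF n (w / 16) = 0 := by omega
        rw [swd_eq_zero] at h1
        rw [ih] at h2
        omega
      · intro h'; exact absurd h' h

theorem evF_swwF {M : Type*} [Monoid M] (g : ℕ → M) (n w : ℕ) :
    evF (fun d => g (swd d)) n (swwF n w) = evF g n w := by
  induction n generalizing w with
  | zero => rw [evF_zero, evF_zero]
  | succ n ih =>
    rw [evF_succ, evF_succ]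
    by_cases h : w = 0
    · rw [if_pos h, if_pos (swwF_eq_zero.2 h)]
    · rw [if_neg h, if_neg (fun h' => h (swwF_eq_zero.1 h')), swwF_succ, if_neg h]
      have hlt : swd (w % 16) < 16 := swd_lt (Nat.mod_lt _ (by norm_num))
      have h1 : (swd (w % 16) + 16 * swwF n (w / 16)) % 16 = swd (w % 16) := by omega
      have h2 : (swd (w % 16) + 16 * swwF n (w / 16)) / 16 = swwF n (w / 16) := by omega
      rw [h1, h2, swd_swd, ih]

theorem ev_sww {M : Type*} [Monoid M] (g : ℕ → M) (w : ℕ) :
    Script.ev (fun d => g (swd d)) (sww w) = Script.ev g w := evF_swwF g _ w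

theorem ev_sww' {M : Type*} [Monoid M] (g : ℕ → M) (w : ℕ) :
    Script.ev g (sww w) = Script.ev (fun d => g (swd d)) w := by
  have := ev_sww (fun d => g (swd d)) w
  simp only [swd_swd] at this
  exact this

/-! ### The system -/

/-- The action of the letters. -/
noncomputable def act (s d P : ℕ) : ℕ :=
  Bool.rec (seq (swd d) fun e => OracleFi23.act 0 e P) (OracleFi23.act 0 d P) (Nat.beq s 0)

/-- The generators. -/
noncomputable def bgen (s d : ℕ) : Spor.Fi23 :=
  if s = 0 then OracleFi23.fgen 0 d else OracleFi23.fgen 0 (swd d)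

/-- Fact `x xor 1`. -/
noncomputable def flip (i : ℕ) : ℕ := Bool.rec (Nat.succ i) (Nat.pred i) (Nat.beq (Nat.mod i 2) 1)

theorem flip_eq (i : ℕ) : flip i = if i % 2 = 1 then i - 1 else i + 1 := by
  unfold flip
  cases h : Nat.beq (Nat.mod i 2) 1 with
  | true => rw [if_pos (show i % 2 = 1 from Nat.eq_of_beq_eq_true h)]; rfl
  | false =>
    have h' : ¬ i % 2 = 1 := fun h' => by
      have : Nat.beq (Nat.mod i 2) 1 = true := by
        show Nat.beq (i % 2) 1 = true
        rw [h']; rfl
      rw [this] at h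
      exact absurd h (by simp)
    rw [if_neg h']

theorem flip_mod (i : ℕ) : flip i % 2 = 1 - i % 2 := by
  rw [flip_eq]; split_ifs <;> omega

theorem flip_two_mul (i : ℕ) : flip (2 * i) = 2 * i + 1 := by
  rw [flip_eq, if_neg (by omega)]

theorem flip_two_mul_add_one (i : ℕ) : flip (2 * i + 1) = 2 * i := by
  rw [flip_eq, if_pos (by omega)]; omega

/-- Mirror image of a fact. -/
noncomputable def mir (f : Fact) : Fact := ⟨flip f.ty, flip f.i, sww f.a, flip f.j, sww f.b⟩

/-- All facts: the facts of the certificate at the even places, their mirror images at the odd places. -/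
noncomputable def both (F : ℕ → Fact) (n : ℕ) : Fact :=
  Bool.rec (F (Nat.div n 2)) (mir (F (Nat.div n 2))) (Nat.beq (Nat.mod n 2) 1)

theorem both_even (F : ℕ → Fact) (n : ℕ) : both F (2 * n) = F n := by
  unfold both
  have h : Nat.mod (2 * n) 2 = 0 := by show (2 * n) % 2 = 0; omega
  have h' : Nat.div (2 * n) 2 = n := by show (2 * n) / 2 = n; omega
  rw [h, h']
  rfl

theorem both_odd (F : ℕ → Fact) (n : ℕ) : both F (2 * n + 1) = mir (F n) := by
  unfold both
  have h : Nat.mod (2 * n + 1) 2 = 1 := by show (2 * n + 1) % 2 = 1; omega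
  have h' : Nat.div (2 * n + 1) 2 = n := by show (2 * n + 1) / 2 = n; omega
  rw [h, h']
  rfl

/-- Source sort of a type. -/
noncomputable def tsrc (τ : ℕ) : ℕ := Nat.mod τ 2

/-- Target sort of a type. -/
noncomputable def ttgt (τ : ℕ) : ℕ :=
  Bool.rec (Nat.mod τ 2) (Nat.sub 1 (Nat.mod τ 2)) (Nat.beq (Nat.div τ 2) 1)

/-- Mask of a type. -/
noncomputable def tmask (τ : ℕ) : ℕ :=
  Bool.rec (nat_lit 0x6fe) (Bool.rec (nat_lit 0xefe) (nat_lit 0x7fe) (Nat.beq (Nat.mod τ 2) 0)) (Nat.beq (Nat.div τ 2) 0)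

/-- Syllables of a rule. -/
noncomputable def rsyl (r : ℕ) : List Syl :=
  Bool.rec
    (Bool.rec [.K 1 0xb, .K 0 0x8, .K 1 0xb, .K 0 0x8] [.K 0 0x8, .K 1 0xb, .K 0 0x8, .K 1 0xb] (Nat.ble r 7))
    [] (Nat.ble r 3)

/-- The system of the facts `F`. -/
noncomputable def sys (F : ℕ → Fact) : Sys where
  act := act
  base := OracleFi23.pbase
  srt := fun i => Nat.mod i 2
  src := tsrc
  tgt := ttgt
  mask := tmask
  silent := fun _ => true
  rty := fun r => Nat.mod r 4
  rsyl := rsyl
  fact := both F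

/-! ### The model -/

theorem evF_zero_right' {M : Type*} [Monoid M] {g : ℕ → M} {n w : ℕ} (h : w = 0) : evF g n w = 1 := by
  rw [h]; exact evF_zero_right g n

theorem act_eq (s d P : ℕ) : act s d P = OracleFi23.act 0 (if s = 0 then d else swd d) P := by
  unfold act
  by_cases h : s = 0
  · subst h
    rw [if_pos rfl]
    rfl
  · rw [if_neg h, show Nat.beq s 0 = false by
      rw [← Bool.not_eq_true]; exact fun h' => h (Nat.eq_of_beq_eq_true h')]
    show (seq (swd d) fun e => OracleFi23.act 0 e P) = _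
    rw [seq_eq]

theorem bgen_eq (s d : ℕ) : bgen s d = OracleFi23.fgen 0 (if s = 0 then d else swd d) := by
  unfold bgen
  split_ifs <;> rfl

/-- Images of the base points. -/
noncomputable def img : Spor.Fi23 → ℕ := PermOracle.img Cfsg.Agent.Fischer.Fi23Hom.rho OracleFi23.base

theorem act_img (s d : ℕ) (x : Spor.Fi23) : act s d (img x) = img (x * bgen s d) := by
  rw [act_eq, bgen_eq]
  exact OracleFi23.act_img 0 _ x

theorem img_inj : Function.Injective img := OracleFi23.img_injective card_Fi23.le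

theorem img_one : img 1 = OracleFi23.pbase := OracleFi23.img_base

/-- The generators of the Baby Monster belonging to the digits. -/
def tl : ℕ → BabyMonster.Gen
  | 1 => .t1
  | 2 => .t2
  | 3 => .t3
  | 4 => .t4
  | 5 => .t5
  | 6 => .t6
  | 7 => .t7
  | 8 => .t8
  | 9 => .t9
  | 10 => .t10
  | _ => .t11

theorem m1_lt (d : ℕ) (h : (0x7fe : ℕ).testBit d = true) : m1 (OracleFi23.lt0 d) = tl d := by
  have hd : d < 11 := by
    by_contra hc
    rw [Nat.testBit_lt_two_pow (lt_of_lt_of_le (show 0x7fe < 2 ^ 11 by norm_num)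
      (Nat.pow_le_pow_right (by norm_num) (by omega)))] at h
    exact absurd h (by simp)
  interval_cases d
  · exact absurd h (by decide)
  all_goals rfl

theorem m2_lt (d : ℕ) (h : (0xefe : ℕ).testBit d = true) : m2 (OracleFi23.lt0 (swd d)) = tl d := by
  have hd : d < 12 := by
    by_contra hc
    rw [Nat.testBit_lt_two_pow (lt_of_lt_of_le (show 0xefe < 2 ^ 12 by norm_num)
      (Nat.pow_le_pow_right (by norm_num) (by omega)))] at h
    exact absurd h (by simp)
  interval_cases d
  · exact absurd h (by decide)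
  · rfl
  · rfl
  · rfl
  · rfl
  · rfl
  · rfl
  · rfl
  · exact absurd h (by decide)
  all_goals rfl

theorem swap_m1 (g : Fi23.Gen) : swap (m1 g) = m2 g := by cases g <;> rfl

section

variable {G : Type*} [Group G] {x : BabyMonster.Gen → G}

theorem psi_bgen (h : Rel x) (d : ℕ) (hd : (0x7fe : ℕ).testBit d = true) : psi h (bgen 0 d) = x (tl d) := by
  rw [bgen_eq, if_pos rfl, ← m1_lt d hd]
  exact psi_gen h _

theorem psi2_bgen (h : Rel x) (d : ℕ) (hd : (0xefe : ℕ).testBit d = true) : psi2 h (bgen 1 d) = x (tl d) := by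
  rw [bgen_eq, if_neg one_ne_zero, ← m2_lt d hd]
  exact psi2_gen h _

/-- The subgroup `⟨t2, …, t11⟩`. -/
def HB (x : BabyMonster.Gen → G) : Subgroup G := Subgroup.closure {g | ∃ t, t ≠ BabyMonster.Gen.t1 ∧ g = x t}

theorem mem_HB (x : BabyMonster.Gen → G) {t : BabyMonster.Gen} (ht : t ≠ .t1) : x t ∈ HB x :=
  Subgroup.subset_closure ⟨t, ht, rfl⟩

/-- The homomorphisms. -/
noncomputable def phi (h : Rel x) (s : ℕ) : Spor.Fi23 →* G := if s = 0 then psi h else psi2 h

theorem phi_zero (h : Rel x) : phi h 0 = psi h := if_pos rfl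
theorem phi_one (h : Rel x) : phi h 1 = psi2 h := if_neg one_ne_zero

/-- The elements of the nodes. -/
noncomputable def wB (arm : G →* G) (w : ℕ → G) (i : ℕ) : G := if i % 2 = 0 then w (i / 2) else arm (w (i / 2))

theorem wB_even (arm : G →* G) (w : ℕ → G) (i : ℕ) : wB arm w (2 * i) = w i := by
  unfold wB
  rw [if_pos (by omega)]
  congr 1
  omega

theorem wB_odd (arm : G →* G) (w : ℕ → G) (i : ℕ) : wB arm w (2 * i + 1) = arm (w i) := by
  unfold wB
  rw [if_neg (by omega)]
  congr 2
  omega

theorem tsrc_eq (τ : ℕ) : tsrc τ = τ % 2 := rfl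

theorem ttgt_eq (τ : ℕ) : ttgt τ = if τ / 2 = 1 then 1 - τ % 2 else τ % 2 := by
  unfold ttgt
  by_cases h : τ / 2 = 1
  · rw [if_pos h, show Nat.beq (Nat.div τ 2) 1 = true by
      show Nat.beq (τ / 2) 1 = true
      rw [h]; rfl]
    rfl
  · rw [if_neg h, show Nat.beq (Nat.div τ 2) 1 = false by
      rw [← Bool.not_eq_true]; exact fun h' => h (Nat.eq_of_beq_eq_true h')]
    rfl

theorem tmask_eq (τ : ℕ) : tmask τ = if τ / 2 = 0 then (if τ % 2 = 0 then 0x7fe else 0xefe) else 0x6fe := by
  unfold tmask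
  by_cases h : τ / 2 = 0
  · rw [if_pos h, show Nat.beq (Nat.div τ 2) 0 = true by
      show Nat.beq (τ / 2) 0 = true
      rw [h]; rfl]
    by_cases h2 : τ % 2 = 0
    · rw [if_pos h2, show Nat.beq (Nat.mod τ 2) 0 = true by
        show Nat.beq (τ % 2) 0 = true
        rw [h2]; rfl]
    · rw [if_neg h2, show Nat.beq (Nat.mod τ 2) 0 = false by
        rw [← Bool.not_eq_true]; exact fun h' => h2 (Nat.eq_of_beq_eq_true h')]
  · rw [if_neg h, show Nat.beq (Nat.div τ 2) 0 = false by
      rw [← Bool.not_eq_true]; exact fun h' => h (Nat.eq_of_beq_eq_true h')]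

theorem mask_J (d : ℕ) (hd : (0x6fe : ℕ).testBit d = true) :
    (0x7fe : ℕ).testBit d = true ∧ (0xefe : ℕ).testBit d = true := by
  have e1 : (0x6fe : ℕ) &&& 0x7fe = 0x6fe := by decide
  have e2 : (0x6fe : ℕ) &&& 0xefe = 0x6fe := by decide
  constructor
  · rw [← e1, Nat.testBit_and, Bool.and_eq_true] at hd
    exact hd.2
  · rw [← e2, Nat.testBit_and, Bool.and_eq_true] at hd
    exact hd.2

theorem transport (h : Rel x) (τ d : ℕ) (hd : (tmask τ).testBit d = true) :
    phi h (tsrc τ) (bgen (tsrc τ) d) * 1 = 1 * phi h (ttgt τ) (bgen (ttgt τ) d) := by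
  rw [mul_one, one_mul, tsrc_eq, ttgt_eq]
  rw [tmask_eq] at hd
  by_cases h1 : τ / 2 = 1
  · rw [if_neg (by omega)] at hd
    obtain ⟨ha, hb⟩ := mask_J d hd
    rw [if_pos h1]
    rcases Nat.mod_two_eq_zero_or_one τ with h2 | h2
    · rw [h2, phi_zero, Nat.sub_zero, phi_one, psi_bgen h d ha, psi2_bgen h d hb]
    · rw [h2, phi_one, Nat.sub_self, phi_zero, psi_bgen h d ha, psi2_bgen h d hb]
  · rw [if_neg h1]

/-- The model of the facts `F`. -/
noncomputable def model (h : Rel x) (arm : G →* G) (w : ℕ → G) (F : ℕ → Fact) : Model (sys F) Spor.Fi23 G where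
  gen := bgen
  img := img
  act_img := act_img
  img_inj := img_inj
  img_one := img_one
  φ := phi h
  H := HB x
  w := wB arm w
  g := fun _ => 1
  g_silent := fun _ _ => rfl
  transport := transport h

/-- The value of a word. -/
noncomputable def evB (s u : ℕ) : Spor.Fi23 := Script.ev (bgen s) u

/-- Meaning of a fact. -/
theorem holds_iff (h : Rel x) (arm : G →* G) (w : ℕ → G) (F : ℕ → Fact) (f : Fact) :
    (model h arm w F).Holds f ↔
      wB arm w f.i * phi h (tsrc f.ty) (evB (tsrc f.ty) f.a) *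
        (wB arm w f.j * phi h (ttgt f.ty) (evB (ttgt f.ty) f.b))⁻¹ ∈ HB x := by
  unfold Model.Holds Model.R
  show wB arm w f.i * phi h (tsrc f.ty) (evB (tsrc f.ty) f.a) * 1 *
    (wB arm w f.j * phi h (ttgt f.ty) (evB (ttgt f.ty) f.b))⁻¹ ∈ HB x ↔ _
  rw [mul_one]

/-! ### Mirror images of facts -/

theorem arm_wB {arm : G →* G} (harm2 : ∀ y, arm (arm y) = y) (w : ℕ → G) (i : ℕ) : arm (wB arm w i) = wB arm w (flip i) := by
  rcases Nat.even_or_odd' i with ⟨k, rfl | rfl⟩
  · rw [wB_even, flip_two_mul, wB_odd]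
  · rw [wB_odd, flip_two_mul_add_one, wB_even, harm2]

theorem tsrc_flip (τ : ℕ) : tsrc (flip τ) = 1 - tsrc τ := by
  rw [tsrc_eq, tsrc_eq, flip_mod]

theorem ttgt_flip (τ : ℕ) : ttgt (flip τ) = 1 - ttgt τ := by
  rw [ttgt_eq, ttgt_eq, flip_mod]
  have : flip τ / 2 = τ / 2 := by rw [flip_eq]; split_ifs <;> omega
  rw [this]
  split_ifs <;> omega

section arm

variable {arm : G →* G} (harm : ∀ t, arm (x t) = x (swap t))

include harm

theorem arm_psi (h : Rel x) (y : Spor.Fi23) : arm (psi h y) = psi2 h y := by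
  have : arm.comp (psi h) = psi2 h := by
    apply PresentedGroup.ext
    intro g
    show arm (psi h (Cfsg.Agent.Fischer.Fi23Hom.gen g)) = psi2 h (Cfsg.Agent.Fischer.Fi23Hom.gen g)
    rw [psi_gen, psi2_gen, harm, swap_m1]
  rw [← this]
  rfl

theorem arm_psi2 (h : Rel x) (y : Spor.Fi23) : arm (psi2 h y) = psi h y := by
  have : arm.comp (psi2 h) = psi h := by
    apply PresentedGroup.ext
    intro g
    show arm (psi2 h (Cfsg.Agent.Fischer.Fi23Hom.gen g)) = psi h (Cfsg.Agent.Fischer.Fi23Hom.gen g)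
    rw [psi_gen, psi2_gen, harm, swap_m2]
  rw [← this]
  rfl

theorem arm_phi (h : Rel x) {s : ℕ} (hs : s = 0 ∨ s = 1) (u : ℕ) :
    arm (phi h s (evB s u)) = phi h (1 - s) (evB (1 - s) (sww u)) := by
  rcases hs with rfl | rfl
  · rw [phi_zero, arm_psi harm, Nat.sub_zero, phi_one]
    congr 1
    unfold evB
    rw [ev_sww']
    congr 1
    funext d
    rw [bgen_eq, bgen_eq, if_pos rfl, if_neg one_ne_zero, swd_swd]
  · rw [phi_one, arm_psi2 harm, Nat.sub_self, phi_zero]
    congr 1
    unfold evB
    rw [ev_sww']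
    congr 1

theorem arm_HB {y : G} (hy : y ∈ HB x) : arm y ∈ HB x := by
  have : HB x ≤ (HB x).comap arm := by
    unfold HB
    rw [Subgroup.closure_le]
    rintro _ ⟨t, ht, rfl⟩
    show arm (x t) ∈ Subgroup.closure {g | ∃ t, t ≠ BabyMonster.Gen.t1 ∧ g = x t}
    rw [harm]
    refine Subgroup.subset_closure ⟨swap t, ?_, rfl⟩
    intro h'
    apply ht
    rw [← swap_swap t, h']
    rfl
  exact this hy

theorem holds_mir (harm2 : ∀ y, arm (arm y) = y) (h : Rel x) (w : ℕ → G) (F : ℕ → Fact) {f : Fact}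
    (hf : (model h arm w F).Holds f) : (model h arm w F).Holds (mir f) := by
  rw [holds_iff] at hf ⊢
  have h1 := arm_HB harm hf
  have hs : tsrc f.ty = 0 ∨ tsrc f.ty = 1 := by rw [tsrc_eq]; omega
  have ht : ttgt f.ty = 0 ∨ ttgt f.ty = 1 := by rw [ttgt_eq]; split_ifs <;> omega
  rw [map_mul, map_inv, map_mul, map_mul, arm_wB harm2, arm_wB harm2, arm_phi harm h hs,
    arm_phi harm h ht, ← tsrc_flip, ← ttgt_flip] at h1
  exact h1

omit harm in
theorem syls_rsyl (h : Rel x) (w : ℕ → G) (F : ℕ → Fact) (r : ℕ) :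
    (model h arm w F).syls ((sys F).rsyl r) = 1 := by
  have e8 : phi h 0 (evB 0 0x8) = x .t8 := by
    have : evB 0 0x8 = bgen 0 8 := by
      unfold evB Script.ev
      rw [evF_succ, if_neg (by norm_num), evF_zero_right' (by norm_num)]
      norm_num
    rw [this, phi_zero, psi_bgen h 8 (by decide)]
    rfl
  have eb : phi h 1 (evB 1 0xb) = x .t11 := by
    have : evB 1 0xb = bgen 1 11 := by
      unfold evB Script.ev
      rw [evF_succ, if_neg (by norm_num), evF_zero_right' (by norm_num)]
      norm_num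
    rw [this, phi_one, psi2_bgen h 11 (by decide)]
    rfl
  have hc : x .t8 * x .t11 = x .t11 * x .t8 := h.comm (by decide)
  have key1 : (model h arm w F).syls [.K 0 0x8, .K 1 0xb, .K 0 0x8, .K 1 0xb] = 1 := by
    show ([phi h 0 (evB 0 0x8), phi h 1 (evB 1 0xb), phi h 0 (evB 0 0x8), phi h 1 (evB 1 0xb)] : List G).prod = 1
    rw [e8, eb]
    simp only [List.prod_cons, List.prod_nil, mul_one]
    calc x .t8 * (x .t11 * (x .t8 * x .t11)) = x .t8 * x .t11 * (x .t8 * x .t11) := by simp only [mul_assoc]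
      _ = x .t11 * x .t8 * (x .t8 * x .t11) := by rw [← hc]
      _ = x .t11 * (x .t8 * x .t8) * x .t11 := by simp only [mul_assoc]
      _ = 1 := by rw [h.sq, mul_one, h.sq]
  have key2 : (model h arm w F).syls [.K 1 0xb, .K 0 0x8, .K 1 0xb, .K 0 0x8] = 1 := by
    show ([phi h 1 (evB 1 0xb), phi h 0 (evB 0 0x8), phi h 1 (evB 1 0xb), phi h 0 (evB 0 0x8)] : List G).prod = 1
    rw [e8, eb]
    simp only [List.prod_cons, List.prod_nil, mul_one]
    calc x .t11 * (x .t8 * (x .t11 * x .t8)) = x .t11 * x .t8 * (x .t11 * x .t8) := by simp only [mul_assoc]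
      _ = x .t8 * x .t11 * (x .t11 * x .t8) := by rw [← hc]
      _ = x .t8 * (x .t11 * x .t11) * x .t8 := by simp only [mul_assoc]
      _ = 1 := by rw [h.sq, mul_one, h.sq]
  show (model h arm w F).syls (rsyl r) = 1
  unfold rsyl
  cases Nat.ble r 3 with
  | true => exact Model.syls_nil _
  | false =>
    cases Nat.ble r 7 with
    | true => exact key1
    | false => exact key2

/-- **All facts of the certificate hold**, if each of them is given or checked from earlier facts and their mirror
images. -/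
theorem all_hold (harm2 : ∀ y, arm (arm y) = y) (h : Rel x) (w : ℕ → G) (F : ℕ → Fact) (N : ℕ)
    (hF : ∀ n < N, (model h arm w F).Holds (F n) ∨ ∃ r st, check (sys F) (2 * n) r st = true) :
    ∀ n < N, (model h arm w F).Holds (F n) := by
  intro n
  induction n using Nat.strong_induction_on with
  | _ n ih =>
    intro hn
    rcases hF n hn with h1 | ⟨r, st, h1⟩
    · exact h1
    · have h2 : (model h arm w F).Holds ((sys F).fact (2 * n)) := by
        refine Model.check_sound (N := 2 * n) (r := r) (st := st) ?_ ?_ h1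
        · intro m hm
          rcases Nat.even_or_odd' m with ⟨k, rfl | rfl⟩
          · show (model h arm w F).Holds (both F (2 * k))
            rw [both_even]
            exact ih k (by omega) (by omega)
          · show (model h arm w F).Holds (both F (2 * k + 1))
            rw [both_odd]
            exact holds_mir harm harm2 h w F (ih k (by omega) (by omega))
        · rw [syls_rsyl]
          rfl
      have h3 : (model h arm w F).Holds (both F (2 * n)) := h2
      rwa [both_even] at h3

end arm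

end

end Cfsg.Agent.BM.FactsB
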