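import Cfsg.Agent.Lib.PermNetOrbit

/-!
Nodes of a double coset enumeration (helper264, S1704): a group `F` with a permutation representation `φ` on
`{0, …, 2 ^ k - 1}` given by networks of the letters.

* `cov_of_check`: coverings `K₀ = ⋃ S m O` by saturation of a point set;
* `card_of_chain`: lower bounds `|S| ≥ N` from a stabiliser chain, `S` generated by words.
-/

set_option autoImplicit false

namespace Cfsg.Agent.BM.NodeLib

open Cfsg.Agent.Lib.PermNet Cfsg.Agent.Lib.PermNetOrbit

/-- A permutation representation given on letters by networks. -/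
structure Rep (F : Type*) [Group F] (α : Type*) where
  /-- the element of a letter -/
  gen : α → F
  /-- the network of a letter -/
  net : α → Net
  /-- `2 ^ k` points -/
  k : ℕ
  /-- the representation -/
  φ : F →* Equiv.Perm ℕ
  φ_gen : ∀ x, φ (gen x) = (net x).perm
  ok : ∀ x, (net x).ok (2 ^ k) = true
  sq : ∀ x, gen x * gen x = 1

variable {F : Type*} [Group F] {α : Type*} (R : Rep F α)

namespace Rep

/-- the value of a word -/
def wd (w : List α) : F := (w.map R.gen).prod

/-- the word of networks -/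
noncomputable def nw (w : List α) : List Net := w.map R.net

/-- words of networks -/
noncomputable def nws (l : List (List α)) : List (List Net) := l.map R.nw

theorem wd_nil : R.wd [] = 1 := rfl
theorem wd_cons (x : α) (w : List α) : R.wd (x :: w) = R.gen x * R.wd w := by simp [wd]
theorem wd_append (v w : List α) : R.wd (v ++ w) = R.wd v * R.wd w := by simp [wd]

theorem gen_inv (x : α) : (R.gen x)⁻¹ = R.gen x := inv_eq_of_mul_eq_one_left (R.sq x)

theorem wd_reverse (w : List α) : R.wd w.reverse = (R.wd w)⁻¹ := by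
  induction w with
  | nil => simp [wd_nil]
  | cons x w ih =>
    rw [List.reverse_cons, wd_append, ih, wd_cons, wd_cons, wd_nil, mul_one, mul_inv_rev, gen_inv]

theorem nw_ok (w : List α) : WOk (2 ^ R.k) (R.nw w) := by
  intro L hL
  obtain ⟨x, _, rfl⟩ := List.mem_map.1 hL
  exact R.ok x

theorem nws_ok (l : List (List α)) : WsOk (2 ^ R.k) (R.nws l) := by
  intro w hw
  obtain ⟨v, _, rfl⟩ := List.mem_map.1 hw
  exact R.nw_ok v

theorem φ_wd (w : List α) : R.φ (R.wd w) = wperm (R.nw w) := by
  rw [wd, map_list_prod, List.map_map, nw, wperm, List.map_map]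
  congr 1
  apply List.map_congr_left
  intro x _
  exact R.φ_gen x

theorem φ_wd_apply (w : List α) (p : ℕ) : R.φ (R.wd w) p = ptWord (R.nw w) p := by
  rw [φ_wd, ptWord_eq (R.nw_ok w)]

/-- the subgroup generated by a list of words -/
def clo (T : List (List α)) : Subgroup F := Subgroup.closure {x | ∃ w ∈ T, x = R.wd w}

theorem wd_mem_clo {T : List (List α)} {w : List α} (h : w ∈ T) : R.wd w ∈ R.clo T :=
  Subgroup.subset_closure ⟨w, h, rfl⟩

theorem clo_le {T : List (List α)} {K : Subgroup F} (h : ∀ w ∈ T, R.wd w ∈ K) : R.clo T ≤ K := by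
  rw [clo, Subgroup.closure_le]
  rintro _ ⟨w, hw, rfl⟩
  exact h w hw

/-- A word in the words of `T`: the entry `2 i` stands for the `i`-th word, `2 i + 1` for its inverse. -/
def ex (T : List (List α)) (l : List ℕ) : List α :=
  l.flatMap fun n => bif n % 2 == 0 then T.getD (n / 2) [] else (T.getD (n / 2) []).reverse

theorem wd_ex_mem (T : List (List α)) (l : List ℕ) : R.wd (ex T l) ∈ R.clo T := by
  have key : ∀ i, R.wd (T.getD i []) ∈ R.clo T := by
    intro i
    rw [List.getD_eq_getElem?_getD]
    rcases h : T[i]? with _ | w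
    · simp only [Option.getD_none, wd_nil]; exact (R.clo T).one_mem
    · simp only [Option.getD_some]
      exact R.wd_mem_clo (List.mem_of_getElem? h)
  induction l with
  | nil => exact (R.clo T).one_mem
  | cons n l ih =>
    have e : ex T (n :: l) =
        (bif n % 2 == 0 then T.getD (n / 2) [] else (T.getD (n / 2) []).reverse) ++ ex T l := rfl
    rw [e, wd_append]
    refine (R.clo T).mul_mem ?_ ih
    cases n % 2 == 0
    · show R.wd (T.getD (n / 2) []).reverse ∈ _
      rw [wd_reverse]; exact (R.clo T).inv_mem (key _)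
    · exact key _

/-! ### Coverings -/

/-- The set of the images of the point `p` under the words of `M`. -/
noncomputable def start (p : ℕ) (M : List (List α)) : ℕ :=
  List.rec (motive := fun _ => ℕ) 0 (fun m _ ih => Nat.lor (Nat.pow 2 (ptWord (R.nw m) p)) ih) M

theorem start_spec {p : ℕ} {M : List (List α)} {q : ℕ} (h : (R.start p M).testBit q = true) :
    ∃ m ∈ M, R.φ (R.wd m) p = q := by
  induction M with
  | nil => simp [start] at h
  | cons m M ih =>
    have h' : (Nat.lor (Nat.pow 2 (ptWord (R.nw m) p)) (R.start p M)).testBit q = true := h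
    change ((2 ^ (ptWord (R.nw m) p)) ||| (R.start p M)).testBit q = true at h'
    rw [Nat.testBit_or, Bool.or_eq_true] at h'
    rcases h' with h' | h'
    · rw [Nat.testBit_two_pow, decide_eq_true_eq] at h'
      exact ⟨m, List.mem_cons_self, by rw [φ_wd_apply]; exact h'⟩
    · obtain ⟨m', hm', h''⟩ := ih h'
      exact ⟨m', List.mem_cons_of_mem _ hm', h''⟩

/-- The words `M` represent all orbits of the words `T` on the set `U`. -/
noncomputable def covB (T M : List (List α)) (p r U : ℕ) : Bool :=
  Nat.beq (Nat.land U (sat (R.nws T) r (R.start p M))) U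

/-- **Covering lemma.** -/
theorem cov_of_check {K₀ O : Subgroup F} {p U : ℕ}
    (hU : ∀ k ∈ K₀, U.testBit (R.φ k p) = true)
    (hO : ∀ k ∈ K₀, R.φ k p = p → k ∈ O)
    {T M : List (List α)} {r : ℕ} (hT : ∀ w ∈ T, R.wd w ∈ K₀) (hM : ∀ w ∈ M, R.wd w ∈ K₀)
    (h : R.covB T M p r U = true) {k : F} (hk : k ∈ K₀) :
    ∃ m ∈ M, ∃ s ∈ R.clo T, ∃ x ∈ O, k = s * R.wd m * x := by
  have h1 : U &&& sat (R.nws T) r (R.start p M) = U := Nat.eq_of_beq_eq_true h
  have h2 : (sat (R.nws T) r (R.start p M)).testBit (R.φ k p) = true := by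
    have := hU k hk
    rw [← h1, Nat.testBit_and, Bool.and_eq_true] at this
    exact this.2
  obtain ⟨g, ⟨s, hs, rfl⟩, hg⟩ := sat_spec (K := (R.clo T).map R.φ) (R.nws_ok T) (by
    intro w hw
    obtain ⟨v, hv, rfl⟩ := List.mem_map.1 hw
    exact ⟨R.wd v, R.wd_mem_clo hv, R.φ_wd v⟩) r h2
  obtain ⟨m, hm, h3⟩ := R.start_spec hg
  have hs' : s ∈ K₀ := R.clo_le hT hs
  refine ⟨m, hm, s⁻¹, (R.clo T).inv_mem hs, (R.wd m)⁻¹ * (s * k), ?_, by group⟩
  refine hO _ (K₀.mul_mem (K₀.inv_mem (hM m hm)) (K₀.mul_mem hs' hk)) ?_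
  rw [map_mul, map_mul, map_inv, Equiv.Perm.mul_apply, Equiv.Perm.mul_apply, ← h3]
  simp

/-! ### Orders -/

/-- A level of a stabiliser chain: base point, orbit length, number of rounds, words in the generators. -/
structure Lev where
  /-- base point -/
  p : ℕ
  /-- number of points reached -/
  m : ℕ
  /-- rounds -/
  r : ℕ
  /-- words in the words of `T` -/
  ws : List (List ℕ)

/-- Check of one level. -/
noncomputable def levB (T : List (List α)) (qs : List ℕ) (L : Lev) : Bool :=
  and (fixAllB (R.nws (L.ws.map (ex T))) qs)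
    (seqB (sat (R.nws (L.ws.map (ex T))) L.r (Nat.pow 2 L.p)) fun V =>
      and (Nat.ble L.m (pc R.k V)) (Nat.beq (Nat.shiftRight V (Nat.pow 2 R.k)) 0))

/-- Check of a chain. -/
noncomputable def chainB (T : List (List α)) : List Lev → List ℕ → Bool :=
  List.rec (motive := fun _ => List ℕ → Bool) (fun _ => true)
    (fun L _ ih qs => and (R.levB T qs L) (ih (L.p :: qs)))

theorem chainB_cons (T : List (List α)) (L : Lev) (Ls : List Lev) (qs : List ℕ) :
    R.chainB T (L :: Ls) qs = and (R.levB T qs L) (R.chainB T Ls (L.p :: qs)) := rfl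

/-- the product of the orbit lengths -/
def prodm (Ls : List Lev) : ℕ := (Ls.map Lev.m).prod

theorem prodm_cons (L : Lev) (Ls : List Lev) : prodm (L :: Ls) = L.m * prodm Ls := by simp [prodm]

theorem card_stab_of_chain (T : List (List α)) [Finite (R.clo T)] (Ls : List Lev) (qs : List ℕ)
    (h : R.chainB T Ls qs = true) :
    prodm Ls ≤ Nat.card (stabL (R.φ.comp (R.clo T).subtype) qs) := by
  induction Ls generalizing qs with
  | nil =>
    simp only [prodm, List.map_nil, List.prod_nil]
    exact Nat.card_pos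
  | cons L Ls ih =>
    rw [chainB_cons, Bool.and_eq_true] at h
    obtain ⟨h1, h2⟩ := h
    rw [levB, seqB_eq, Bool.and_eq_true, Bool.and_eq_true] at h1
    rw [prodm_cons]
    refine le_trans (Nat.mul_le_mul_left _ (ih (L.p :: qs) h2)) ?_
    refine stabL_step_of_check (k := R.k) _ qs L.p L.m L.r (R.nws_ok _) ?_ h1.1 h1.2.1 h1.2.2
    intro w hw
    obtain ⟨v, hv, rfl⟩ := List.mem_map.1 hw
    obtain ⟨l, _, rfl⟩ := List.mem_map.1 hv
    exact ⟨⟨R.wd (ex T l), R.wd_ex_mem T l⟩, R.φ_wd _⟩

/-- **Lower bound for the order** of the group generated by the words `T`. -/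
theorem card_of_chain [Finite F] (T : List (List α)) (Ls : List Lev) (h : R.chainB T Ls [] = true) :
    prodm Ls ≤ Nat.card (R.clo T) :=
  (R.card_stab_of_chain T Ls [] h).trans
    (Nat.card_le_card_of_injective _ Subtype.val_injective)

/-- Upper bound for the index. -/
theorem index_of_card [Finite F] {S : Subgroup F} {m n N : ℕ} (hm : m ≤ Nat.card S) (hN : Nat.card F = N)
    (hn : m * n = N) (h0 : 0 < m) : S.index ≠ 0 ∧ S.index ≤ n := by
  refine ⟨Subgroup.FiniteIndex.index_ne_zero, ?_⟩
  have h1 := S.card_mul_index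
  rw [hN, ← hn] at h1
  by_contra hc
  rw [not_le] at hc
  have : m * n < Nat.card S * S.index :=
    lt_of_lt_of_le (Nat.mul_lt_mul_of_pos_left hc h0) (Nat.mul_le_mul_right _ hm)
  omega

/-- Upper bound for a relative index. -/
theorem relIndex_of_card [Finite F] {S K : Subgroup F} (hSK : S ≤ K) {m n N : ℕ} (hm : m ≤ Nat.card S)
    (hN : Nat.card K ≤ N) (hn : m * n = N) (h0 : 0 < m) : S.relIndex K ≠ 0 ∧ S.relIndex K ≤ n := by
  have h1 : Nat.card S * S.relIndex K = Nat.card K := by
    have := (S.subgroupOf K).card_mul_index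
    rwa [Nat.card_congr (Subgroup.subgroupOfEquivOfLe hSK).toEquiv] at this
  refine ⟨?_, ?_⟩
  · intro h
    rw [h, mul_zero] at h1
    exact Nat.card_pos.ne h1
  · by_contra hc
    rw [not_le] at hc
    have : m * n < Nat.card S * S.relIndex K :=
      lt_of_lt_of_le (Nat.mul_lt_mul_of_pos_left hc h0) (Nat.mul_le_mul_right _ hm)
    omega

end Rep

end Cfsg.Agent.BM.NodeLib
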