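import Cfsg.Agent.Fischer.Fi22Order
import Cfsg.Agent.BM.Fi22ONets
import Cfsg.Agent.BM.NodeLib

/-!
Stage A of S1704, B-side (helper264): the action of the presented `Fi₂₂` on the 14080 cosets of
`O = ⟨a, b, c, d, e, f, h, i⟩` (all generators but `g`; the other class of `Ω₇(3)`), point `0` with stabiliser `O`.
-/

set_option autoImplicit false
set_option maxRecDepth 100000

namespace Cfsg.Agent.BM.Fi22O

open Cfsg.Spor Cfsg.Spor.Fi22 Cfsg.Agent.Lib.PermNet Cfsg.Agent.Lib.PermNetOrbit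
open Cfsg.Agent.Fischer.Fi22PtsRep (gen wd)

/-- the network of a generator -/
noncomputable def net : Gen → Net
  | .a => Fi22ONets.gaN
  | .b => Fi22ONets.gbN
  | .c => Fi22ONets.gcN
  | .d => Fi22ONets.gdN
  | .e => Fi22ONets.geN
  | .f => Fi22ONets.gfN
  | .g => Fi22ONets.ggN
  | .h => Fi22ONets.ghN
  | .i => Fi22ONets.giN

theorem net_ok (x : Gen) : (net x).ok (2 ^ 14) = true := by
  cases x <;> decide +kernel

/-- a word in the generators as a word of networks -/
noncomputable def nw (w : List Gen) : List Net := w.map net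

theorem nw_ok (w : List Gen) : WOk (2 ^ 14) (nw w) := by
  intro L hL
  obtain ⟨x, _, rfl⟩ := List.mem_map.1 hL
  exact net_ok x

/-- the permutation of a generator -/
noncomputable def f (x : Gen) : Equiv.Perm ℕ := (net x).perm

theorem pow_eq_one {w : List Gen} {m : ℕ} (h : checkEq 14 (wpow (nw w) m) [] = true) :
    wperm (nw w) ^ m = 1 := by
  rw [← wperm_wpow]
  exact wperm_eq_one_of_checkEq (WOk.wpow (nw_ok w) m) h

/-- The generators. -/
def gens : List Gen := [.a, .b, .c, .d, .e, .f, .g, .h, .i]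

theorem mem_gens (x : Gen) : x ∈ gens := by cases x <;> decide

/-- The Coxeter relators of a row. -/
noncomputable def rowB (x : Gen) : Bool :=
  gens.all fun y => checkEq 14 (wpow [net x, net y] (coxLabel edges x y)) []

theorem row_a : rowB .a = true := by decide +kernel
theorem row_b : rowB .b = true := by decide +kernel
theorem row_c : rowB .c = true := by decide +kernel
theorem row_d : rowB .d = true := by decide +kernel
theorem row_e : rowB .e = true := by decide +kernel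
theorem row_f : rowB .f = true := by decide +kernel
theorem row_g : rowB .g = true := by decide +kernel
theorem row_h : rowB .h = true := by decide +kernel
theorem row_i : rowB .i = true := by decide +kernel

theorem row (x : Gen) : rowB x = true := by
  cases x
  · exact row_a
  · exact row_b
  · exact row_c
  · exact row_d
  · exact row_e
  · exact row_f
  · exact row_g
  · exact row_h
  · exact row_i

theorem cox (x y : Gen) : (f x * f y) ^ coxLabel edges x y = 1 := by
  have key : checkEq 14 (wpow (nw [x, y]) (coxLabel edges x y)) [] = true :=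
    List.all_eq_true.1 (row x) y (mem_gens y)
  have := pow_eq_one key
  simpa [nw, wperm, f] using this

theorem rel_spider : (f .d * f .c * f .b * f .d * f .e * f .f * f .d * f .h * f .i) ^ 10 = 1 := by
  have key : checkEq 14 (wpow (nw [.d, .c, .b, .d, .e, .f, .d, .h, .i]) 10) [] = true := by
    decide +kernel
  have := pow_eq_one key
  simpa [nw, wperm, mul_assoc, f] using this

theorem rel_e7a : (f .a * f .b * f .c * f .d * f .e * f .f * f .h) ^ 9 = 1 := by
  have key : checkEq 14 (wpow (nw [.a, .b, .c, .d, .e, .f, .h]) 9) [] = true := by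
    decide +kernel
  have := pow_eq_one key
  simpa [nw, wperm, mul_assoc, f] using this

theorem rel_e7b : (f .b * f .c * f .d * f .e * f .f * f .g * f .h) ^ 9 = 1 := by
  have key : checkEq 14 (wpow (nw [.b, .c, .d, .e, .f, .g, .h]) 9) [] = true := by
    decide +kernel
  have := pow_eq_one key
  simpa [nw, wperm, mul_assoc, f] using this

theorem rels : ∀ r ∈ coxRelators edges ∪ {r | r ∈ extra}, FreeGroup.lift f r = 1 := by
  refine cox_lift_eq_one f edges extra (fun x _ y _ => cox x y) ?_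
  intro r hr
  simp only [extra, List.mem_cons, List.not_mem_nil, or_false] at hr
  rcases hr with rfl | rfl | rfl
  · simpa only [map_pow, map_mul, FreeGroup.lift_apply_of] using rel_spider
  · simpa only [map_pow, map_mul, FreeGroup.lift_apply_of] using rel_e7a
  · simpa only [map_pow, map_mul, FreeGroup.lift_apply_of] using rel_e7b

/-- the permutation representation -/
noncomputable def φ : Spor.Fi22 →* Equiv.Perm ℕ := PresentedGroup.toGroup rels

theorem φ_gen (x : Gen) : φ (gen x) = (net x).perm := PresentedGroup.toGroup.of rels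

/-- The representation as a `Rep`. -/
noncomputable def R : NodeLib.Rep Spor.Fi22 Gen where
  gen := gen
  net := net
  k := 14
  φ := φ
  φ_gen := φ_gen
  ok := net_ok
  sq := Cfsg.Agent.Fischer.Fi22PtsRep.gen_sq

theorem R_wd (w : List Gen) : R.wd w = wd w := rfl

/-- all points -/
noncomputable def U : ℕ := Nat.sub (Nat.pow 2 14080) 1

theorem testBit_U {p : ℕ} : U.testBit p = true ↔ p < 14080 := by
  show (2 ^ 14080 - 1).testBit p = true ↔ _
  rw [Nat.testBit_two_pow_sub_one]; simp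

/-- the generators of `O` -/
def TO : List (List Gen) := [[.a], [.h], [.e], [.c], [.f], [.b], [.i], [.d]]

/-- The subgroup `O = ⟨a, b, c, d, e, f, h, i⟩`. -/
noncomputable def O : Subgroup Spor.Fi22 := R.clo TO

theorem sat_all : Nat.beq (sat (R.nws [[.a], [.b], [.c], [.d], [.e], [.f], [.g], [.h], [.i]]) 30 (Nat.pow 2 0)) U =
    true := by decide +kernel

theorem closed_all : closedB (R.nws [[.a], [.b], [.c], [.d], [.e], [.f], [.g], [.h], [.i]]) U = true := by
  decide +kernel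

theorem transitive (p : ℕ) (hp : p < 14080) : ∃ g, φ g 0 = p := by
  have h : (sat (R.nws [[.a], [.b], [.c], [.d], [.e], [.f], [.g], [.h], [.i]]) 30 (2 ^ 0)).testBit p = true := by
    have := Nat.eq_of_beq_eq_true sat_all
    change sat _ 30 (2 ^ 0) = U at this
    rw [this]
    exact testBit_U.2 hp
  obtain ⟨g, ⟨x, rfl⟩, h1⟩ := sat_point_spec (K := φ.range) (R.nws_ok _) (by
    intro w hw
    obtain ⟨x, _, rfl⟩ := List.mem_map.1 hw
    exact ⟨R.wd x, R.φ_wd x⟩) 30 h
  exact ⟨x, h1⟩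

theorem fix0 : fixAllB (R.nws TO) [0] = true := by decide +kernel

theorem φ_fix (x : Spor.Fi22) (hx : x ∈ O) : φ x 0 = 0 := by
  have : O ≤ stabL φ [0] := by
    refine R.clo_le ?_
    intro w hw q hq
    show R.φ (R.wd w) q = q
    rw [R.φ_wd]
    exact fixAllB_spec (R.nws_ok TO) fix0 q hq _ (List.mem_map.2 ⟨w, hw, rfl⟩)
  exact this hx 0 (by simp)

open NodeLib.Rep in
/-- the stabiliser chain of `O` -/
def CO : List NodeLib.Rep.Lev := [⟨13928, 10920, 6, [[0], [2], [4], [6], [8], [10], [12], [14]]⟩,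
   ⟨13966, 4374, 15, [[12, 14, 2, 4, 6, 10, 14, 2, 12], [0, 2, 6, 8, 10, 0, 12, 14, 2, 6]]⟩,
   ⟨5, 96, 4, [[0, 6, 10, 0, 6], [12, 14, 2, 4, 6, 10, 14, 2, 12, 12, 14, 2, 4, 6, 10, 14, 2, 12, 12, 14, 2,
    4, 6, 10, 14, 2, 12, 12, 14, 2, 4, 6, 10, 14, 2, 12, 0, 2, 6, 8, 10, 0, 12, 14, 2, 6, 12, 14, 2, 4, 6,
    10, 14, 2, 12, 12, 14, 2, 4, 6, 10, 14, 2, 12, 7, 3, 15, 13, 1, 11, 9, 7, 3, 1, 13, 3, 15, 11, 7, 5, 3,
    15, 13, 13, 3, 15, 11, 7, 5, 3, 15, 13, 13, 3, 15, 11, 7, 5, 3, 15, 13, 13, 3, 15, 11, 7, 5, 3, 15, 13],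
    [12, 14, 2, 4, 6, 10, 14, 2, 12, 12, 14, 2, 4, 6, 10, 14, 2, 12, 0, 2, 6, 8, 10, 0, 12, 14, 2, 6, 12, 14,
    2, 4, 6, 10, 14, 2, 12, 12, 14, 2, 4, 6, 10, 14, 2, 12, 0, 2, 6, 8, 10, 0, 12, 14, 2, 6, 12, 14, 2, 4, 6,
    10, 14, 2, 12, 12, 14, 2, 4, 6, 10, 14, 2, 12, 12, 14, 2, 4, 6, 10, 14, 2, 12, 12, 14, 2, 4, 6, 10, 14,
    2, 12, 12, 14, 2, 4, 6, 10, 14, 2, 12, 12, 14, 2, 4, 6, 10, 14, 2, 12, 0, 2, 6, 8, 10, 0, 12, 14, 2, 6,
    13, 3, 15, 11, 7, 5, 3, 15, 13, 13, 3, 15, 11, 7, 5, 3, 15, 13, 13, 3, 15, 11, 7, 5, 3, 15, 13, 13, 3,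
    15, 11, 7, 5, 3, 15, 13, 13, 3, 15, 11, 7, 5, 3, 15, 13, 13, 3, 15, 11, 7, 5, 3, 15, 13, 7, 3, 15, 13, 1,
    11, 9, 7, 3, 1, 13, 3, 15, 11, 7, 5, 3, 15, 13, 7, 3, 15, 13, 1, 11, 9, 7, 3, 1, 13, 3, 15, 11, 7, 5, 3,
    15, 13, 13, 3, 15, 11, 7, 5, 3, 15, 13, 13, 3, 15, 11, 7, 5, 3, 15, 13, 13, 3, 15, 11, 7, 5, 3, 15, 13]]⟩]

theorem chainO : R.chainB TO CO [] = true := by decide +kernel

theorem card_fi22 : Nat.card Spor.Fi22 = 64561751654400 := Cfsg.Agent.Fischer.Fi22Order.card_fi22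

theorem indexO : O.index ≠ 0 ∧ O.index ≤ 14080 := by
  have h : NodeLib.Rep.prodm CO = 4585351680 := by decide
  exact NodeLib.Rep.index_of_card (h ▸ R.card_of_chain TO CO chainO) card_fi22 (by norm_num) (by norm_num)

theorem main : O.index = 14080 ∧ (∀ g, φ g 0 = 0 ↔ g ∈ O) ∧ (∀ g, φ g 0 < 14080) :=
  index_eq_of_action O φ 14080 φ_fix transitive indexO.2 indexO.1

/-- **Covering** of `Fi₂₂` from one kernel check. -/
theorem cov_of_check {T M : List (List Gen)} {r : ℕ} (h : R.covB T M 0 r U = true) (k : Spor.Fi22) :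
    ∃ m ∈ M, ∃ s ∈ R.clo T, ∃ x ∈ O, k = s * R.wd m * x :=
  R.cov_of_check (K₀ := ⊤) (O := O) (p := 0) (U := U) (fun k _ => testBit_U.2 (main.2.2 k))
    (fun k _ h => (main.2.1 k).1 h) (fun _ _ => Subgroup.mem_top _) (fun _ _ => Subgroup.mem_top _) h
    (Subgroup.mem_top k)

/-- **Index bound** from one kernel check. -/
theorem index_of_chain {T : List (List Gen)} {C : List NodeLib.Rep.Lev} {m n : ℕ} (h : R.chainB T C [] = true)
    (hm : NodeLib.Rep.prodm C = m) (hn : m * n = 64561751654400) (h0 : 0 < m) :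
    (R.clo T).index ≠ 0 ∧ (R.clo T).index ≤ n :=
  NodeLib.Rep.index_of_card (hm ▸ R.card_of_chain T C h) card_fi22 hn h0

end Cfsg.Agent.BM.Fi22O
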