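import Cfsg.Agent.BM.Script
import Cfsg.Agent.BM.DCE

/-!
Glue between the facts of a script (hexadecimal words) and words given by lists of letters (helper606).
-/

set_option autoImplicit false

namespace Cfsg.Agent.BM.Glue

open Cfsg.Agent.BM Cfsg.Agent.BM.Script

variable {α : Type*}

/-- The hexadecimal word of a list of letters (first letter = lowest digit). -/
def enc (d : α → ℕ) : List α → ℕ
  | [] => 0
  | x :: l => d x + 16 * enc d l

theorem enc_nil (d : α → ℕ) : enc d [] = 0 := rfl
theorem enc_cons (d : α → ℕ) (x : α) (l : List α) : enc d (x :: l) = d x + 16 * enc d l := rfl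

theorem evF_enc {M : Type*} [Monoid M] {f : ℕ → M} {g : α → M} {d : α → ℕ}
    (hd : ∀ x, 0 < d x ∧ d x < 16) (hf : ∀ x, f (d x) = g x) (l : List α) :
    ∀ n, l.length ≤ n → evF f n (enc d l) = (l.map g).prod := by
  induction l with
  | nil => intro n _; rw [enc_nil, evF_zero_right]; rfl
  | cons x l ih =>
    intro n hn
    rw [List.length_cons] at hn
    obtain ⟨n, rfl⟩ : ∃ m, n = m + 1 := ⟨n - 1, by omega⟩
    have h := hd x
    rw [enc_cons, evF_succ, if_neg (by omega), List.map_cons, List.prod_cons]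
    have h1 : (d x + 16 * enc d l) % 16 = d x := by omega
    have h2 : (d x + 16 * enc d l) / 16 = enc d l := by omega
    rw [h1, h2, hf, ih n (by omega)]

theorem ev_enc {M : Type*} [Monoid M] {f : ℕ → M} {g : α → M} {d : α → ℕ}
    (hd : ∀ x, 0 < d x ∧ d x < 16) (hf : ∀ x, f (d x) = g x) (l : List α) (hl : l.length ≤ 4096) :
    ev f (enc d l) = (l.map g).prod := evF_enc hd hf l _ hl

/-- Check a property for the words of a list with given witnesses. -/
def allW {β : Type*} (P : β → ℕ → Bool) : List β → List ℕ → Bool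
  | [], _ => true
  | _ :: _, [] => false
  | w :: ws, n :: ns => P w n && allW P ws ns

theorem allW_spec {β : Type*} {P : β → ℕ → Bool} : ∀ {ws : List β} {ns : List ℕ}, allW P ws ns = true →
    ∀ w ∈ ws, ∃ n, P w n = true := by
  intro ws
  induction ws with
  | nil => intro ns _ w hw; exact absurd hw (by simp)
  | cons v ws ih =>
    intro ns h w hw
    cases ns with
    | nil => exact absurd h (by simp [allW])
    | cons n ns =>
      rw [allW, Bool.and_eq_true] at h
      rcases List.mem_cons.1 hw with rfl | hw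
      · exact ⟨n, h.1⟩
      · exact ih h.2 w hw

section Model

variable {S : Sys} {P G : Type*} [Group P] [Group G]

/-- The fact `n` is the stabiliser fact of the word `w` at the node `i`. -/
def stabP (fact : ℕ → Fact) (N ty i : ℕ) (d : α → ℕ) (w : List α) (n : ℕ) : Bool :=
  decide (n < N) && (decide ((fact n).ty = ty) && (decide ((fact n).i = i) && (decide ((fact n).a = enc d w) &&
    (decide ((fact n).j = i) && (decide ((fact n).b = 0) && decide (w.length ≤ 4096))))))

/-- The fact `n` is an edge fact from the word `w` at the node `i` to a node `j` with `lo ≤ j < hi`. -/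
def edgeP (fact : ℕ → Fact) (N ty i lo hi : ℕ) (d : α → ℕ) (w : List α) (n : ℕ) : Bool :=
  decide (n < N) && (decide ((fact n).ty = ty) && (decide ((fact n).i = i) && (decide ((fact n).a = enc d w) &&
    (decide (lo ≤ (fact n).j) && (decide ((fact n).j < hi) && decide (w.length ≤ 4096))))))

/-- The fact `n` is an edge fact to the word `w` at the node `j` from a node `i` with `lo ≤ i < hi`; the word at `i`
has letters in the mask `m`. -/
noncomputable def egdeP (fact : ℕ → Fact) (N ty j lo hi m : ℕ) (d : α → ℕ) (w : List α) (n : ℕ) : Bool :=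
  decide (n < N) && (decide ((fact n).ty = ty) && (decide ((fact n).j = j) && (decide ((fact n).b = enc d w) &&
    (decide (lo ≤ (fact n).i) && (decide ((fact n).i < hi) && (decide (w.length ≤ 4096) &&
      wordInF m 4096 (fact n).a))))))

variable (M : Model S P G)

theorem stab_of {N ty i s : ℕ} {d : α → ℕ} {g : α → P} (hd : ∀ x, 0 < d x ∧ d x < 16)
    (hold : ∀ n < N, M.Holds (S.fact n)) (hg : M.g ty = 1) (hs : S.src ty = s) (ht : S.tgt ty = s)
    (hf : ∀ x, M.gen s (d x) = g x) {T : List (List α)} {ns : List ℕ}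
    (h : allW (stabP S.fact N ty i d) T ns = true) :
    ∀ w ∈ T, M.w i * M.φ s (w.map g).prod * (M.w i)⁻¹ ∈ M.H := by
  intro w hw
  obtain ⟨n, hn⟩ := allW_spec h w hw
  simp only [stabP, Bool.and_eq_true, decide_eq_true_eq] at hn
  obtain ⟨h1, h2, h3, h4, h5, h6, h7⟩ := hn
  have := hold n h1
  unfold Model.Holds Model.R Model.ev at this
  rw [h2, h3, h4, h5, h6, hs, ht, ev_zero, map_one, mul_one, hg, mul_one, ev_enc hd hf w h7] at this
  exact this

theorem edge_of {N ty i s t lo hi : ℕ} {d : α → ℕ} {g : α → P} (hd : ∀ x, 0 < d x ∧ d x < 16)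
    (hold : ∀ n < N, M.Holds (S.fact n)) (hg : M.g ty = 1) (hs : S.src ty = s) (ht : S.tgt ty = t)
    (hf : ∀ x, M.gen s (d x) = g x) {T : List (List α)} {ns : List ℕ}
    (h : allW (edgeP S.fact N ty i lo hi d) T ns = true) :
    ∀ w ∈ T, ∃ j, lo ≤ j ∧ j < hi ∧ ∃ y : P,
      DCE.SameC M.H (M.w i * M.φ s (w.map g).prod) (M.w j * M.φ t y) := by
  intro w hw
  obtain ⟨n, hn⟩ := allW_spec h w hw
  simp only [edgeP, Bool.and_eq_true, decide_eq_true_eq] at hn
  obtain ⟨h1, h2, h3, h4, h5, h6, h7⟩ := hn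
  have := hold n h1
  unfold Model.Holds Model.R Model.ev at this
  rw [h2, h3, h4, hs, ht, hg, mul_one, ev_enc hd hf w h7] at this
  exact ⟨_, h5, h6, _, this⟩

theorem egde_of {N ty j s t lo hi m : ℕ} {d : α → ℕ} {g : α → P} {K : Subgroup P}
    (hd : ∀ x, 0 < d x ∧ d x < 16)
    (hold : ∀ n < N, M.Holds (S.fact n)) (hg : M.g ty = 1) (hs : S.src ty = s) (ht : S.tgt ty = t)
    (hf : ∀ x, M.gen t (d x) = g x) (hK : ∀ e, m.testBit e = true → M.gen s e ∈ K)
    {T : List (List α)} {ns : List ℕ} (h : allW (egdeP S.fact N ty j lo hi m d) T ns = true) :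
    ∀ w ∈ T, ∃ i, lo ≤ i ∧ i < hi ∧ ∃ y ∈ K,
      DCE.SameC M.H (M.w i * M.φ s y) (M.w j * M.φ t (w.map g).prod) := by
  intro w hw
  obtain ⟨n, hn⟩ := allW_spec h w hw
  simp only [egdeP, Bool.and_eq_true, decide_eq_true_eq] at hn
  obtain ⟨h1, h2, h3, h4, h5, h6, h7, h8⟩ := hn
  have := hold n h1
  unfold Model.Holds Model.R Model.ev at this
  rw [h2, h3, h4, hs, ht, hg, mul_one, ev_enc hd hf w h7] at this
  exact ⟨_, h5, h6, _, evF_mem hK _ _ h8, this⟩

/-- Words stabilising a coset generate a subgroup stabilising it. -/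
theorem clo_stab {H : Subgroup G} {Q : Type*} [Group Q] (φ : Q →* G) (c : G) {Z : Set Q}
    (h : ∀ x ∈ Z, c * φ x * c⁻¹ ∈ H) : ∀ x ∈ Subgroup.closure Z, c * φ x * c⁻¹ ∈ H := by
  intro x hx
  have : Subgroup.closure Z ≤ (H.comap ((MulAut.conj c).toMonoidHom.comp φ)) := by
    rw [Subgroup.closure_le]
    intro y hy
    show c * φ y * c⁻¹ ∈ H
    exact h y hy
  exact this hx

end Model

end Cfsg.Agent.BM.Glue
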