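import Cfsg.Agent.BM.CertAChk
import Cfsg.Agent.BM.CovALib

/-!
The kernel checks of the scripts of stage A of S1704 once more, with the letters `1` and `b, …, f` of the sort 0 acting
trivially: these letters do not occur in the certificate, hence it also proves facts about groups which contain
`t2, …, t11` only (order of the presented group `HB`, helper62).
-/

set_option autoImplicit false
set_option maxRecDepth 100000
set_option Elab.async false

namespace Cfsg.Agent.BM.HBChk

open Cfsg.Agent.Lib.PermNet Cfsg.Agent.BM.Script Cfsg.Agent.BM.CertA

/-- The letters `2, …, a` of the sort 0, all letters of the other sorts. -/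
noncomputable def okL (s d : ℕ) : Bool := Bool.rec true (tb (nat_lit 2044) d) (Nat.beq s 0)

/-- The restricted action. -/
noncomputable def actH (s d P : ℕ) : ℕ := Bool.rec P (PairOracle.act s d P) (okL s d)

/-- The system. -/
noncomputable def sysH : Sys where
  act := actH
  base := sys.base
  srt := sys.srt
  src := sys.src
  tgt := sys.tgt
  mask := sys.mask
  silent := sys.silent
  rty := sys.rty
  rsyl := sys.rsyl
  fact := sys.fact

theorem chk0 : chkItems sysH items0 = true := by decide +kernel
theorem chk1 : chkItems sysH items1 = true := by decide +kernel
theorem chk2 : chkItems sysH items2 = true := by decide +kernel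
theorem chk3 : chkItems sysH items3 = true := by decide +kernel
theorem chk4 : chkItems sysH items4 = true := by decide +kernel
theorem chk5 : chkItems sysH items5 = true := by decide +kernel
theorem chk6 : chkItems sysH items6 = true := by decide +kernel
theorem chk7 : chkItems sysH items7 = true := by decide +kernel
theorem chk8 : chkItems sysH items8 = true := by decide +kernel
theorem chk9 : chkItems sysH items9 = true := by decide +kernel
theorem chk10 : chkItems sysH items10 = true := by decide +kernel
theorem chk11 : chkItems sysH items11 = true := by decide +kernel
theorem chk12 : chkItems sysH items12 = true := by decide +kernel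
theorem chk13 : chkItems sysH items13 = true := by decide +kernel
theorem chk14 : chkItems sysH items14 = true := by decide +kernel
theorem chk15 : chkItems sysH items15 = true := by decide +kernel

/-- All items are accepted. -/
theorem chkAll : ∀ l ∈ ([items0, items1, items2, items3, items4, items5, items6, items7, items8, items9, items10,
    items11, items12, items13, items14, items15] : List (List Item)), chkItems sysH l = true := by
  intro l hl
  simp only [List.mem_cons, List.not_mem_nil, or_false] at hl
  rcases hl with rfl | rfl | rfl | rfl | rfl | rfl | rfl | rfl | rfl | rfl | rfl | rfl | rfl | rfl | rfl | rfl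
  · exact chk0
  · exact chk1
  · exact chk2
  · exact chk3
  · exact chk4
  · exact chk5
  · exact chk6
  · exact chk7
  · exact chk8
  · exact chk9
  · exact chk10
  · exact chk11
  · exact chk12
  · exact chk13
  · exact chk14
  · exact chk15

end Cfsg.Agent.BM.HBChk
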