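import Cfsg.Agent.BM.StageA

/-!
Stage A of S1704, assembly of the bipartite double coset enumeration (helper606).

`F` and `F₂` are abstract groups with homomorphisms `φ`, `φ₂` into `G`; the double cosets are those of
`H = K₀.map φ` with respect to `K₀.map φ` (nodes `w i`) and to `φ₂.range` (nodes `v j`).
-/

set_option autoImplicit false

namespace Cfsg.Agent.BM.StageABip

open Cfsg.Agent.BM.DCE

variable {F F₂ G : Type*} [Group F] [Group F₂] [Group G]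

/-- **Assembly**: coverings and index bounds in the abstract groups, facts in `G`. -/
theorem relIndex_le_of_bip {ι ι₂ : Type*} [Fintype ι₂] (φ : F →* G) (φ₂ : F₂ →* G) (K₀ O : Subgroup F)
    (O₂ : Subgroup F₂) (hO : O ≤ K₀) (hO' : ∀ y ∈ O, φ y ∈ φ₂.range) (hO₂ : ∀ y ∈ O₂, φ₂ y ∈ K₀.map φ)
    (w : ι → G) (v : ι₂ → G)
    (S : ι → Subgroup F)
    (hS : ∀ i, ∀ s ∈ S i, w i * φ s * (w i)⁻¹ ∈ K₀.map φ)
    (S₂ : ι₂ → Subgroup F₂) (hS₂ : ∀ j, ∀ s ∈ S₂ j, v j * φ₂ s * (v j)⁻¹ ∈ K₀.map φ)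
    (M : ι → Set F) (hM : ∀ i, ∀ m ∈ M i, m ∈ K₀)
    (edge : ∀ i, ∀ m ∈ M i, ∃ j, ∃ m' ∈ φ₂.range, SameC (K₀.map φ) (w i * φ m) (v j * m'))
    (M₂ : ι₂ → Set F₂)
    (edge₂ : ∀ j, ∀ m ∈ M₂ j, ∃ i, ∃ m' ∈ K₀.map φ, SameC (K₀.map φ) (w i * m') (v j * φ₂ m))
    (cov : ∀ i, ∀ k ∈ K₀, ∃ m ∈ M i, ∃ s ∈ S i, ∃ y ∈ O, k = s * m * y)
    (cov₂ : ∀ j, ∀ k : F₂, ∃ m ∈ M₂ j, ∃ s ∈ S₂ j, ∃ y ∈ O₂, k = s * m * y)
    (one : ∃ j, v j ∈ K₀.map φ) (T : Subgroup G) (hKT₂ : φ₂.range ≤ T)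
    (hT : T ≤ Subgroup.closure ((K₀.map φ : Set G) ∪ φ₂.range)) (hv : ∀ j, v j ∈ T)
    (n : ι₂ → ℕ) (hn : ∀ j, (S₂ j).index ≠ 0 ∧ (S₂ j).index ≤ n j) :
    (K₀.map φ).relIndex T ≠ 0 ∧ (K₀.map φ).relIndex T ≤ ∑ j, n j := by
  classical
  set H : Subgroup G := K₀.map φ with hHdef
  -- the double cosets `H v_j φ₂(F₂)` cover `T`
  have hcov : ∀ g ∈ Subgroup.closure ((φ₂.range : Set G) ∪ H), ∃ j, InDC H φ₂.range (v j) g := by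
    let E : Type _ := {q : (ι × G) × (ι₂ × G) //
      q.1.2 ∈ H ∧ q.2.2 ∈ φ₂.range ∧ SameC H (w q.1.1 * q.1.2) (v q.2.1 * q.2.2)}
    refine bip (E := E) H φ₂.range H (H ⊓ φ₂.range) inf_le_right inf_le_left v
      (fun j => (S₂ j).map φ₂) ?_ w (fun i => (S i).map φ) ?_ (fun e => e.1.2.1) (fun e => e.1.1.1)
      (fun e => e.1.2.2) (fun e => e.1.1.2) (fun e => e.2.2.1) (fun e => e.2.1) (fun e => e.2.2.2.symm)
      ?_ ?_ ?_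
    · rintro j _ ⟨s, hs, rfl⟩
      exact hS₂ j s hs
    · rintro i _ ⟨s, hs, rfl⟩
      exact hS i s hs
    · rintro j _ ⟨k, rfl⟩
      obtain ⟨m, hm, s, hs, y, hy, rfl⟩ := cov₂ j k
      obtain ⟨i, m', hm', hsame⟩ := edge₂ j m hm
      refine ⟨⟨((i, m'), (j, φ₂ m)), hm', ⟨m, rfl⟩, hsame⟩, rfl, φ₂ s, ⟨s, hs, rfl⟩, φ₂ y,
        ⟨hO₂ y hy, ⟨y, rfl⟩⟩, ?_⟩
      rw [map_mul, map_mul]
    · rintro i _ ⟨k, hk, rfl⟩
      obtain ⟨m, hm, s, hs, y, hy, rfl⟩ := cov i k hk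
      obtain ⟨j, m', hm', hsame⟩ := edge i m hm
      refine ⟨⟨((i, φ m), (j, m')), ⟨m, hM i m hm, rfl⟩, hm', hsame⟩, rfl, φ s, ⟨s, hs, rfl⟩, φ y,
        ⟨⟨y, hO hy, rfl⟩, hO' y hy⟩, ?_⟩
      rw [map_mul, map_mul]
    · obtain ⟨j, hj⟩ := one
      exact ⟨j, 1, one_mem _, by simpa using H.inv_mem hj⟩
  have h1 : ∀ j, ((S₂ j).map φ₂).relIndex φ₂.range ≠ 0 ∧ ((S₂ j).map φ₂).relIndex φ₂.range ≤ n j := by
    intro j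
    have h2 := Cfsg.Agent.BM.StageA.relIndex_map_range_le φ₂ (S₂ j) (hn j).1
    exact ⟨h2.1, h2.2.trans (hn j).2⟩
  have key := relIndex_le H φ₂.range T v (fun j => (S₂ j).map φ₂) hKT₂ hv (by
    rintro j _ ⟨s, hs, rfl⟩
    exact hS₂ j s hs) (fun g hg => hcov g (by rw [Set.union_comm]; exact hT hg)) (fun j => (h1 j).1)
  exact ⟨key.1, key.2.trans (Finset.sum_le_sum fun j _ => (h1 j).2)⟩

end Cfsg.Agent.BM.StageABip
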