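import Cfsg.Agent.BM.HBInst
import Cfsg.Agent.BM.CovA
import Cfsg.Agent.BM.CovB
import Cfsg.Agent.BM.StageABip
import Cfsg.Agent.S1066

/-!
The order of the group `HB` presented by the ten nodes of `Y₃₃₃` (with spider and all `E₇` relations) is at most
`|²E₆(2)| = 76532479683774853939200`; the same for every group generated by ten elements with `Lift.Good`.
-/

set_option autoImplicit false
set_option maxRecDepth 100000

namespace Cfsg.Agent.BM.HBFinal

open Cfsg.Spor Cfsg.Agent.BM Cfsg.Agent.BM.HBRel Cfsg.Agent.BM.HBInst Cfsg.Agent.BM.StageAData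
open Cfsg.Agent.TwoESix.Cox10 Cfsg.Agent.TwoESix.Lift Cfsg.Agent.TwoESix.Cover

variable {G : Type*} [Group G] {s : Fin 10 → G}

theorem card_Fi22 : Nat.card Spor.Fi22 = 64561751654400 := Cfsg.Agent.S1696.result.2

theorem finite_Fi22 : Finite Spor.Fi22 := Nat.finite_of_card_ne_zero (by rw [card_Fi22]; norm_num)

/-- `H = ⟨t2, …, t11⟩` -/
def H (s : Fin 10 → G) : Subgroup G := Subgroup.closure (Set.range s)

theorem s_mem (s : Fin 10 → G) (i : Fin 10) : s i ∈ H s := Subgroup.subset_closure ⟨i, rfl⟩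

theorem rhoA_range_le (h : Good s) : (rhoA h).range ≤ H s := by
  rw [MonoidHom.range_eq_map, ← PresentedGroup.closure_range_of, MonoidHom.map_closure, Subgroup.closure_le]
  rintro _ ⟨_, ⟨g, rfl⟩, rfl⟩
  show rhoA h (PresentedGroup.of g) ∈ H s
  rw [rhoA_of h g]
  exact s_mem s _

theorem rhoB_range_le (h : Good s) : (rhoB h).range ≤ H s := by
  rw [MonoidHom.range_eq_map, ← PresentedGroup.closure_range_of, MonoidHom.map_closure, Subgroup.closure_le]
  rintro _ ⟨_, ⟨g, rfl⟩, rfl⟩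
  show rhoB h (PresentedGroup.of g) ∈ H s
  rw [rhoB_of h g]
  exact s_mem s _

theorem X_le_H (h : Good s) : X h ≤ H s := by
  unfold X
  rw [range_theta h]
  exact rhoA_range_le h

theorem finite_X (h : Good s) : Finite (X h) := by
  unfold X
  rw [range_theta h]
  have := finite_Fi22
  exact Finite.of_surjective _ (rhoA h).rangeRestrict_surjective

theorem card_X_le (h : Good s) : Nat.card (X h) ≤ 64561751654400 := by
  unfold X
  rw [range_theta h, ← card_Fi22]
  have := finite_Fi22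
  exact Nat.card_le_card_of_surjective _ (rhoA h).rangeRestrict_surjective

theorem H_le (h : Good s) : H s ≤ Subgroup.closure ((X h : Set G) ∪ (rhoB h).range) := by
  unfold H
  rw [Subgroup.closure_le]
  have k1 : ∀ g : Fi22.Gen, s (iA g) ∈ Subgroup.closure ((X h : Set G) ∪ (rhoB h).range) := fun g =>
    Subgroup.subset_closure (Or.inl (by
      show s (iA g) ∈ X h
      unfold X
      rw [range_theta h]
      exact ⟨_, rhoA_of h g⟩))
  have k2 : ∀ g : Fi22.Gen, s (iB g) ∈ Subgroup.closure ((X h : Set G) ∪ (rhoB h).range) := fun g =>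
    Subgroup.subset_closure (Or.inr ⟨_, rhoB_of h g⟩)
  rintro _ ⟨i, rfl⟩
  fin_cases i
  · exact k1 .g
  · exact k1 .f
  · exact k1 .e
  · exact k1 .d
  · exact k1 .c
  · exact k1 .b
  · exact k1 .a
  · exact k1 .h
  · exact k1 .i
  · exact k2 .g

/-! ### Words -/

theorem e1_mem (h : Good s) (u : ℕ) : e1 h u ∈ (rhoB h).range := ⟨_, rfl⟩
theorem e1_mem_H (h : Good s) (u : ℕ) : e1 h u ∈ H s := rhoB_range_le h (e1_mem h u)
theorem e0_mem_H (h : Good s) (u : ℕ) : e0 h u ∈ H s := X_le_H h (e0_mem h u)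

/-- The value in `Fi23` of a word in the letters of `A`. -/
theorem coe_ev_ga {u : ℕ} (hu : Script.wordIn CovA.mA u = true) : ((Script.ev ga u : A) : Fi23) = CovA.E u := by
  have h1 := Script.map_ev (CovA.gp CovA.mA).subtype ga u
  have h2 := Script.ev_transport (f := fun d => (CovA.gp CovA.mA).subtype (ga d)) (f' := OracleFi23.fgen 0)
    (g := (1 : Fi23)) (m := CovA.mA) (fun d hd => by
      rw [mul_one, one_mul]; exact ga_coe hd) u hu
  rw [mul_one, one_mul] at h2
  show (CovA.gp CovA.mA).subtype (Script.ev ga u) = _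
  rw [h1, h2]
  rfl

/-- The letters of `aE` and of the stabilisers are those of `⟨t2, …, t10⟩`. -/
theorem aE_in : ∀ e : Fin 32, Script.wordIn CovA.mA (aE e) = true := by decide +kernel
theorem wsA_in : ∀ i : Fin 8, ∀ u ∈ wsA i, Script.wordIn CovA.mA u = true := by decide +kernel

/-! ### The nodes lie in `H` -/

theorem wn0_mem (h : Good s) : wn0 h ∈ H s := (H s).one_mem
theorem wn8_mem (h : Good s) : wn8 h ∈ H s := (H s).mul_mem (wn0_mem h) (e0_mem_H h _)
theorem wn1_mem (h : Good s) : wn1 h ∈ H s := (H s).mul_mem (wn8_mem h) (e1_mem_H h _)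
theorem wn2_mem (h : Good s) : wn2 h ∈ H s := (H s).mul_mem (wn8_mem h) (e1_mem_H h _)
theorem wn9_mem (h : Good s) : wn9 h ∈ H s := (H s).mul_mem (wn1_mem h) (e0_mem_H h _)
theorem wn10_mem (h : Good s) : wn10 h ∈ H s := (H s).mul_mem (wn2_mem h) (e0_mem_H h _)
theorem wn11_mem (h : Good s) : wn11 h ∈ H s := (H s).mul_mem (wn1_mem h) (e0_mem_H h _)
theorem wn3_mem (h : Good s) : wn3 h ∈ H s := (H s).mul_mem (wn10_mem h) (e1_mem_H h _)
theorem wn4_mem (h : Good s) : wn4 h ∈ H s := (H s).mul_mem (wn11_mem h) (e1_mem_H h _)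
theorem wn12_mem (h : Good s) : wn12 h ∈ H s := (H s).mul_mem (wn4_mem h) (e0_mem_H h _)
theorem wn13_mem (h : Good s) : wn13 h ∈ H s := (H s).mul_mem (wn3_mem h) (e0_mem_H h _)

theorem v_mem (h : Good s) (j : Fin 6) : w h (8 + j.val) ∈ H s := by
  fin_cases j
  · exact wn8_mem h
  · exact wn9_mem h
  · exact wn10_mem h
  · exact wn11_mem h
  · exact wn12_mem h
  · exact wn13_mem h

/-! ### The assembly -/

/-- Words stabilising a coset generate a subgroup stabilising it. -/
theorem clo_stab {K : Subgroup G} {Q : Type*} [Group Q] (φ : Q →* G) (c : G) {Z : Set Q}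
    (h : ∀ z ∈ Z, c * φ z * c⁻¹ ∈ K) : ∀ z ∈ Subgroup.closure Z, c * φ z * c⁻¹ ∈ K := by
  intro z hz
  have : Subgroup.closure Z ≤ (K.comap ((MulAut.conj c).toMonoidHom.comp φ)) := by
    rw [Subgroup.closure_le]
    intro y hy
    show c * φ y * c⁻¹ ∈ K
    exact h y hy
  exact this hz

/-- The stabiliser of a node of sort 0. -/
noncomputable def SA (i : Fin 8) : Subgroup A := Subgroup.closure {y | ∃ u ∈ wsA i, Script.ev ga u = y}

theorem map_SA (i : Fin 8) :
    (SA i).map (CovA.gp CovA.mA).subtype = Subgroup.closure {y | ∃ u ∈ wsA i, CovA.E u = y} := by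
  unfold SA
  rw [MonoidHom.map_closure]
  congr 1
  ext y
  constructor
  · rintro ⟨_, ⟨u, hu, rfl⟩, rfl⟩
    exact ⟨u, hu, (coe_ev_ga (wsA_in i u hu)).symm⟩
  · rintro ⟨u, hu, rfl⟩
    exact ⟨_, ⟨u, hu, rfl⟩, coe_ev_ga (wsA_in i u hu)⟩

/-- The common subgroup `⟨t3, …, t10⟩`. -/
noncomputable def OA : Subgroup A := (CovA.gp CovA.mO).subgroupOf (CovA.gp CovA.mA)

/-- The common subgroup, seen from `Fi23`, as a closure. -/
theorem OA_eq : OA = Subgroup.closure {y : A | ∃ d, CovA.mO.testBit d = true ∧ ga d = y} := by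
  apply Subgroup.map_injective (CovA.gp CovA.mA).subtype_injective
  unfold OA
  rw [Subgroup.subgroupOf_map_subtype, inf_eq_left.2 CovA.gpO_le, MonoidHom.map_closure]
  unfold CovA.gp
  congr 1
  ext y
  constructor
  · rintro ⟨d, hd, rfl⟩
    exact ⟨_, ⟨d, hd, rfl⟩, ga_coe (mO_mA hd)⟩
  · rintro ⟨_, ⟨d, hd, rfl⟩, rfl⟩
    exact ⟨d, hd, (ga_coe (mO_mA hd)).symm⟩

theorem theta_O_mem (h : Good s) : ∀ y ∈ OA, theta h y ∈ (rhoB h).range := by
  intro y hy
  have : OA ≤ ((rhoB h).range).comap (theta h) := by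
    rw [OA_eq, Subgroup.closure_le]
    rintro _ ⟨d, hd, rfl⟩
    show theta h (ga d) ∈ (rhoB h).range
    rw [theta_ga h (mO_mA hd), glue hd, ← rhoB_bgen h d]
    exact ⟨_, rfl⟩
  exact this hy

/-- The common subgroup `⟨t3, …, t10⟩`, seen from `Fi22`. -/
theorem rhoB_O_mem (h : Good s) : ∀ y ∈ CovB.gpB CovB.mO, rhoB h y ∈ (⊤ : Subgroup A).map (theta h) := by
  intro y hy
  have : CovB.gpB CovB.mO ≤ ((⊤ : Subgroup A).map (theta h)).comap (rhoB h) := by
    unfold CovB.gpB
    rw [Subgroup.closure_le]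
    rintro _ ⟨d, hd, rfl⟩
    show rhoB h (PairOracle.bgen d) ∈ (⊤ : Subgroup A).map (theta h)
    rw [rhoB_bgen, ← glue hd, ← theta_ga h (mO_mA hd)]
    exact ⟨_, Subgroup.mem_top _, rfl⟩
  exact this hy

theorem X_eq (h : Good s) : (⊤ : Subgroup A).map (theta h) = X h := (MonoidHom.range_eq_map _).symm

theorem covA' (i : Fin 8) (k : A) : ∃ e : Fin 32, srcE e = i ∧ ∃ a ∈ SA i, ∃ y ∈ OA,
    k = a * Script.ev ga (aE e) * y := by
  obtain ⟨e, he, a, ha, y, hy, h1⟩ := CovA.covA i k k.2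
  rw [← map_SA] at ha
  obtain ⟨a', ha', rfl⟩ := ha
  refine ⟨e, he, a', ha', ⟨y, CovA.gpO_le hy⟩, hy, ?_⟩
  apply Subtype.ext
  rw [h1]
  show _ = (a' : Fi23) * ((Script.ev ga (aE e) : A) : Fi23) * y
  rw [coe_ev_ga (aE_in e)]
  rfl

/-- The index of `X = ⟨t2, …, t10⟩` in `H = ⟨t2, …, t11⟩` is at most 1185415168. -/
theorem relIndex_le (h : Good s) : (X h).relIndex (H s) ≠ 0 ∧ (X h).relIndex (H s) ≤ 1185415168 := by
  have key := StageABip.relIndex_le_of_bip (ι := Fin 8) (ι₂ := Fin 6) (theta h) (rhoB h) (⊤ : Subgroup A)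
    OA (CovB.gpB CovB.mO) le_top (theta_O_mem h) (rhoB_O_mem h)
    (fun i => w h i.val) (fun j => w h (8 + j.val))
    SA (by
      intro i
      rw [X_eq h]
      refine clo_stab (theta h) _ ?_
      rintro _ ⟨u, hu, rfl⟩
      exact stabA h i u hu)
    (fun j => Subgroup.closure {y | ∃ u ∈ wsB j, CovB.EB u = y}) (by
      intro j
      rw [X_eq h]
      refine clo_stab (rhoB h) _ ?_
      rintro _ ⟨u, hu, rfl⟩
      exact stabB h j u hu)
    (fun i => {m | ∃ e : Fin 32, srcE e = i ∧ Script.ev ga (aE e) = m}) (by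
      rintro i _ ⟨e, rfl, rfl⟩
      exact Subgroup.mem_top _) (by
      rintro i _ ⟨e, rfl, rfl⟩
      rw [X_eq h]
      exact ⟨tgtE e, e1 h (bE e), e1_mem h _, same h e⟩)
    (fun j => {m | ∃ e : Fin 32, tgtE e = j ∧ CovB.EB (bE e) = m}) (by
      rintro j _ ⟨e, rfl, rfl⟩
      rw [X_eq h]
      exact ⟨srcE e, e0 h (aE e), e0_mem h _, same h e⟩)
    (by
      intro i k _
      obtain ⟨e, he, a, ha, y, hy, h1⟩ := covA' i k
      exact ⟨_, ⟨e, he, rfl⟩, a, ha, y, hy, h1⟩)
    (by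
      intro j k
      obtain ⟨e, he, a, ha, y, hy, h1⟩ := CovB.covB j k
      exact ⟨_, ⟨e, he, rfl⟩, a, ha, y, hy, h1⟩)
    ⟨0, by
      rw [X_eq h]
      show wn8 h ∈ X h
      unfold wn8 wn0
      rw [e0_zero, one_mul]
      exact (X h).one_mem⟩
    (H s) (rhoB_range_le h) (by rw [X_eq h]; exact H_le h) (v_mem h) CovB.idxB (CovB.indexB)
  rw [X_eq h, CovB.sum_idxB] at key
  exact key

/-- A group satisfying the relations is finite of order at most `|²E₆(2)|`. -/
theorem card_H_le (h : Good s) : Finite (H s) ∧ Nat.card (H s) ≤ 76532479683774853939200 := by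
  obtain ⟨h0, hn⟩ := relIndex_le h
  have key := StageA.card_le_of_relIndex (X h) (H s) (X_le_H h) (finite_X h) (card_X_le h) h0 hn
  exact ⟨key.1, key.2.trans (by norm_num)⟩

theorem card_le (h : Good s) (htop : Subgroup.closure (Set.range s) = ⊤) :
    Finite G ∧ Nat.card G ≤ 76532479683774853939200 := by
  obtain ⟨h1, h2⟩ := card_H_le h
  unfold H at h1 h2
  rw [htop] at h1 h2
  refine ⟨Finite.of_equiv _ Subgroup.topEquiv.toEquiv, ?_⟩
  rwa [Nat.card_congr (Subgroup.topEquiv (G := G)).toEquiv] at h2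

/-- The presented group is finite. -/
instance finite_HB : Finite HB := (card_le good_s0 closure_s0).1

/-- **The order of the presented group.** -/
theorem card_HB_le : Nat.card HB ≤ 76532479683774853939200 := (card_le good_s0 closure_s0).2

/-- `|²E₆(2)|` -/
theorem card_E (F : Type*) [Field F] [Fintype F] (hF : Fintype.card F = 4) :
    Nat.card (Cfsg.Lie.twistedE6 F 2) = 76532479683774853939200 := by
  have h := Cfsg.Agent.S1066.result (K := F) (q := 2) Nat.prime_two.isPrimePow (by rw [hF]; norm_num)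
  norm_num at h
  omega

/-- **`hcard`.** -/
theorem hcard (F : Type*) [Field F] [Fintype F] (hF : Fintype.card F = 4) :
    Nat.card HB ≤ Nat.card (Cfsg.Lie.twistedE6 F 2) := by
  rw [card_E F hF]; exact card_HB_le

end Cfsg.Agent.BM.HBFinal
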