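import Cfsg.Agent.BM.HBRel
import Cfsg.Agent.BM.HBChk
import Cfsg.Agent.BM.CertAData

/-!
The facts of the bipartite double coset enumeration of stage A of S1704 in every group with elements `t2, …, t11`
satisfying `Lift.Good`, for `X = ⟨t2, …, t10⟩`, `e0` = words in `t2, …, t10`, `e1` = words in `t3, …, t11`.
-/

set_option autoImplicit false
set_option maxRecDepth 100000

namespace Cfsg.Agent.BM.HBInst

open Cfsg.Spor Cfsg.Agent.BM.Script Cfsg.Agent.BM.PairOracle Cfsg.Agent.BM.HBRel Cfsg.Agent.BM.HBChk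
open Cfsg.Agent.BM.StageAData Cfsg.Agent.Lib.PermNet
open Cfsg.Agent.BM.CertA (sys gv)
open Cfsg.Agent.TwoESix.Cox10 Cfsg.Agent.TwoESix.Lift

variable {G : Type*} [Group G] {s : Fin 10 → G}

/-- Words in `t2, …, t10`. -/
noncomputable def e0 (h : Good s) (u : ℕ) : G := theta h (Script.ev ga u)

/-- Words in `t3, …, t11`. -/
noncomputable def e1 (h : Good s) (u : ℕ) : G := rhoB h (Script.ev bgen u)

/-- `X = ⟨t2, …, t10⟩` -/
noncomputable def X (h : Good s) : Subgroup G := (theta h).range

theorem e0_zero (h : Good s) : e0 h 0 = 1 := by unfold e0; rw [ev_zero, map_one]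
theorem e1_zero (h : Good s) : e1 h 0 = 1 := by unfold e1; rw [ev_zero, map_one]

/-- node 0 -/
noncomputable def wn0 (_ : Good s) : G := 1
/-- node 8 -/
noncomputable def wn8 (h : Good s) : G := wn0 h * e0 h 0
/-- node 1 -/
noncomputable def wn1 (h : Good s) : G := wn8 h * e1 h 0xb
/-- node 2 -/
noncomputable def wn2 (h : Good s) : G := wn8 h * e1 h 0xba95674563459ab
/-- node 9 -/
noncomputable def wn9 (h : Good s) : G := wn1 h * e0 h 0x23459a
/-- node 10 -/
noncomputable def wn10 (h : Good s) : G := wn2 h * e0 h 0x23459a65976543254965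
/-- node 11 -/
noncomputable def wn11 (h : Good s) : G := wn1 h * e0 h 0x234596543a9765487659a
/-- node 3 -/
noncomputable def wn3 (h : Good s) : G := wn10 h * e1 h 0xba95674563459ab59876543597654a95678
/-- node 4 -/
noncomputable def wn4 (h : Good s) : G := wn11 h * e1 h 0xba956459a763459876543
/-- node 5 -/
noncomputable def wn5 (h : Good s) : G := wn10 h * e1 h 0xba95674563459ab564598765439654a95678
/-- node 6 -/
noncomputable def wn6 (h : Good s) : G := wn9 h * e1 h 0xba95436597654a5965876
/-- node 12 -/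
noncomputable def wn12 (h : Good s) : G := wn4 h * e0 h 0x23459657a
/-- node 13 -/
noncomputable def wn13 (h : Good s) : G := wn3 h * e0 h 0x23
/-- node 7 -/
noncomputable def wn7 (h : Good s) : G := wn12 h * e1 h 0xb

/-- The nodes. -/
noncomputable def w (h : Good s) : ℕ → G
  | 0 => wn0 h
  | 1 => wn1 h
  | 2 => wn2 h
  | 3 => wn3 h
  | 4 => wn4 h
  | 5 => wn5 h
  | 6 => wn6 h
  | 7 => wn7 h
  | 8 => wn8 h
  | 9 => wn9 h
  | 10 => wn10 h
  | 11 => wn11 h
  | 12 => wn12 h
  | 13 => wn13 h
  | _ => 1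

/-! ### The oracle -/

/-- The group in which the words are compared. -/
abbrev P : Type := A × Fi22

/-- Letters. -/
noncomputable def hgen (s d : ℕ) : P := if s = 0 then (ga d, 1) else (1, bgen d)

/-- The embedding. -/
noncomputable def emb : P →* Fi23 × Fi22 := (CovA.gp CovA.mA).subtype.prodMap (MonoidHom.id Fi22)

theorem emb_injective : Function.Injective emb := by
  rintro ⟨a, b⟩ ⟨a', b'⟩ h
  have h1 : ((a : Fi23), b) = ((a' : Fi23), b') := h
  rw [Prod.mk.injEq] at h1
  exact Prod.ext (Subtype.ext h1.1) h1.2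

/-- Images. -/
noncomputable def himg (x : P) : ℕ := pimg (emb x)

theorem himg_injective : Function.Injective himg :=
  (pimg_injective Psi.card_Fi23.le).comp emb_injective

theorem himg_one : himg 1 = pbase := by
  unfold himg; rw [map_one, pimg_one]

theorem okL_zero (d : ℕ) : okL 0 d = CovA.mA.testBit d := by
  show tb (nat_lit 2044) d = _
  rw [tb_eq]; rfl

theorem okL_ne {s : ℕ} (hs : s ≠ 0) (d : ℕ) : okL s d = true := by
  unfold okL
  rw [show Nat.beq s 0 = false by
      rw [← Bool.not_eq_true]; exact fun h' => hs (Nat.eq_of_beq_eq_true h')]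

theorem actH_img (s d : ℕ) (x : P) : actH s d (himg x) = himg (x * hgen s d) := by
  unfold actH
  by_cases hs : s = 0
  · subst hs
    rw [okL_zero]
    cases hd : CovA.mA.testBit d with
    | false =>
      show himg x = _
      unfold hgen
      rw [if_pos rfl, ga_eq_one hd, ← Prod.one_eq_mk, mul_one]
    | true =>
      show PairOracle.act 0 d (himg x) = _
      unfold himg hgen
      rw [act_img, if_pos rfl, map_mul]
      congr 2
      unfold pgen
      rw [if_pos rfl]
      show _ = ((ga d : Fi23), (1 : Fi22))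
      rw [ga_coe hd]
  · rw [okL_ne hs]
    show PairOracle.act s d (himg x) = _
    unfold himg hgen
    rw [act_img, if_neg hs, map_mul]
    congr 2
    unfold pgen
    rw [if_neg hs]
    rfl

/-- The homomorphisms of the two sorts. -/
noncomputable def φ (h : Good s) (n : ℕ) : P →* G :=
  if n = 0 then (theta h).comp (MonoidHom.fst A Fi22) else (rhoB h).comp (MonoidHom.snd A Fi22)

theorem φ_0 (h : Good s) : φ h 0 = (theta h).comp (MonoidHom.fst A Fi22) := if_pos rfl

theorem φ_1 (h : Good s) : φ h 1 = (rhoB h).comp (MonoidHom.snd A Fi22) := if_neg (by norm_num)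

theorem hgen_0 (d : ℕ) : hgen 0 d = (ga d, 1) := if_pos rfl

theorem hgen_1 (d : ℕ) : hgen 1 d = (1, bgen d) := if_neg (by norm_num)

theorem φ_zero (h : Good s) (u : ℕ) : φ h 0 (Script.ev (hgen 0) u) = e0 h u := by
  unfold φ e0
  rw [if_pos rfl, MonoidHom.comp_apply]
  congr 1
  exact map_ev (MonoidHom.fst A Fi22) (hgen 0) u

theorem φ_one (h : Good s) (u : ℕ) : φ h 1 (Script.ev (hgen 1) u) = e1 h u := by
  unfold φ e1
  rw [if_neg (by norm_num), MonoidHom.comp_apply]
  congr 1
  exact map_ev (MonoidHom.snd A Fi22) (hgen 1) u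

theorem letter0 (h : Good s) {d : ℕ} (hd : CovA.mA.testBit d = true) : e0 h d = s (iA (la d)) := by
  obtain ⟨h2, h10⟩ := CovA.letters_mA hd
  unfold e0
  rw [Script.ev_letter _ d (by omega) (by omega), theta_ga h hd]

theorem rhoB_bgen (h : Good s) (d : ℕ) : rhoB h (bgen d) = s (iB (ltB d)) := rhoB_of h _

theorem letter1 (h : Good s) (d : ℕ) (h0 : d ≠ 0) (h1 : d < 16) : e1 h d = s (iB (ltB d)) := by
  unfold e1; rw [Script.ev_letter _ d h0 h1, rhoB_bgen]

theorem mO_mA {d : ℕ} (hd : (nat_lit 2040 : ℕ).testBit d = true) : CovA.mA.testBit d = true := by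
  have h1 : d < 11 := CovA.bits_lt (m := nat_lit 2040) (by decide +kernel) hd
  interval_cases d <;> first | exact absurd hd (by decide) | decide +kernel

theorem glue {d : ℕ} (hd : (nat_lit 2040 : ℕ).testBit d = true) : iA (la d) = iB (ltB d) := by
  have h1 : d < 11 := CovA.bits_lt (m := nat_lit 2040) (by decide +kernel) hd
  interval_cases d <;> first | exact absurd hd (by decide) | rfl

theorem φ_glue (h : Good s) (d : ℕ) (hd : (nat_lit 2040 : ℕ).testBit d = true) :
    φ h 0 (hgen 0 d) = φ h 1 (hgen 1 d) := by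
  rw [φ_0, φ_1, hgen_0, hgen_1, MonoidHom.comp_apply, MonoidHom.comp_apply]
  show theta h (ga d) = rhoB h (bgen d)
  rw [theta_ga h (mO_mA hd), rhoB_bgen, glue hd]

/-- The model. -/
noncomputable def model (h : Good s) : Model sysH P G where
  gen := hgen
  img := himg
  act_img := actH_img
  img_inj := himg_injective
  img_one := himg_one
  φ := φ h
  H := X h
  w := w h
  g _ := 1
  g_silent _ _ := rfl
  transport := by
    intro τ d hd
    rw [mul_one, one_mul]
    have hs : ∀ n : ℕ, Nat.beq (Nat.land n 1) 1 = false ∨ Nat.beq (Nat.land n 1) 1 = true := fun n => by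
      cases Nat.beq (Nat.land n 1) 1 <;> simp
    cases h1 : Nat.ble τ 1 with
    | true =>
      have : τ = 0 ∨ τ = 1 := by have := Nat.le_of_ble_eq_true h1; omega
      rcases this with rfl | rfl <;> rfl
    | false =>
      have hm : sysH.mask τ = nat_lit 2040 := by
        show (Bool.rec 0x7f8 _ (Nat.ble τ 1) : ℕ) = _
        rw [h1]
      rw [hm] at hd
      have ht : sysH.tgt τ = (Bool.rec 1 0 (Nat.beq τ 3) : ℕ) := by
        show (Bool.rec (Bool.rec 1 0 (Nat.beq τ 3)) τ (Nat.ble τ 1) : ℕ) = _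
        rw [h1]
      have hsr : sysH.src τ = (Bool.rec 0 1 (Nat.beq (Nat.land τ 1) 1) : ℕ) := rfl
      rw [ht, hsr]
      rcases hs τ with h2 | h2
      · rw [h2]
        cases h3 : Nat.beq τ 3 with
        | true => rfl
        | false => exact φ_glue h d hd
      · rw [h2]
        cases h3 : Nat.beq τ 3 with
        | true => exact (φ_glue h d hd).symm
        | false => rfl

theorem holds_iff (h : Good s) (τ i a j b : ℕ) : (model h).Holds ⟨τ, i, a, j, b⟩ ↔
    (model h).R (w h i * φ h (sys.src τ) (Script.ev (hgen (sys.src τ)) a) * 1)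
      (w h j * φ h (sys.tgt τ) (Script.ev (hgen (sys.tgt τ)) b)) := Iff.rfl

theorem src0 : sys.src 0 = 0 := rfl
theorem src1 : sys.src 1 = 1 := rfl
theorem src2 : sys.src 2 = 0 := rfl
theorem src3 : sys.src 3 = 1 := rfl
theorem tgt0 : sys.tgt 0 = 0 := rfl
theorem tgt1 : sys.tgt 1 = 1 := rfl
theorem tgt2 : sys.tgt 2 = 1 := rfl
theorem tgt3 : sys.tgt 3 = 0 := rfl

/-- The given facts of type 2. -/
theorem given2 (h : Good s) {n i j a b : ℕ} (hf : sys.fact n = ⟨2, i, a, j, b⟩)
    (hw : w h i * e0 h a = w h j * e1 h b) : (model h).Holds (sysH.fact n) := by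
  change (model h).Holds (sys.fact n)
  rw [hf, holds_iff, src2, tgt2, φ_zero, φ_one, mul_one, hw]
  exact Model.R_refl _ _

theorem e0_mem (h : Good s) (u : ℕ) : e0 h u ∈ X h := ⟨_, rfl⟩

/-- The given facts of type 0. -/
theorem given0 (h : Good s) {n a : ℕ} (hf : sys.fact n = ⟨0, 0, a, 0, 0⟩) : (model h).Holds (sysH.fact n) := by
  change (model h).Holds (sys.fact n)
  rw [hf, holds_iff, src0, tgt0, φ_zero, φ_zero, mul_one]
  unfold Model.R
  rw [e0_zero]
  show wn0 h * e0 h a * (wn0 h * 1)⁻¹ ∈ X h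
  unfold wn0
  rw [one_mul, one_mul, inv_one, mul_one]
  exact e0_mem h a

theorem given (h : Good s) : ∀ n ∈ gv, (model h).Holds (sysH.fact n) := by
  intro n hn
  simp only [gv, List.mem_cons, List.not_mem_nil, or_false] at hn
  rcases hn with rfl | rfl | rfl | rfl | rfl | rfl | rfl | rfl | rfl | rfl | rfl | rfl | rfl | rfl | rfl | rfl | rfl | rfl | rfl | rfl | rfl | rfl
  · refine given2 h CertA.fact_0 ?_
    rw [e1_zero, mul_one]; rfl
  · exact given0 h CertA.fact_1
  · exact given0 h CertA.fact_4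
  · exact given0 h CertA.fact_7
  · exact given0 h CertA.fact_8
  · exact given0 h CertA.fact_11
  · exact given0 h CertA.fact_12
  · exact given0 h CertA.fact_15
  · exact given0 h CertA.fact_16
  · exact given0 h CertA.fact_19
  · refine given2 h CertA.fact_26 ?_
    rw [e0_zero, mul_one]; rfl
  · refine given2 h CertA.fact_44 ?_
    rw [e0_zero, mul_one]; rfl
  · refine given2 h CertA.fact_68 ?_
    rw [e1_zero, mul_one]; rfl
  · refine given2 h CertA.fact_100 ?_
    rw [e1_zero, mul_one]; rfl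
  · refine given2 h CertA.fact_115 ?_
    rw [e0_zero, mul_one]; rfl
  · refine given2 h CertA.fact_132 ?_
    rw [e1_zero, mul_one]; rfl
  · refine given2 h CertA.fact_155 ?_
    rw [e0_zero, mul_one]; rfl
  · refine given2 h CertA.fact_183 ?_
    rw [e1_zero, mul_one]; rfl
  · refine given2 h CertA.fact_201 ?_
    rw [e0_zero, mul_one]; rfl
  · refine given2 h CertA.fact_209 ?_
    rw [e0_zero, mul_one]; rfl
  · refine given2 h CertA.fact_248 ?_
    rw [e1_zero, mul_one]; rfl
  · refine given2 h CertA.fact_269 ?_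
    rw [e0_zero, mul_one]; rfl

theorem rules (h : Good s) (r : ℕ) : (model h).syls (sysH.rsyl r) = (model h).g (sysH.rty r) := by
  have hc : s 0 * s 9 = s 9 * s 0 := comm_of h.lift (by decide)
  have h2 : s 0 * s 0 = 1 := sq h.lift 0
  have h11 : s 9 * s 9 = 1 := sq h.lift 9
  have k0 : (model h).syl (.K 0 0x2) = s 0 := by
    show φ h 0 (Script.ev (hgen 0) 0x2) = _
    rw [φ_zero, letter0 h (by decide +kernel)]; rfl
  have k1 : (model h).syl (.K 1 0xb) = s 9 := by
    show φ h 1 (Script.ev (hgen 1) 0xb) = _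
    rw [φ_one, letter1 h _ (by norm_num) (by norm_num)]; rfl
  have hA : (model h).syls [.K 1 0xb, .K 0 0x2, .K 1 0xb, .K 0 0x2] = 1 := by
    simp only [Model.syls_cons, Model.syls_nil, k0, k1, mul_one]
    rw [← mul_assoc (s 0) (s 9), hc, mul_assoc (s 9) (s 0), h2, mul_one, h11]
  have hB : (model h).syls [.K 0 0x2, .K 1 0xb, .K 0 0x2, .K 1 0xb] = 1 := by
    simp only [Model.syls_cons, Model.syls_nil, k0, k1, mul_one]
    rw [← mul_assoc (s 9) (s 0), ← hc, mul_assoc (s 0) (s 9), h11, mul_one, h2]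
  show (model h).syls (Bool.rec (Bool.rec [.K 1 0xb, .K 0 0x2, .K 1 0xb, .K 0 0x2]
    [.K 0 0x2, .K 1 0xb, .K 0 0x2, .K 1 0xb] (Nat.ble (Nat.land (Nat.sub r 1) 3) 1)) [] (Nat.ble r 3)) = 1
  cases Nat.ble r 3 with
  | true => exact Model.syls_nil _
  | false =>
    cases Nat.ble (Nat.land (Nat.sub r 1) 3) 1 with
    | true => exact hB
    | false => exact hA

/-- All facts of stage A. -/
theorem holds (h : Good s) : ∀ n < 298, (model h).Holds (sysH.fact n) :=
  (model h).all_hold_of_items 298 gv CertA.allItems chkAll CertA.comp (given h) (rules h)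

/-- An edge. -/
theorem edge2 (h : Good s) {n i a j b : ℕ} (hn : n < 298) (hf : sys.fact n = ⟨2, i, a, j, b⟩) :
    DCE.SameC (X h) (w h i * e0 h a) (w h j * e1 h b) := by
  have : (model h).Holds (sys.fact n) := holds h n hn
  rw [hf, holds_iff, src2, tgt2, φ_zero, φ_one, mul_one] at this
  exact this

/-- An edge, written from the other side. -/
theorem edge3 (h : Good s) {n i a j b : ℕ} (hn : n < 298) (hf : sys.fact n = ⟨3, j, b, i, a⟩) :
    DCE.SameC (X h) (w h i * e0 h a) (w h j * e1 h b) := by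
  have : (model h).Holds (sys.fact n) := holds h n hn
  rw [hf, holds_iff, src3, tgt3, φ_zero, φ_one, mul_one] at this
  exact DCE.SameC.symm this

/-- A stabiliser element of a node of sort 0. -/
theorem stab0 (h : Good s) {n i a : ℕ} (hn : n < 298) (hf : sys.fact n = ⟨0, i, a, i, 0⟩) :
    w h i * e0 h a * (w h i)⁻¹ ∈ X h := by
  have : (model h).Holds (sys.fact n) := holds h n hn
  rw [hf, holds_iff, src0, tgt0, φ_zero, φ_zero, mul_one, e0_zero, mul_one] at this
  exact this

/-- A stabiliser element of a node of sort 1. -/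
theorem stab1 (h : Good s) {n i a : ℕ} (hn : n < 298) (hf : sys.fact n = ⟨1, i, a, i, 0⟩) :
    w h i * e1 h a * (w h i)⁻¹ ∈ X h := by
  have : (model h).Holds (sys.fact n) := holds h n hn
  rw [hf, holds_iff, src1, tgt1, φ_one, φ_one, mul_one, e1_zero, mul_one] at this
  exact this

open Cfsg.Agent.BM.CertA (factB factB_spec chk_edges chk_stabA chk_stabB len_A len_B mem_zip_right)

/-- The edges. -/
theorem same (h : Good s) (e : Fin 32) :
    DCE.SameC (X h) (w h (srcE e).val * e0 h (aE e)) (w h (8 + (tgtE e).val) * e1 h (bE e)) := by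
  have h1 := chk_edges e
  rw [Bool.and_eq_true, Bool.or_eq_true] at h1
  rcases h1.2 with h2 | h2
  · exact edge2 h (Nat.le_of_ble_eq_true h1.1) (factB_spec h2)
  · exact edge3 h (Nat.le_of_ble_eq_true h1.1) (factB_spec h2)

/-- The stabilisers of the nodes of sort 0. -/
theorem stabA (h : Good s) (i : Fin 8) : ∀ u ∈ wsA i, w h i.val * e0 h u * (w h i.val)⁻¹ ∈ X h := by
  intro u hu
  obtain ⟨n, hn⟩ := mem_zip_right (len_A i) hu
  have h1 := List.all_eq_true.1 (chk_stabA i) _ hn
  rw [Bool.and_eq_true] at h1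
  exact stab0 h (Nat.le_of_ble_eq_true h1.1) (factB_spec h1.2)

/-- The stabilisers of the nodes of sort 1. -/
theorem stabB (h : Good s) (j : Fin 6) :
    ∀ u ∈ wsB j, w h (8 + j.val) * e1 h u * (w h (8 + j.val))⁻¹ ∈ X h := by
  intro u hu
  obtain ⟨n, hn⟩ := mem_zip_right (len_B j) hu
  have h1 := List.all_eq_true.1 (chk_stabB j) _ hn
  rw [Bool.and_eq_true] at h1
  exact stab1 h (Nat.le_of_ble_eq_true h1.1) (factB_spec h1.2)

end Cfsg.Agent.BM.HBInst
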