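import Cfsg.Agent.BM.Psi
import Cfsg.Agent.BM.CovALib
import Cfsg.Agent.Fischer.Fi23Double
import Cfsg.Agent.S1696
import Cfsg.Agent.TwoESix.Cover

/-!
# Maps from the presented Fischer groups into a group generated by the ten nodes of `Y₃₃₃`

Let `s 0, …, s 9` (printed `t2, …, t11`) satisfy `Lift.Good s` (Coxeter relations of `Y₃₃₃`, spider relation, ninth
powers of the `E₇` words trivial). Then

* `rhoB h : Spor.Fi22 →* G`, `a b c d e f g h i ↦ t8 t7 t6 t5 t9 t10 t11 t4 t3`,
* `rhoA h : Spor.Fi22 →* G`, `a b c d e f g h i ↦ t8 t7 t6 t5 t4 t3 t2 t9 t10`,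
* `theta h : ⟨t2, …, t10⟩ ≤ Spor.Fi23 →* G`, the composition of the quotient map onto `Fi22` with `rhoA h`.
-/

set_option autoImplicit false
set_option maxRecDepth 100000
set_option linter.constructorNameAsVariable false

namespace Cfsg.Agent.BM.HBRel

open Cfsg.Spor Cfsg.Agent.TwoESix.Cox10 Cfsg.Agent.TwoESix.Lift
open Cfsg.Agent.Lib.PermNetOrbit (cox_lift_eq_one)

/-! ### The two maps from `Fi22` -/

/-- `a b c d e f g h i ↦ t8 t7 t6 t5 t9 t10 t11 t4 t3` -/
def iB : Fi22.Gen → Fin 10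
  | .a => 6
  | .b => 5
  | .c => 4
  | .d => 3
  | .e => 7
  | .f => 8
  | .g => 9
  | .h => 2
  | .i => 1

/-- `a b c d e f g h i ↦ t8 t7 t6 t5 t4 t3 t2 t9 t10` -/
def iA : Fi22.Gen → Fin 10
  | .a => 6
  | .b => 5
  | .c => 4
  | .d => 3
  | .e => 2
  | .f => 1
  | .g => 0
  | .h => 7
  | .i => 8

theorem lab_iA : ∀ a b : Fi22.Gen, coxLabel Fi22.edges a b = lab (iA a) (iA b) := by
  intro a b
  cases a <;> cases b <;> decide

theorem lab_iB : ∀ a b : Fi22.Gen, coxLabel Fi22.edges a b = lab (iB a) (iB b) := by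
  intro a b
  cases a <;> cases b <;> decide

variable {G : Type*} [Group G] {s : Fin 10 → G}

theorem rels_of (hs : M10.IsLiftable s) (m : Fi22.Gen → Fin 10)
    (hm : ∀ a b : Fi22.Gen, coxLabel Fi22.edges a b = lab (m a) (m b))
    (h1 : ev s [m .d, m .c, m .b, m .d, m .e, m .f, m .d, m .h, m .i] ^ 10 = 1)
    (h2 : ev s [m .a, m .b, m .c, m .d, m .e, m .f, m .h] ^ 9 = 1)
    (h3 : ev s [m .b, m .c, m .d, m .e, m .f, m .g, m .h] ^ 9 = 1) :
    ∀ r ∈ coxRelators Fi22.edges ∪ {r | r ∈ Fi22.extra}, FreeGroup.lift (fun g => s (m g)) r = 1 := by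
  refine cox_lift_eq_one _ _ _ (fun a _ b _ => ?_) ?_
  · rw [hm a b]
    exact hs (m a) (m b)
  · intro r hr
    simp only [Fi22.extra, List.mem_cons, List.not_mem_nil, or_false] at hr
    rcases hr with rfl | rfl | rfl
    · simp only [map_pow, map_mul, FreeGroup.lift_apply_of]
      simpa only [ev_cons, ev_nil, mul_one, mul_assoc] using h1
    · simp only [map_pow, map_mul, FreeGroup.lift_apply_of]
      simpa only [ev_cons, ev_nil, mul_one, mul_assoc] using h2
    · simp only [map_pow, map_mul, FreeGroup.lift_apply_of]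
      simpa only [ev_cons, ev_nil, mul_one, mul_assoc] using h3

theorem chkB2 : chk (rep 9 [6, 5, 4, 3, 7, 8, 2]) (rep 9 W132) = true := by decide +kernel
theorem chkB3 : chk (rep 9 [5, 4, 3, 7, 8, 9, 2]) (rep 9 W123) = true := by decide +kernel
theorem chkA2 : chk (rep 9 [6, 5, 4, 3, 2, 1, 7]) (rep 9 W231) = true := by decide +kernel
theorem chkA3 : chk (rep 9 [5, 4, 3, 2, 1, 0, 7]) (rep 9 W321) = true := by decide +kernel

theorem relsB (h : Good s) : ∀ r ∈ coxRelators Fi22.edges ∪ {r | r ∈ Fi22.extra},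
    FreeGroup.lift (fun g => s (iB g)) r = 1 := by
  refine rels_of h.lift iB lab_iB ?_ ?_ ?_
  · have h1 : (ev s [3, 2, 1] * ev s [3, 4, 5, 3, 7, 8]) ^ 10 = 1 := by
      rw [← ev_append]; exact h.spider
    have h2 := Cfsg.Agent.BM.Psi.pow_rot h1
    rw [← ev_append] at h2
    exact h2
  · show ev s [6, 5, 4, 3, 7, 8, 2] ^ 9 = 1
    rw [pow9_eq h.lift chkB2, W231_eq h.lift h.spider]
    exact h.e231
  · show ev s [5, 4, 3, 7, 8, 9, 2] ^ 9 = 1
    rw [pow9_eq h.lift chkB3, W213_eq h.lift h.spider]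
    exact h.e213

theorem relsA (h : Good s) : ∀ r ∈ coxRelators Fi22.edges ∪ {r | r ∈ Fi22.extra},
    FreeGroup.lift (fun g => s (iA g)) r = 1 := by
  refine rels_of h.lift iA lab_iA ?_ ?_ ?_
  · exact spiderAB_one h.lift h.spider
  · show ev s [6, 5, 4, 3, 2, 1, 7] ^ 9 = 1
    rw [pow9_eq h.lift chkA2]
    exact h.e231
  · show ev s [5, 4, 3, 2, 1, 0, 7] ^ 9 = 1
    rw [pow9_eq h.lift chkA3]
    exact h.e321

/-- The homomorphism onto `⟨t3, …, t11⟩`. -/
noncomputable def rhoB (h : Good s) : Spor.Fi22 →* G := PresentedGroup.toGroup (f := fun g => s (iB g)) (relsB h)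

theorem rhoB_of (h : Good s) (g : Fi22.Gen) : rhoB h (PresentedGroup.of g : Spor.Fi22) = s (iB g) :=
  PresentedGroup.toGroup.of (relsB h)

/-- The homomorphism onto `⟨t2, …, t10⟩`. -/
noncomputable def rhoA (h : Good s) : Spor.Fi22 →* G := PresentedGroup.toGroup (f := fun g => s (iA g)) (relsA h)

theorem rhoA_of (h : Good s) (g : Fi22.Gen) : rhoA h (PresentedGroup.of g : Spor.Fi22) = s (iA g) :=
  PresentedGroup.toGroup.of (relsA h)

/-! ### The map from `⟨t2, …, t10⟩ ≤ Fi23` onto `Fi22` -/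

open Cfsg.Agent.Fischer Cfsg.Agent.Fischer.DoubleFi22 Cfsg.Agent.Fischer.Fi23Double

/-- The kernel. -/
noncomputable def N : Subgroup K := Subgroup.zpowers (z Fi23Double.x)

theorem N_le_center : N ≤ Subgroup.center K := by
  unfold N
  rw [Subgroup.zpowers_le]
  exact z_mem_center Fi23Double.hyp

instance normal_N : N.Normal := ⟨by
  intro n hn g
  rw [Subgroup.mem_center_iff.1 (N_le_center hn) g, mul_inv_cancel_right]
  exact hn⟩

theorem N_ne_top : N ≠ ⊤ := by
  intro h
  apply center_ne_top Fi23Double.hyp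
  rw [eq_top_iff, ← h]
  exact N_le_center

/-- The isomorphism of `Fi22` with `K/⟨z⟩`. -/
noncomputable def thetaE : Spor.Fi22 ≃* K ⧸ N :=
  thetaEquiv N Fi23Double.hyp (Subgroup.mem_zpowers _) Cfsg.Agent.S1696.result.1 N_ne_top

theorem thetaE_of (p : Fi22.Gen) : thetaE (PresentedGroup.of p) = QuotientGroup.mk' N (Fi23Double.x p) :=
  theta_of N Fi23Double.hyp (Subgroup.mem_zpowers _) p

/-- The homomorphism of `K` onto `Fi22`. -/
noncomputable def pi : K →* Spor.Fi22 := thetaE.symm.toMonoidHom.comp (QuotientGroup.mk' N)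

theorem pi_x (p : Fi22.Gen) : pi (Fi23Double.x p) = PresentedGroup.of p := by
  show thetaE.symm (QuotientGroup.mk' N (Fi23Double.x p)) = _
  rw [← thetaE_of, MulEquiv.symm_apply_apply]

open Cfsg.Agent.BM.CovA (gp mA mO letters_mA)

theorem gen_mem_K {d : ℕ} (hd : CovA.mA.testBit d = true) : OracleFi23.fgen 0 d ∈ K := by
  have key : ∀ p : Fi22.Gen, Fi23Hom.gen (emb p) ∈ K := fun p => (Fi23Double.x p).2
  obtain ⟨h2, h10⟩ := letters_mA hd
  unfold OracleFi23.fgen
  interval_cases d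
  · rw [CovA.lt_2]; exact key .g
  · rw [CovA.lt_3]; exact key .f
  · rw [CovA.lt_4]; exact key .e
  · rw [CovA.lt_5]; exact key .d
  · rw [CovA.lt_6]; exact key .c
  · rw [CovA.lt_7]; exact key .b
  · rw [CovA.lt_8]; exact key .a
  · rw [CovA.lt_9]; exact key .h
  · rw [CovA.lt_10]; exact key .i

theorem gpA_le_K : gp CovA.mA ≤ K := by
  unfold CovA.gp
  rw [Subgroup.closure_le]
  rintro _ ⟨d, hd, rfl⟩
  exact gen_mem_K hd

/-- `⟨t2, …, t10⟩` as a group. -/
abbrev A : Type := ↥(gp CovA.mA)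

/-- The homomorphism onto `Fi22`. -/
noncomputable def tau : A →* Spor.Fi22 := pi.comp (Subgroup.inclusion gpA_le_K)

/-- The element of `A` of a letter (trivial if the letter is not one of `2, …, a`). -/
noncomputable def ga (d : ℕ) : A := if hd : CovA.mA.testBit d = true then ⟨OracleFi23.fgen 0 d, CovA.mem_gp hd⟩ else 1

theorem ga_coe {d : ℕ} (hd : CovA.mA.testBit d = true) : (ga d : Fi23) = OracleFi23.fgen 0 d := by
  unfold ga
  rw [dif_pos hd]

theorem ga_eq_one {d : ℕ} (hd : CovA.mA.testBit d = false) : ga d = 1 := by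
  unfold ga
  rw [dif_neg (by rw [hd]; simp)]

/-- The letter of `Fi22` of a letter of `A`. -/
noncomputable def la (d : ℕ) : Fi22.Gen :=
  if d = 2 then .g else if d = 3 then .f else if d = 4 then .e else if d = 5 then .d else if d = 6 then .c
  else if d = 7 then .b else if d = 8 then .a else if d = 9 then .h else .i

theorem emb_la {d : ℕ} (hd : CovA.mA.testBit d = true) : emb (la d) = OracleFi23.lt 0 d := by
  obtain ⟨h2, h10⟩ := letters_mA hd
  interval_cases d
  · rw [CovA.lt_2]; rfl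
  · rw [CovA.lt_3]; rfl
  · rw [CovA.lt_4]; rfl
  · rw [CovA.lt_5]; rfl
  · rw [CovA.lt_6]; rfl
  · rw [CovA.lt_7]; rfl
  · rw [CovA.lt_8]; rfl
  · rw [CovA.lt_9]; rfl
  · rw [CovA.lt_10]; rfl

theorem tau_ga {d : ℕ} (hd : CovA.mA.testBit d = true) : tau (ga d) = PresentedGroup.of (la d) := by
  unfold tau
  rw [MonoidHom.comp_apply, ← pi_x]
  congr 1
  apply Subtype.ext
  show (ga d : Fi23) = _
  rw [ga_coe hd]
  show Fi23Hom.gen (OracleFi23.lt 0 d) = _
  rw [← emb_la hd]
  rfl

/-- The homomorphism of `A` into `G`. -/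
noncomputable def theta (h : Good s) : A →* G := (rhoA h).comp tau

/-- The index of the node of a letter `d = 2, …, a`. -/
theorem theta_ga (h : Good s) {d : ℕ} (hd : CovA.mA.testBit d = true) : theta h (ga d) = s (iA (la d)) := by
  unfold theta
  rw [MonoidHom.comp_apply, tau_ga hd, rhoA_of]

theorem tau_surjective : Function.Surjective tau := by
  rw [← MonoidHom.range_eq_top, eq_top_iff, ← PresentedGroup.closure_range_of, Subgroup.closure_le]
  rintro _ ⟨p, rfl⟩
  have key : ∀ d, CovA.mA.testBit d = true → la d = p → PresentedGroup.of p ∈ (tau.range : Set Spor.Fi22) := by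
    intro d hd hp
    exact ⟨ga d, by rw [tau_ga hd, hp]⟩
  cases p
  · exact key 8 (by decide +kernel) rfl
  · exact key 7 (by decide +kernel) rfl
  · exact key 6 (by decide +kernel) rfl
  · exact key 5 (by decide +kernel) rfl
  · exact key 4 (by decide +kernel) rfl
  · exact key 3 (by decide +kernel) rfl
  · exact key 2 (by decide +kernel) rfl
  · exact key 9 (by decide +kernel) rfl
  · exact key 10 (by decide +kernel) rfl

theorem range_theta (h : Good s) : (theta h).range = (rhoA h).range := by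
  unfold theta
  rw [MonoidHom.range_comp, MonoidHom.range_eq_top.2 tau_surjective, ← MonoidHom.range_eq_map]

end Cfsg.Agent.BM.HBRel
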