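import Cfsg.Agent.BM.Psi
import Cfsg.Agent.BM.OracleFi23
import Cfsg.Agent.Fischer.Fi23Z
import Cfsg.Agent.BM.CoverPts

/-!
Facts on the presented group `Fi23` used for the coverings `Fi23 = ⋃ S κ_e J`, `J = ⟨all generators but a⟩`:
the stabiliser of the point `11589` of the degree 31671 representation centralises the generator `a`.
-/

set_option autoImplicit false
set_option linter.constructorNameAsVariable false
set_option maxRecDepth 100000

namespace Cfsg.Agent.BM.JBase

open Cfsg.Agent.Lib.PermNet Cfsg.Agent.Lib.PermNetOrbit Cfsg.Agent.Fischer.Fi23Nets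
  Cfsg.Agent.Fischer.Fi23Rel Cfsg.Agent.Fischer.Fi23Hom Cfsg.Agent.Fischer.Fi23Orb
  Cfsg.Agent.Fischer.Fi23Z Cfsg.Agent.Fischer.Fi23Final
open Cfsg.Spor Cfsg.Spor.Fi23

theorem index_H : Cfsg.Agent.Fischer.Fi23Orb.H.index = 31671 := by
  rw [Cfsg.Agent.S1697.H_eq']; exact Cfsg.Agent.SporRec.Fi23Index.index_H

/-- The stabiliser of the point `0` centralises `z0`. -/
theorem comm_zero (x : Fi23) (hx : rho x 0 = 0) : x * z0 = z0 * x := by
  obtain ⟨_, hst, _, _⟩ := index_and_suborbits (by rw [index_H]) (by rw [index_H]; decide)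
  exact h_comm Psi.card_Fi23.le x ((hst x).1 hx)

/-- A word with `u 0 = 11589` and `u z0 u⁻¹ = a`. -/
def uw : List Gen := [.b, .c, .d, .h, .e, .d, .c, .f, .e, .d, .h, .g, .f, .e, .d, .c, .j, .g, .f, .e, .d, .h, .a, .b, .c, .d, .e, .f, .g, .j]

theorem u_pt : Nat.beq (ptWord (uw.map net) 0) 11589 = true := by decide +kernel

theorem u_conj : Psi.eqB (uw ++ z63) (.a :: uw) = true := by decide +kernel

theorem u_zero : rho (word uw) 0 = 11589 := by
  rw [rho_word uw, ← ptWord_eq (wok uw)]
  exact Nat.eq_of_beq_eq_true u_pt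

theorem u_eq : word uw * z0 = gen .a * word uw := by
  have h := Psi.word_eq_of_eqB u_conj
  rw [Psi.word_append, Psi.word_cons] at h
  exact h

/-- The stabiliser of the point `11589` centralises the generator `a`. -/
theorem comm_a (x : Fi23) (hx : rho x 11589 = 11589) : x * gen .a = gen .a * x := by
  generalize hu : word uw = u
  have hz : rho u 0 = 11589 := by rw [← hu]; exact u_zero
  have he : u * z0 = gen .a * u := by rw [← hu]; exact u_eq
  have h0 : rho (u⁻¹ * x * u) 0 = 0 := by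
    rw [map_mul, map_mul, map_inv, Equiv.Perm.mul_apply, Equiv.Perm.mul_apply, hz, hx,
      Equiv.Perm.inv_eq_iff_eq, hz]
  have h1 := comm_zero _ h0
  have h2 : gen .a = u * z0 * u⁻¹ := by rw [he]; group
  rw [h2]
  calc x * (u * z0 * u⁻¹) = u * (u⁻¹ * x * u * z0) * u⁻¹ := by group
    _ = u * (z0 * (u⁻¹ * x * u)) * u⁻¹ := by rw [h1]
    _ = u * z0 * u⁻¹ * x := by group

/-- The generators other than `a`. -/
def noA : List Gen := [.j, .g, .f, .e, .d, .c, .b, .h, .i]

/-- The subgroup `J = ⟨all generators but a⟩`. -/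
def J : Subgroup Fi23 := Subgroup.closure {g | ∃ x ∈ noA, gen x = g}

theorem gen_mem_J {x : Gen} (hx : x ≠ .a) : gen x ∈ J :=
  Subgroup.subset_closure ⟨x, by cases x <;> first | exact absurd rfl hx | decide, rfl⟩

theorem closure_J_a : Subgroup.closure ((J : Set Fi23) ∪ {gen .a}) = ⊤ := by
  rw [eq_top_iff, ← gens_top, Subgroup.closure_le]
  rintro _ ⟨x, rfl⟩
  by_cases hx : x = .a
  · subst hx
    exact Subgroup.subset_closure (Or.inr rfl)
  · exact Subgroup.subset_closure (Or.inl (gen_mem_J hx))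

end Cfsg.Agent.BM.JBase
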