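import Cfsg.Agent.BM.CertAData
import Cfsg.Agent.BM.CovA
import Cfsg.Agent.BM.CovB
import Cfsg.Agent.BM.StageABip

/-!
Stage A of S1704, final form (helper606): in every group with elements `t1, …, t11` satisfying the relators of the
presented Baby Monster the subgroup `⟨t2, …, t11⟩` has order at most `2 · |²E₆(2)|`.
-/

set_option autoImplicit false
set_option maxRecDepth 100000
set_option linter.constructorNameAsVariable false

namespace Cfsg.Agent.BM.StageAFinal

open Cfsg.Spor Cfsg.Agent.BM Cfsg.Agent.BM.Psi Cfsg.Agent.BM.StageAData Cfsg.Agent.BM.CertA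

variable {G : Type*} [Group G] {x : BabyMonster.Gen → G}

/-- `H = ⟨t2, …, t11⟩` -/
def H (x : BabyMonster.Gen → G) : Subgroup G :=
  Subgroup.closure {x .t2, x .t3, x .t4, x .t5, x .t6, x .t7, x .t8, x .t9, x .t10, x .t11}

theorem mem_H (x : BabyMonster.Gen → G) (t : BabyMonster.Gen) (ht : t ≠ .t1) : x t ∈ H x := by
  apply Subgroup.subset_closure
  simp only [Set.mem_insert_iff, Set.mem_singleton_iff]
  cases t <;> first | exact absurd rfl ht | simp

theorem map_gpA_le (h : Rel x) : (CovA.gp CovA.mA).map (psi h) ≤ X x := by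
  rw [CovA.gp, MonoidHom.map_closure, Subgroup.closure_le]
  rintro _ ⟨_, ⟨d, hd, rfl⟩, rfl⟩
  obtain ⟨h2, h10⟩ := CovA.letters_mA hd
  have e := psi_fgen h d
  have hm : m1 (OracleFi23.lt0 d) ∈
      ({.t2, .t3, .t4, .t5, .t6, .t7, .t8, .t9, .t10} : Set BabyMonster.Gen) := by
    interval_cases d
    · show BabyMonster.Gen.t2 ∈ _; simp
    · show BabyMonster.Gen.t3 ∈ _; simp
    · show BabyMonster.Gen.t4 ∈ _; simp
    · show BabyMonster.Gen.t5 ∈ _; simp
    · show BabyMonster.Gen.t6 ∈ _; simp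
    · show BabyMonster.Gen.t7 ∈ _; simp
    · show BabyMonster.Gen.t8 ∈ _; simp
    · show BabyMonster.Gen.t9 ∈ _; simp
    · show BabyMonster.Gen.t10 ∈ _; simp
  show psi h (OracleFi23.fgen 0 d) ∈ X x
  rw [e]
  exact mem_X x _ hm

theorem letter_mem (h : Rel x) (d : ℕ) (hd : CovA.mA.testBit d = true) (t : BabyMonster.Gen)
    (ht : m1 (OracleFi23.lt0 d) = t) : x t ∈ (CovA.gp CovA.mA).map (psi h) := by
  rw [← ht, ← psi_fgen h d]
  exact ⟨_, Subgroup.subset_closure ⟨d, hd, rfl⟩, rfl⟩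

theorem X_le_map (h : Rel x) : X x ≤ (CovA.gp CovA.mA).map (psi h) := by
  unfold X
  rw [Subgroup.closure_le]
  intro y hy
  simp only [Set.mem_insert_iff, Set.mem_singleton_iff] at hy
  rcases hy with rfl | rfl | rfl | rfl | rfl | rfl | rfl | rfl | rfl
  · exact letter_mem h 2 (by decide +kernel) _ rfl
  · exact letter_mem h 3 (by decide +kernel) _ rfl
  · exact letter_mem h 4 (by decide +kernel) _ rfl
  · exact letter_mem h 5 (by decide +kernel) _ rfl
  · exact letter_mem h 6 (by decide +kernel) _ rfl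
  · exact letter_mem h 7 (by decide +kernel) _ rfl
  · exact letter_mem h 8 (by decide +kernel) _ rfl
  · exact letter_mem h 9 (by decide +kernel) _ rfl
  · exact letter_mem h 10 (by decide +kernel) _ rfl

/-- `X = ⟨t2, …, t10⟩` is the image of a subgroup of `Fi23`. -/
theorem map_gpA (h : Rel x) : (CovA.gp CovA.mA).map (psi h) = X x :=
  le_antisymm (map_gpA_le h) (X_le_map h)

theorem X_le_H (x : BabyMonster.Gen → G) : X x ≤ H x := by
  unfold X
  rw [Subgroup.closure_le]
  intro y hy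
  simp only [Set.mem_insert_iff, Set.mem_singleton_iff] at hy
  rcases hy with rfl | rfl | rfl | rfl | rfl | rfl | rfl | rfl | rfl <;> exact mem_H x _ (by decide)

theorem finite_X (h : Rel x) : Finite (X x) := by
  rw [← map_gpA h]
  have := CovA.finite_Fi23
  exact Finite.of_surjective _ ((psi h).subgroupMap_surjective (CovA.gp CovA.mA))

theorem card_X_le (h : Rel x) : Nat.card (X x) ≤ 129123503308800 := by
  have := CovA.finite_Fi23
  rw [← map_gpA h]
  exact (Nat.card_le_card_of_surjective _ ((psi h).subgroupMap_surjective (CovA.gp CovA.mA))).trans CovA.card_A_le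

/-- All letters of `⟨t3, …, t11⟩` -/
theorem psiA_range_le (h : Rel x) : (psiA h).range ≤ H x := by
  rw [MonoidHom.range_eq_map, ← PresentedGroup.closure_range_of, MonoidHom.map_closure, Subgroup.closure_le]
  rintro _ ⟨_, ⟨g, rfl⟩, rfl⟩
  show psiA h (PresentedGroup.of g) ∈ H x
  rw [psiA_of h g]
  exact mem_H x _ (by cases g <;> decide)

theorem mem_psiA_range (h : Rel x) (g : Fi22.Gen) : x (mA g) ∈ (psiA h).range := ⟨_, psiA_of h g⟩

theorem H_le (h : Rel x) : H x ≤ Subgroup.closure ((X x : Set G) ∪ (psiA h).range) := by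
  unfold H
  rw [Subgroup.closure_le]
  have k1 : ∀ t : BabyMonster.Gen, t ∈ ({.t2, .t3, .t4, .t5, .t6, .t7, .t8, .t9, .t10} : Set BabyMonster.Gen) →
      x t ∈ Subgroup.closure ((X x : Set G) ∪ (psiA h).range) := fun t ht =>
    Subgroup.subset_closure (Or.inl (mem_X x t ht))
  intro y hy
  simp only [Set.mem_insert_iff, Set.mem_singleton_iff] at hy
  rcases hy with rfl | rfl | rfl | rfl | rfl | rfl | rfl | rfl | rfl | rfl
  · exact k1 _ (by simp)
  · exact k1 _ (by simp)
  · exact k1 _ (by simp)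
  · exact k1 _ (by simp)
  · exact k1 _ (by simp)
  · exact k1 _ (by simp)
  · exact k1 _ (by simp)
  · exact k1 _ (by simp)
  · exact k1 _ (by simp)
  · exact Subgroup.subset_closure (Or.inr (mem_psiA_range h .g))

/-! ### Words -/

theorem e0_mem (h : Rel x) {u : ℕ} (hu : Script.wordIn CovA.mA u = true) : e0 h u ∈ X x := by
  rw [← map_gpA h]
  exact ⟨_, CovA.E_mem hu, rfl⟩

theorem e1_mem (h : Rel x) (u : ℕ) : e1 h u ∈ (psiA h).range := ⟨_, rfl⟩

theorem e1_mem_H (h : Rel x) (u : ℕ) : e1 h u ∈ H x := psiA_range_le h (e1_mem h u)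

theorem e0_mem_H (h : Rel x) {u : ℕ} (hu : Script.wordIn CovA.mA u = true) : e0 h u ∈ H x :=
  X_le_H x (e0_mem h hu)

/-- The letters of `aE` are those of `⟨t2, …, t10⟩`. -/
theorem aE_in : ∀ e : Fin 32, Script.wordIn CovA.mA (aE e) = true := by decide +kernel

/-! ### The nodes lie in `H` -/

theorem wn0_mem (h : Rel x) : wn0 h ∈ H x := (H x).one_mem
theorem wn8_mem (h : Rel x) : wn8 h ∈ H x :=
  (H x).mul_mem (wn0_mem h) (e0_mem_H h (by decide +kernel))
theorem wn1_mem (h : Rel x) : wn1 h ∈ H x := (H x).mul_mem (wn8_mem h) (e1_mem_H h _)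
theorem wn2_mem (h : Rel x) : wn2 h ∈ H x := (H x).mul_mem (wn8_mem h) (e1_mem_H h _)
theorem wn9_mem (h : Rel x) : wn9 h ∈ H x :=
  (H x).mul_mem (wn1_mem h) (e0_mem_H h (by decide +kernel))
theorem wn10_mem (h : Rel x) : wn10 h ∈ H x :=
  (H x).mul_mem (wn2_mem h) (e0_mem_H h (by decide +kernel))
theorem wn11_mem (h : Rel x) : wn11 h ∈ H x :=
  (H x).mul_mem (wn1_mem h) (e0_mem_H h (by decide +kernel))
theorem wn3_mem (h : Rel x) : wn3 h ∈ H x := (H x).mul_mem (wn10_mem h) (e1_mem_H h _)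
theorem wn4_mem (h : Rel x) : wn4 h ∈ H x := (H x).mul_mem (wn11_mem h) (e1_mem_H h _)
theorem wn12_mem (h : Rel x) : wn12 h ∈ H x :=
  (H x).mul_mem (wn4_mem h) (e0_mem_H h (by decide +kernel))
theorem wn13_mem (h : Rel x) : wn13 h ∈ H x :=
  (H x).mul_mem (wn3_mem h) (e0_mem_H h (by decide +kernel))

theorem v_mem (h : Rel x) (j : Fin 6) : w h (8 + j.val) ∈ H x := by
  fin_cases j
  · exact wn8_mem h
  · exact wn9_mem h
  · exact wn10_mem h
  · exact wn11_mem h
  · exact wn12_mem h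
  · exact wn13_mem h

/-! ### The assembly -/

/-- Words stabilising a coset generate a subgroup stabilising it. -/
theorem clo_stab {K : Subgroup G} {Q : Type*} [Group Q] (φ : Q →* G) (c : G) {Z : Set Q}
    (h : ∀ z ∈ Z, c * φ z * c⁻¹ ∈ K) : ∀ z ∈ Subgroup.closure Z, c * φ z * c⁻¹ ∈ K := by
  intro z hz
  have : Subgroup.closure Z ≤ (K.comap ((MulAut.conj c).toMonoidHom.comp φ)) := by
    rw [Subgroup.closure_le]
    intro y hy
    show c * φ y * c⁻¹ ∈ K
    exact h y hy
  exact this hz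

/-- The common subgroup `⟨t3, …, t10⟩`, seen from `Fi23`. -/
theorem psi_O_mem (h : Rel x) : ∀ y ∈ CovA.gp CovA.mO, psi h y ∈ (psiA h).range := by
  intro y hy
  have : CovA.gp CovA.mO ≤ ((psiA h).range).comap (psi h) := by
    unfold CovA.gp
    rw [Subgroup.closure_le]
    rintro _ ⟨d, hd, rfl⟩
    show psi h (OracleFi23.fgen 0 d) ∈ (psiA h).range
    rw [psi_fgen, glue d hd, ← psiA_bgen h d]
    exact ⟨_, rfl⟩
  exact this hy

/-- The common subgroup `⟨t3, …, t10⟩`, seen from `Fi22`. -/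
theorem psiA_O_mem (h : Rel x) : ∀ y ∈ CovB.gpB CovB.mO, psiA h y ∈ (CovA.gp CovA.mA).map (psi h) := by
  intro y hy
  have : CovB.gpB CovB.mO ≤ ((CovA.gp CovA.mA).map (psi h)).comap (psiA h) := by
    unfold CovB.gpB
    rw [Subgroup.closure_le]
    rintro _ ⟨d, hd, rfl⟩
    show psiA h (PairOracle.bgen d) ∈ (CovA.gp CovA.mA).map (psi h)
    rw [psiA_bgen, ← glue d hd, ← psi_fgen h d]
    exact ⟨_, CovA.gpO_le (Subgroup.subset_closure ⟨d, hd, rfl⟩), rfl⟩
  exact this hy

/-- **Stage A**: the index of `X = ⟨t2, …, t10⟩` in `H = ⟨t2, …, t11⟩` is at most 1185415168. -/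
theorem relIndex_le (h : Rel x) : (X x).relIndex (H x) ≠ 0 ∧ (X x).relIndex (H x) ≤ 1185415168 := by
  have key := StageABip.relIndex_le_of_bip (ι := Fin 8) (ι₂ := Fin 6) (psi h) (psiA h) (CovA.gp CovA.mA)
    (CovA.gp CovA.mO) (CovB.gpB CovB.mO) CovA.gpO_le (psi_O_mem h) (psiA_O_mem h)
    (fun i => w h i.val) (fun j => w h (8 + j.val))
    (fun i => Subgroup.closure {y | ∃ u ∈ wsA i, CovA.E u = y}) (by
      intro i
      rw [map_gpA h]
      refine clo_stab (psi h) _ ?_
      rintro _ ⟨u, hu, rfl⟩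
      exact stabA h i u hu)
    (fun j => Subgroup.closure {y | ∃ u ∈ wsB j, CovB.EB u = y}) (by
      intro j
      rw [map_gpA h]
      refine clo_stab (psiA h) _ ?_
      rintro _ ⟨u, hu, rfl⟩
      exact stabB h j u hu)
    (fun i => {m | ∃ e : Fin 32, srcE e = i ∧ CovA.E (aE e) = m}) (by
      rintro i _ ⟨e, rfl, rfl⟩
      exact CovA.E_mem (aE_in e)) (by
      rintro i _ ⟨e, rfl, rfl⟩
      rw [map_gpA h]
      exact ⟨tgtE e, e1 h (bE e), e1_mem h _, same h e⟩)
    (fun j => {m | ∃ e : Fin 32, tgtE e = j ∧ CovB.EB (bE e) = m}) (by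
      rintro j _ ⟨e, rfl, rfl⟩
      rw [map_gpA h]
      exact ⟨srcE e, e0 h (aE e), e0_mem h (aE_in e), same h e⟩)
    (by
      intro i k hk
      obtain ⟨e, he, s, hs, y, hy, h1⟩ := CovA.covA i k hk
      exact ⟨_, ⟨e, he, rfl⟩, s, hs, y, hy, h1⟩)
    (by
      intro j k
      obtain ⟨e, he, s, hs, y, hy, h1⟩ := CovB.covB j k
      exact ⟨_, ⟨e, he, rfl⟩, s, hs, y, hy, h1⟩)
    ⟨0, by
      rw [map_gpA h]
      show wn8 h ∈ X x
      unfold wn8 wn0
      rw [e0_zero, one_mul]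
      exact (X x).one_mem⟩
    (H x) (psiA_range_le h) (by rw [map_gpA h]; exact H_le h) (v_mem h) CovB.idxB (CovB.indexB)
  rw [map_gpA h, CovB.sum_idxB] at key
  exact key

/-- **Stage A**: `|⟨t2, …, t11⟩| ≤ 2 · |²E₆(2)|`. -/
theorem main (h : Rel x) : Finite (H x) ∧ Nat.card (H x) ≤ 2 * 76532479683774853939200 := by
  obtain ⟨h0, hn⟩ := relIndex_le h
  have key := StageA.card_le_of_relIndex (X x) (H x) (X_le_H x) (finite_X h) (card_X_le h) h0 hn
  exact ⟨key.1, key.2.trans (by norm_num)⟩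

end Cfsg.Agent.BM.StageAFinal
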