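import Cfsg.Agent.BM.StageBInd
import Cfsg.Agent.BM.CovBCert

/-!
# Stage B of S1704: `H = ⟨t2, …, t11⟩` has index at most `27143910000` in the presented Baby Monster

Facts of the certificate: `CertBInst` (helper976, helper967); coverings: `CovBCert` (helper62); index bounds:
`StageBNode0`, `StageBV1`, …, `StageBV7` (helper631, helper264).
-/

set_option autoImplicit false

namespace Cfsg.Agent.BM.StageBFinal

open Cfsg.Agent.BM.FactsB Cfsg.Agent.BM.StageBFinalOf

/-- **Stage B.** -/
theorem main : (HB gB).index ≠ 0 ∧ (HB gB).index ≤ 27143910000 := main_of CovBCert.cov StageBInd.ind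

end Cfsg.Agent.BM.StageBFinal
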