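import Cfsg.Agent.BabyM.Conc
import Cfsg.Prelude.Def_Spor_B

/-!
# The generators of the presented Baby Monster as words in the concrete 4371-dimensional model (S1704, stage W)

Letters in application order (the first letter acts first).
-/

set_option autoImplicit false

namespace Cfsg.Agent.BM.StageW

open Cfsg.Agent.BabyM.Conc

/-- The word of a generator. -/
def tw : Cfsg.Spor.BabyMonster.Gen → List Ltr
  | .t1 => [.p10, .hi, .p9, .xii, .p10, .xii, .z, .X10, .X1, .Z1, .tau, .X10, .Z1, .X1, .X10, .z, .xi, .p, .xi, .p2, .h, .p]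
  | .t2 => [.Z0, .Z1, .Z5, .Z6, .Z7, .Z9, .Z10]
  | .t3 => [.y10, .xii, .hi, .xii, .z, .X8, .X6, .X5, .Z5, .tau, .X10, .Z5, .X5, .X6, .X8, .z, .xi, .h, .xi, .y10]
  | .t4 => [.Z3, .Z5, .Z7, .Z10, .X1, .X2, .X4, .X6, .X7, .X10]
  | .t5 => [.tau, .X10]
  | .t6 => [.Z3, .Z6, .Z10, .X2, .X3, .X4, .X5, .X7, .X9, .X10]
  | .t7 => [.xii, .p10, .xii, .X10, .X8, .X3, .tau, .X10, .X3, .X8, .X10, .xi, .p, .xi]
  | .t8 => [.Z1, .Z3, .Z4, .Z5, .Z9]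
  | .t9 => [.Z0, .Z1, .Z3, .Z6, .Z8, .X2, .X4, .X5, .X10]
  | .t10 => [.y9, .p, .xii, .p, .xii, .X9, .X7, .X6, .X3, .X1, .X0, .tau, .X10, .X0, .X1, .X3, .X6, .X7, .X9, .xi, .p10, .xi, .p10, .y9]
  | .t11 => [.Z0, .Z1, .Z2, .Z3, .Z4, .Z7]

end Cfsg.Agent.BM.StageW
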