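import Cfsg.Agent.BabyM.WordsInst
import Cfsg.Agent.BM.StageWWords

/-!
# S1704, stage W: kernel checks of the long relators on the vector of the base
-/

set_option autoImplicit false
set_option Elab.async false

namespace Cfsg.Agent.BM.StageW

open Cfsg.Agent.Monster.VecEngine Cfsg.Agent.BabyM.Conc Cfsg.Agent.BabyM.WordsInst Cfsg.Spor.BabyMonster

/-- The word of the spider element. -/
def sp : List Ltr := tw .t10 ++ tw .t9 ++ tw .t5 ++ tw .t7 ++ tw .t6 ++ tw .t5 ++ tw .t3 ++ tw .t4 ++ tw .t5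

/-- The first Coxeter element of type `E₇`. -/
def ea : List Ltr := tw .t9 ++ tw .t8 ++ tw .t7 ++ tw .t6 ++ tw .t3 ++ tw .t4 ++ tw .t5

/-- The second Coxeter element of type `E₇`. -/
def eb : List Ltr := tw .t11 ++ tw .t10 ++ tw .t9 ++ tw .t6 ++ tw .t3 ++ tw .t4 ++ tw .t5

theorem sp_chk : checkFix ((sp ++ sp ++ sp ++ sp ++ sp ++ sp ++ sp ++ sp ++ sp ++ sp).map Ltr.prog) vB = true := by decide +kernel

theorem ea_chk : checkFix ((ea ++ ea ++ ea ++ ea ++ ea ++ ea ++ ea ++ ea ++ ea).map Ltr.prog) vB = true := by decide +kernel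

theorem eb_chk : checkFix ((eb ++ eb ++ eb ++ eb ++ eb ++ eb ++ eb ++ eb ++ eb).map Ltr.prog) vB = true := by decide +kernel

end Cfsg.Agent.BM.StageW
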