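import Cfsg.Agent.BM.StageWPairs
import Cfsg.Agent.BM.StageWLong
import Cfsg.Agent.BabyM.InstMem

/-!
# S1704, stage W: the relators of the presented Baby Monster hold in the concrete model
-/

set_option autoImplicit false

namespace Cfsg.Agent.BM.StageW

open Cfsg.Agent.Monster.VecEngine Cfsg.Agent.BabyM.Conc Cfsg.Agent.BabyM.Model Cfsg.Agent.BabyM.Inst
  Cfsg.Agent.BabyM.InstMem Cfsg.Agent.BabyM.WordsInst Cfsg.Spor Cfsg.Spor.BabyMonster

/-- The images of the generators. -/
noncomputable def x (t : Gen) : M.G := ⟨W (tw t), W_mem_G _⟩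

/-- The value of a word in the group of the model. -/
noncomputable def Wg (v : List Ltr) : M.G := ⟨W v, W_mem_G _⟩

theorem Wg_append (v w : List Ltr) : Wg (v ++ w) = Wg w * Wg v := Subtype.ext (W_append v w)

theorem Wg_nil : Wg [] = 1 := Subtype.ext W_nil

theorem Wg_tw (t : Gen) : Wg (tw t) = x t := rfl

section

variable {K₀ : Type} [Group K₀] (A : BAll M K₀) (O : base.Ok)

include A O

theorem eq_of_chk {v w : List Ltr} (h : chk v w = true) : Wg v = Wg w :=
  Subtype.ext (eq_of_check A O (W_mem_G _) (W_mem_G _) h)

theorem one_of_chk {v : List Ltr} (h : checkFix (v.map Ltr.prog) vB = true) : Wg v = 1 :=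
  Subtype.ext (eq_one A O (W_mem_G _) h)

theorem sq_of {a : Gen} (h : chk (tw a ++ tw a) [] = true) : x a * x a = 1 := by
  have := eq_of_chk A O h
  rwa [Wg_append, Wg_nil, Wg_tw] at this

theorem comm_of {a b : Gen} (h : chk (tw a ++ tw b) (tw b ++ tw a) = true) : x a * x b = x b * x a := by
  have := eq_of_chk A O h
  rw [Wg_append, Wg_append, Wg_tw, Wg_tw] at this
  exact this.symm

theorem braid_of {a b : Gen} (h : chk (tw a ++ tw b ++ tw a) (tw b ++ tw a ++ tw b) = true) :
    x a * x b * x a = x b * x a * x b := by
  have := eq_of_chk A O h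
  rw [Wg_append, Wg_append, Wg_append, Wg_append, Wg_tw, Wg_tw] at this
  simpa only [mul_assoc] using this

theorem sq (a : Gen) : x a * x a = 1 := by
  cases a
  · exact sq_of A O s1
  · exact sq_of A O s2
  · exact sq_of A O s3
  · exact sq_of A O s4
  · exact sq_of A O s5
  · exact sq_of A O s6
  · exact sq_of A O s7
  · exact sq_of A O s8
  · exact sq_of A O s9
  · exact sq_of A O s10
  · exact sq_of A O s11

theorem two_of {a b : Gen} (h : chk (tw a ++ tw b) (tw b ++ tw a) = true) : (x a * x b) ^ 2 = 1 := by
  have h1 := comm_of A O h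
  calc (x a * x b) ^ 2 = x a * (x b * x a) * x b := by rw [pow_two]; simp only [mul_assoc]
    _ = (x a * x a) * (x b * x b) := by rw [← h1]; simp only [mul_assoc]
    _ = 1 := by rw [sq A O, sq A O, one_mul]

theorem three_of {a b : Gen} (h : chk (tw a ++ tw b ++ tw a) (tw b ++ tw a ++ tw b) = true) :
    (x a * x b) ^ 3 = 1 := by
  have h1 := braid_of A O h
  calc (x a * x b) ^ 3 = (x a * x b * x a) * (x b * x a * x b) := by
        rw [pow_succ, pow_two]; simp only [mul_assoc]
    _ = (x b * x a * x b) * (x b * x a * x b) := by rw [h1]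
    _ = x b * x a * (x b * x b) * (x a * x b) := by simp only [mul_assoc]
    _ = x b * (x a * x a) * x b := by rw [sq A O b]; simp only [mul_assoc, one_mul]
    _ = 1 := by rw [sq A O a, mul_one, sq A O b]

theorem pow_swap {a b : Gen} {m : ℕ} (h : (x a * x b) ^ m = 1) : (x b * x a) ^ m = 1 := by
  have e : x b * x a = (x a * x b)⁻¹ := by
    rw [mul_inv_rev, ← eq_inv_of_mul_eq_one_left (sq A O a), ← eq_inv_of_mul_eq_one_left (sq A O b)]
  rw [e, inv_pow, h, inv_one]

theorem cox (a b : Gen) : (x a * x b) ^ coxLabel edges a b = 1 := by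
  cases a <;> cases b
  · exact (pow_one _).trans (sq A O _)
  · exact three_of A O c1_2
  · exact two_of A O c1_3
  · exact two_of A O c1_4
  · exact two_of A O c1_5
  · exact two_of A O c1_6
  · exact two_of A O c1_7
  · exact two_of A O c1_8
  · exact two_of A O c1_9
  · exact two_of A O c1_10
  · exact two_of A O c1_11
  · exact pow_swap A O (three_of A O c1_2)
  · exact (pow_one _).trans (sq A O _)
  · exact three_of A O c2_3
  · exact two_of A O c2_4
  · exact two_of A O c2_5
  · exact two_of A O c2_6
  · exact two_of A O c2_7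
  · exact two_of A O c2_8
  · exact two_of A O c2_9
  · exact two_of A O c2_10
  · exact two_of A O c2_11
  · exact pow_swap A O (two_of A O c1_3)
  · exact pow_swap A O (three_of A O c2_3)
  · exact (pow_one _).trans (sq A O _)
  · exact three_of A O c3_4
  · exact two_of A O c3_5
  · exact two_of A O c3_6
  · exact two_of A O c3_7
  · exact two_of A O c3_8
  · exact two_of A O c3_9
  · exact two_of A O c3_10
  · exact two_of A O c3_11
  · exact pow_swap A O (two_of A O c1_4)
  · exact pow_swap A O (two_of A O c2_4)
  · exact pow_swap A O (three_of A O c3_4)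
  · exact (pow_one _).trans (sq A O _)
  · exact three_of A O c4_5
  · exact two_of A O c4_6
  · exact two_of A O c4_7
  · exact two_of A O c4_8
  · exact two_of A O c4_9
  · exact two_of A O c4_10
  · exact two_of A O c4_11
  · exact pow_swap A O (two_of A O c1_5)
  · exact pow_swap A O (two_of A O c2_5)
  · exact pow_swap A O (two_of A O c3_5)
  · exact pow_swap A O (three_of A O c4_5)
  · exact (pow_one _).trans (sq A O _)
  · exact three_of A O c5_6
  · exact two_of A O c5_7
  · exact two_of A O c5_8
  · exact three_of A O c5_9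
  · exact two_of A O c5_10
  · exact two_of A O c5_11
  · exact pow_swap A O (two_of A O c1_6)
  · exact pow_swap A O (two_of A O c2_6)
  · exact pow_swap A O (two_of A O c3_6)
  · exact pow_swap A O (two_of A O c4_6)
  · exact pow_swap A O (three_of A O c5_6)
  · exact (pow_one _).trans (sq A O _)
  · exact three_of A O c6_7
  · exact two_of A O c6_8
  · exact two_of A O c6_9
  · exact two_of A O c6_10
  · exact two_of A O c6_11
  · exact pow_swap A O (two_of A O c1_7)
  · exact pow_swap A O (two_of A O c2_7)
  · exact pow_swap A O (two_of A O c3_7)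
  · exact pow_swap A O (two_of A O c4_7)
  · exact pow_swap A O (two_of A O c5_7)
  · exact pow_swap A O (three_of A O c6_7)
  · exact (pow_one _).trans (sq A O _)
  · exact three_of A O c7_8
  · exact two_of A O c7_9
  · exact two_of A O c7_10
  · exact two_of A O c7_11
  · exact pow_swap A O (two_of A O c1_8)
  · exact pow_swap A O (two_of A O c2_8)
  · exact pow_swap A O (two_of A O c3_8)
  · exact pow_swap A O (two_of A O c4_8)
  · exact pow_swap A O (two_of A O c5_8)
  · exact pow_swap A O (two_of A O c6_8)
  · exact pow_swap A O (three_of A O c7_8)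
  · exact (pow_one _).trans (sq A O _)
  · exact two_of A O c8_9
  · exact two_of A O c8_10
  · exact two_of A O c8_11
  · exact pow_swap A O (two_of A O c1_9)
  · exact pow_swap A O (two_of A O c2_9)
  · exact pow_swap A O (two_of A O c3_9)
  · exact pow_swap A O (two_of A O c4_9)
  · exact pow_swap A O (three_of A O c5_9)
  · exact pow_swap A O (two_of A O c6_9)
  · exact pow_swap A O (two_of A O c7_9)
  · exact pow_swap A O (two_of A O c8_9)
  · exact (pow_one _).trans (sq A O _)
  · exact three_of A O c9_10
  · exact two_of A O c9_11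
  · exact pow_swap A O (two_of A O c1_10)
  · exact pow_swap A O (two_of A O c2_10)
  · exact pow_swap A O (two_of A O c3_10)
  · exact pow_swap A O (two_of A O c4_10)
  · exact pow_swap A O (two_of A O c5_10)
  · exact pow_swap A O (two_of A O c6_10)
  · exact pow_swap A O (two_of A O c7_10)
  · exact pow_swap A O (two_of A O c8_10)
  · exact pow_swap A O (three_of A O c9_10)
  · exact (pow_one _).trans (sq A O _)
  · exact three_of A O c10_11
  · exact pow_swap A O (two_of A O c1_11)
  · exact pow_swap A O (two_of A O c2_11)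
  · exact pow_swap A O (two_of A O c3_11)
  · exact pow_swap A O (two_of A O c4_11)
  · exact pow_swap A O (two_of A O c5_11)
  · exact pow_swap A O (two_of A O c6_11)
  · exact pow_swap A O (two_of A O c7_11)
  · exact pow_swap A O (two_of A O c8_11)
  · exact pow_swap A O (two_of A O c9_11)
  · exact pow_swap A O (three_of A O c10_11)
  · exact (pow_one _).trans (sq A O _)

theorem spider : (x .t5 * x .t4 * x .t3 * x .t5 * x .t6 * x .t7 * x .t5 * x .t9 * x .t10) ^ 10 = 1 := by
  have h := one_of_chk A O sp_chk
  have e : Wg sp = x .t5 * x .t4 * x .t3 * x .t5 * x .t6 * x .t7 * x .t5 * x .t9 * x .t10 := by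
    unfold sp
    simp only [Wg_append, Wg_tw, mul_assoc]
  rw [← e]
  simp only [Wg_append] at h
  rw [← h]
  simp only [pow_succ, pow_zero, one_mul, mul_assoc]

theorem e7a : (x .t5 * x .t4 * x .t3 * x .t6 * x .t7 * x .t8 * x .t9) ^ 9 = 1 := by
  have h := one_of_chk A O ea_chk
  have e : Wg ea = x .t5 * x .t4 * x .t3 * x .t6 * x .t7 * x .t8 * x .t9 := by
    unfold ea
    simp only [Wg_append, Wg_tw, mul_assoc]
  rw [← e]
  simp only [Wg_append] at h
  rw [← h]
  simp only [pow_succ, pow_zero, one_mul, mul_assoc]

theorem e7b : (x .t5 * x .t4 * x .t3 * x .t6 * x .t9 * x .t10 * x .t11) ^ 9 = 1 := by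
  have h := one_of_chk A O eb_chk
  have e : Wg eb = x .t5 * x .t4 * x .t3 * x .t6 * x .t9 * x .t10 * x .t11 := by
    unfold eb
    simp only [Wg_append, Wg_tw, mul_assoc]
  rw [← e]
  simp only [Wg_append] at h
  rw [← h]
  simp only [pow_succ, pow_zero, one_mul, mul_assoc]

/-- **The relators of the presented Baby Monster hold in the model.** -/
theorem rel : ∀ r ∈ coxRelators BabyMonster.edges ∪ {r | r ∈ BabyMonster.extra}, FreeGroup.lift x r = 1 := by
  rintro r (⟨a, -, b, -, rfl⟩ | hr)
  · rw [map_pow, map_mul, FreeGroup.lift_apply_of, FreeGroup.lift_apply_of]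
    exact cox A O a b
  · have hr' : r ∈ BabyMonster.extra := hr
    unfold BabyMonster.extra at hr'
    simp only [List.mem_cons, List.not_mem_nil, or_false] at hr'
    rcases hr' with rfl | rfl | rfl
    · simpa only [map_pow, map_mul, FreeGroup.lift_apply_of] using spider A O
    · simpa only [map_pow, map_mul, FreeGroup.lift_apply_of] using e7a A O
    · simpa only [map_pow, map_mul, FreeGroup.lift_apply_of] using e7b A O

/-- The homomorphism from the presented Baby Monster to the group of the model. -/
noncomputable def hom : Spor.BabyMonster →* M.G := PresentedGroup.toGroup (rel A O)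

theorem hom_of (t : Gen) : hom A O (PresentedGroup.of t) = x t := PresentedGroup.toGroup.of (rel A O)

/-- The homomorphism is surjective as soon as the images of the generators generate. -/
theorem hom_surjective (h : Subgroup.closure (Set.range x) = ⊤) : Function.Surjective (hom A O) := by
  have h1 : Subgroup.closure (Set.range x) ≤ (hom A O).range := by
    rw [Subgroup.closure_le]
    rintro _ ⟨t, rfl⟩
    exact ⟨PresentedGroup.of t, hom_of A O t⟩
  rw [h, top_le_iff, MonoidHom.range_eq_top] at h1
  exact h1

end

end Cfsg.Agent.BM.StageW
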