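import Cfsg.Agent.BM.Final1704
import Cfsg.Agent.BM.StageWRel
import Cfsg.Agent.BM.StageAFinal
import Cfsg.Agent.BM.StageBFinal
import Cfsg.Agent.BabyM.Instance

/-!
# The presented Baby Monster: transpositions and the subgroup `⟨t2, …, t11⟩` (helper62)

From stage A, stage B and the surjection `StageW.hom` onto the group of the concrete model (hypothesis `hs`):

* `bij` : the homomorphism onto the group of the model is bijective;
* `card_B`, `isB`;
* `card_conj`, `card_cent` : every node `t_i` has 13571955000 conjugates;
* `card_H`, `index_H` : `H = ⟨t2, …, t11⟩` has order `2 · |²E₆(2)|` and index 27143910000.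
-/

set_option autoImplicit false

namespace Cfsg.Agent.BM.KH

open Cfsg.Agent.BabyM.Conc Cfsg.Agent.BabyM.Model Cfsg.Agent.BabyM.Inst Cfsg.Agent.BabyM
  Cfsg.Agent.BM.StageW Cfsg.Agent.BM.FactsB Cfsg.Agent.BM.StageBFinalOf Cfsg.Spor Cfsg.Spor.BabyMonster

/-! ### Elementary lemmas -/

section Abs

variable {G : Type*} [Group G]

theorem isConj_of_braid {a b : G} (ha : a * a = 1) (hb : b * b = 1) (h : a * b * a = b * a * b) :
    IsConj a b := by
  rw [isConj_iff]
  refine ⟨a * b, ?_⟩
  rw [mul_inv_rev, inv_eq_of_mul_eq_one_left ha, inv_eq_of_mul_eq_one_left hb]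
  calc a * b * a * (b * a) = b * a * b * (b * a) := by rw [h]
    _ = b * a * (b * b) * a := by simp only [mul_assoc]
    _ = b := by rw [hb, mul_one, mul_assoc, ha, mul_one]

theorem conjugatesOf_eq {a b : G} (h : IsConj a b) : conjugatesOf a = conjugatesOf b :=
  isConj_iff_conjugatesOf_eq.1 h

/-- The number of conjugates is invariant under isomorphisms. -/
theorem card_conj_equiv {X : Type*} [Group X] (e : G ≃* X) (g : G) :
    Nat.card (conjugatesOf g) = Nat.card (conjugatesOf (e g)) := by
  refine Nat.card_congr (Equiv.subtypeEquiv e.toEquiv fun y => ?_)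
  change IsConj g y ↔ IsConj (e g) (e y)
  rw [isConj_iff, isConj_iff]
  constructor
  · rintro ⟨c, rfl⟩
    exact ⟨e c, by simp⟩
  · rintro ⟨c, hc⟩
    refine ⟨e.symm c, e.injective ?_⟩
    rw [map_mul, map_mul, map_inv, e.apply_symm_apply, hc]

/-- Class equation for one class. -/
theorem card_conj_mul (g : G) : Nat.card (conjugatesOf g) * Nat.card (Subgroup.centralizer ({g} : Set G)) =
    Nat.card G := by
  have e1 : conjugatesOf g = MulAction.orbit (ConjAct G) g := by
    rw [ConjAct.orbit_eq_carrier_conjClasses]
    rfl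
  have e2 : Nat.card (Subgroup.centralizer ({g} : Set G)) = Nat.card (MulAction.stabilizer (ConjAct G) g) := by
    rw [ConjAct.stabilizer_eq_centralizer]
    rfl
  rw [e1, e2, ← Nat.card_prod]
  exact Nat.card_congr (MulAction.orbitProdStabilizerEquivGroup (ConjAct G) g)

/-- If `|H| ≤ m`, `|G : H| ≤ n` and `|G| = m n ≠ 0` then both are equalities. -/
theorem eq_of_bounds (H : Subgroup G) {m n : ℕ} (hm : Nat.card H ≤ m) (hn : H.index ≤ n)
    (hG : Nat.card G = m * n) (h0 : 0 < m * n) : Nat.card H = m ∧ H.index = n := by
  have e : Nat.card H * H.index = m * n := H.card_mul_index.trans hG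
  have hm0 : 0 < m := Nat.pos_of_mul_pos_right h0
  have hn0 : 0 < n := Nat.pos_of_mul_pos_left h0
  constructor
  · refine le_antisymm hm ?_
    by_contra hc
    have h1 : Nat.card H * H.index < m * n :=
      lt_of_le_of_lt (Nat.mul_le_mul_left _ hn) (Nat.mul_lt_mul_of_pos_right (not_le.1 hc) hn0)
    omega
  · refine le_antisymm hn ?_
    by_contra hc
    have h1 : Nat.card H * H.index < m * n :=
      lt_of_le_of_lt (Nat.mul_le_mul_right _ hm) (Nat.mul_lt_mul_of_pos_left (not_le.1 hc) hm0)
    omega

end Abs

/-! ### The nodes are transpositions of the model -/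

/-- The transposition of the model as an element of the group. -/
noncomputable def t0 : M.G := ⟨M.t₀, Instance.all.C_le_G Instance.all.t₀_C⟩

theorem chk_t11 : chk [.p10, .Z0, .Z2, .Z4, .Z5, .Z6, .p] (tw .t11) = true := by decide +kernel

theorem Wg_t0 : Wg [.Z0, .Z2, .Z4, .Z5, .Z6] = t0 := rfl

theorem Wg_p10_p : Wg [.p] * Wg [.p10] = 1 := by
  rw [← Wg_append]
  have h : W [.p10, .p] = W [] := ConcEq.w_p11
  exact (Subtype.ext h).trans Wg_nil

theorem conj_t11 : IsConj t0 (x .t11) := by
  rw [isConj_iff]
  refine ⟨Wg [.p], ?_⟩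
  have h := eq_of_chk Instance.all Instance.ok chk_t11
  rw [Wg_tw] at h
  rw [← h, ← Wg_t0]
  have e : ([.p10, .Z0, .Z2, .Z4, .Z5, .Z6, .p] : List Ltr) =
    [.p10] ++ [.Z0, .Z2, .Z4, .Z5, .Z6] ++ [.p] := rfl
  rw [e, Wg_append, Wg_append, mul_assoc]
  congr 2
  exact inv_eq_of_mul_eq_one_right Wg_p10_p

theorem braid {a b : Gen} (h : chk (tw a ++ tw b ++ tw a) (tw b ++ tw a ++ tw b) = true) :
    IsConj (x a) (x b) :=
  isConj_of_braid (sq Instance.all Instance.ok a) (sq Instance.all Instance.ok b)
    (braid_of Instance.all Instance.ok h)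

theorem conj_t5 : IsConj t0 (x .t5) :=
  ((conj_t11.trans (braid c10_11).symm).trans (braid c9_10).symm).trans (braid c5_9).symm

/-- Every node is conjugate to the transposition `t₀` of the model. -/
theorem conj_x (t : Gen) : IsConj t0 (x t) := by
  have h4 := conj_t5.trans (braid c4_5).symm
  have h3 := h4.trans (braid c3_4).symm
  have h2 := h3.trans (braid c2_3).symm
  have h6 := conj_t5.trans (braid c5_6)
  have h7 := h6.trans (braid c6_7)
  have h9 := conj_t5.trans (braid c5_9)
  cases t
  case t1 => exact h2.trans (braid c1_2).symm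
  case t2 => exact h2
  case t3 => exact h3
  case t4 => exact h4
  case t5 => exact conj_t5
  case t6 => exact h6
  case t7 => exact h7
  case t8 => exact h7.trans (braid c7_8)
  case t9 => exact h9
  case t10 => exact h9.trans (braid c9_10)
  case t11 => exact conj_t11

theorem card_conj_x (t : Gen) : Nat.card (conjugatesOf (x t)) = 13571955000 := by
  rw [← conjugatesOf_eq (conj_x t)]
  exact Instance.all.card_class Instance.tr

/-! ### Conclusions for the presented group -/

/-- The homomorphism onto the group of the model. -/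
noncomputable def f : Spor.BabyMonster →* M.G := hom Instance.all Instance.ok

theorem f_gB (t : Gen) : f (gB t) = x t := hom_of _ _ t

theorem HB_le : HB gB ≤ StageAFinal.H gB := by
  unfold HB
  rw [Subgroup.closure_le]
  rintro _ ⟨t, ht, rfl⟩
  exact StageAFinal.mem_H gB t ht

theorem H_le : StageAFinal.H gB ≤ HB gB := by
  unfold StageAFinal.H
  rw [Subgroup.closure_le]
  intro y hy
  simp only [Set.mem_insert_iff, Set.mem_singleton_iff] at hy
  rcases hy with rfl | rfl | rfl | rfl | rfl | rfl | rfl | rfl | rfl | rfl
  all_goals exact mem_HB gB (fun h => Gen.noConfusion h)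

theorem H_eq : HB gB = StageAFinal.H gB := le_antisymm HB_le H_le

theorem finite_H : Finite (HB gB) := by
  rw [H_eq]
  exact (StageAFinal.main rel_gB).1

theorem card_H_le : Nat.card (HB gB) ≤ 2 * 76532479683774853939200 := by
  rw [H_eq]
  exact (StageAFinal.main rel_gB).2

theorem finite_B : Finite Spor.BabyMonster :=
  (Final1704.card_le (HB gB) finite_H card_H_le StageBFinal.main.1 StageBFinal.main.2).1

theorem card_B_le : Nat.card Spor.BabyMonster ≤ 4154781481226426191177580544000000 := by
  have h := (Final1704.card_le (HB gB) finite_H card_H_le StageBFinal.main.1 StageBFinal.main.2).2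
  simpa using h

section

variable (hs : Function.Surjective f)
include hs

theorem bij : Function.Bijective f := by
  have := finite_B
  have hfin : Finite M.G := Finite.of_surjective _ hs
  have h1 : Nat.card M.G ≤ Nat.card Spor.BabyMonster := Nat.card_le_card_of_surjective _ hs
  have h2 : Nat.card M.G = 4154781481226426191177580544000000 := Instance.isB.2
  exact (Nat.bijective_iff_surjective_and_card f).2 ⟨hs, le_antisymm (by rw [h2]; exact card_B_le) h1⟩

/-- The isomorphism with the group of the model. -/
noncomputable def iso : Spor.BabyMonster ≃* M.G := MulEquiv.ofBijective f (bij hs)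

theorem card_B : Nat.card Spor.BabyMonster = 4154781481226426191177580544000000 := by
  rw [Nat.card_congr (iso hs).toEquiv]
  exact Instance.isB.2

theorem isB : Cfsg.IsB Spor.BabyMonster := Final1704.isB_of_equiv (iso hs) Instance.isB

/-- **Every node has 13571955000 conjugates.** -/
theorem card_conj (t : Gen) : Nat.card (conjugatesOf (gB t)) = 13571955000 := by
  rw [card_conj_equiv (iso hs) (gB t)]
  have e : iso hs (gB t) = x t := f_gB t
  rw [e]
  exact card_conj_x t

theorem card_cent (t : Gen) :
    Nat.card (Subgroup.centralizer ({gB t} : Set Spor.BabyMonster)) = 306129918735099415756800 := by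
  have h := card_conj_mul (gB t)
  rw [card_conj hs t, card_B hs] at h
  omega

theorem card_H : Nat.card (HB gB) = 2 * 76532479683774853939200 :=
  (eq_of_bounds (HB gB) card_H_le StageBFinal.main.2 (by rw [card_B hs]) (by norm_num)).1

/-- **`⟨t2, …, t11⟩` has index 27143910000.** -/
theorem index_H : (HB gB).index = 27143910000 :=
  (eq_of_bounds (HB gB) card_H_le StageBFinal.main.2 (by rw [card_B hs]) (by norm_num)).2

end

end Cfsg.Agent.BM.KH
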