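import Cfsg.Agent.BM.StageWWords

/-!
# S1704, stage W: words for the surjectivity of the presented Baby Monster onto the group of the model

Letters in application order (the first letter acts first).
-/

set_option autoImplicit false

namespace Cfsg.Agent.BM.StageWSurjWords

open Cfsg.Agent.BabyM.Conc Cfsg.Spor.BabyMonster

/-- The conjugating element. -/
def g : List Ltr :=
    [.p, .y2, .taui, .xi, .xi, .h, .p8, .tau, .xi, .hi, .p8, .taui, .xii, .y2, .tau, .y5, .y9, .p8, .xi,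
    .h, .p10, .xii, .p4, .taui, .X0, .Z0, .Z1, .Z2, .Z4, .Z6, .Z8, .Z9, .Z10, .X0, .X2, .X3, .X4, .X6,
    .X10, .y4, .y5, .y6, .y8, .y9, .p, .h, .p8, .h, .p7, .h, .p7, .h, .p10, .h, .p10, .h, .Z0, .Z2, .Z4,
    .Z5, .Z6]

/-- The cheap words of the conjugated generators. -/
def T : Gen → List Ltr
  | .t1 => [.Z0, .Z2, .Z4, .Z5, .Z6]
  | .t2 => [.Z9, .Z8, .Z7, .Z4, .Z2, .Z1, .X6, .X5, .X4, .X3, .taui, .xii, .p6, .xi, .p, .tau, .xii, .Z2, .y2,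
    .y4, .y8, .y9, .y10, .z, .xi, .taui, .p10, .xii, .p5, .xi, .tau, .X3, .X4, .X5, .X6, .Z1, .Z2, .Z4,
    .Z7, .Z8, .Z9]
  | .t3 => [.p, .y8, .xi, .X10, .Z0, .y2, .y4, .y8, .y9, .y10, .z, .X10, .xii, .y8, .p10]
  | .t4 => [.Z0, .Z7, .Z8, .y1, .y2, .y3, .y4, .y5, .y7, .y9]
  | .t5 => [.xii, .Z0, .Z10, .y2, .y4, .y8, .y9, .y10, .z, .xi]
  | .t6 => [.Z3, .Z6, .Z10, .y3, .y4, .y5, .y6, .y7, .y9, .y10]
  | .t7 => [.Z10, .Z9, .Z8, .Z7, .X9, .X8, .X7, .X6, .X2, .X1, .taui, .xii, .p6, .xi, .p, .tau, .xii, .Z2, .y2,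
    .y4, .y8, .y9, .y10, .z, .xi, .taui, .p10, .xii, .p5, .xi, .tau, .X1, .X2, .X6, .X7, .X8, .X9, .Z7,
    .Z8, .Z9, .Z10]
  | .t8 => [.Z0, .Z2, .Z4, .Z5, .Z6, .z]
  | .t9 => [.Z3, .Z6, .y1, .y2, .y4, .y5, .y6, .y7, .y8]
  | .t10 => [.hi, .p8, .y8, .X10, .xii, .Z4, .y2, .y4, .y8, .y9, .y10, .xi, .X10, .y8, .p3, .h]
  | .t11 => [.Z2, .Z9, .Z10, .z, .y1, .y2, .y3, .Z1, .y4, .y5, .y7, .Z4, .y8, .y9, .y10, .Z0]

/-- A further conjugate. -/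
def Ta : List Ltr :=
    [.y1, .X0, .X6, .X5, .X4, .X3, .X0, .Z10, .Z7, .Z5, .Z0, .taui, .xii, .p6, .xi, .p, .tau, .xii, .Z2,
    .y2, .y4, .y8, .y9, .y10, .z, .xi, .taui, .p10, .xii, .p5, .xi, .tau, .Z0, .Z5, .Z7, .Z10, .X0, .X3,
    .X4, .X5, .X6, .X0, .y1]

/-- An element of `Q`. -/
def b2 : List Ltr := [.Z0, .Z2, .Z4, .Z5, .Z6, .Z10]

/-- A further conjugate, in the centraliser. -/
def Es : List Ltr :=
    [.h, .y4, .p8, .y8, .xii, .X10, .Z4, .y2, .y4, .y8, .y9, .y10, .X10, .xi, .y8, .p3, .y4, .hi]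

/-- The word moving `T .t2` to `Ta`. -/
def u : List Ltr :=
    T .t3 ++ T .t4 ++ T .t5 ++ T .t6 ++ T .t7 ++ T .t9 ++ T .t5 ++ T .t4 ++ T .t3 ++ T .t6 ++ T .t10 ++
    T .t9 ++ T .t5 ++ T .t4 ++ T .t11 ++ T .t10 ++ T .t9 ++ T .t5 ++ T .t6 ++ T .t7

/-- The word moving `T .t10` to `Es`. -/
def u' : List Ltr := b2 ++ T .t2 ++ T .t7 ++ b2 ++ T .t7

/-- The element of the group taking `z` to its conjugate under `τ`. -/
def xk : List Ltr := T .t7 ++ b2 ++ T .t7 ++ [.X10]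

/-- The eight elements of the centraliser. -/
def S : Fin 8 → List Ltr
  | 0 => T .t3
  | 1 => T .t4
  | 2 => T .t5
  | 3 => T .t6
  | 4 => T .t9
  | 5 => T .t10
  | 6 => T .t11
  | 7 => Es

/-- The word of `p` in the eight elements, modulo `Q`. -/
def w_p : List (Fin 8) :=
    [0, 7, 2, 1, 2, 7, 0, 5, 1, 2, 4, 2, 3, 1, 2, 7, 1, 0, 1, 7, 2, 1, 3, 2, 4, 2, 1, 5, 0, 7, 3, 1, 2,
    0, 7, 4, 7, 0, 2, 1, 3, 7, 0, 2, 3, 1, 2, 0, 7, 5, 4, 5, 7, 0, 2, 1, 3, 2]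

/-- The correction of `p`. -/
def q_p : List Ltr :=
    [.Z0, .Z3, .Z4, .Z8, .X0, .X2, .X3, .X7, .X10]

/-- The word of `h` in the eight elements, modulo `Q`. -/
def w_h : List (Fin 8) :=
    [2, 7, 4, 2, 7, 1, 2, 4, 3, 0, 1, 2, 7, 1, 0, 1, 7, 2, 1, 0, 3, 4, 2, 1, 7, 2, 4, 7, 2]

/-- The correction of `h`. -/
def q_h : List Ltr :=
    [.Z5, .Z8, .X3, .X6, .X7, .X9]

/-- The word of `xi` in the eight elements, modulo `Q`. -/
def w_xi : List (Fin 8) :=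
    [4, 3, 2, 1, 2, 3, 4, 5, 6, 4, 5, 2, 4, 3, 2, 1, 2, 3, 4, 2, 5, 4, 6, 5]

/-- The correction of `xi`. -/
def q_xi : List Ltr :=
    [.Z0, .Z2, .Z3, .Z4, .Z6, .Z8, .Z9, .Z10, .X1, .X4, .X6, .X8, .X9]

/-- The word of `y1` in the eight elements, modulo `Q`. -/
def w_y1 : List (Fin 8) :=
    [6, 7, 6, 2, 3, 1, 2, 0, 7, 1, 0, 1, 7, 0, 2, 1, 3, 2, 6, 7]

/-- The correction of `y1`. -/
def q_y1 : List Ltr :=
    [.Z3, .Z6, .Z7, .Z9, .Z10]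

/-- The word of `y2` in `y1`, `p`, modulo `Q`. -/
def yw_2 : List Ltr := [.p8, .y1, .p7, .y1, .p8, .y1, .p10]

/-- The correction of `y2`. -/
def yq_2 : List Ltr := [.Z0, .Z1, .Z3, .Z4, .Z6, .Z7, .Z8, .Z9]

/-- The word of `y3` in `y1`, `p`, modulo `Q`. -/
def yw_3 : List Ltr := [.p10, .y1, .p8, .y1, .p10, .y1, .p5]

/-- The correction of `y3`. -/
def yq_3 : List Ltr := [.Z2, .Z6, .Z7, .Z9, .Z10]

/-- The word of `y4` in `y1`, `p`, modulo `Q`. -/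
def yw_4 : List Ltr := [.p10, .y1, .p8, .y1, .p10, .y1, .p8, .y1, .p8]

/-- The correction of `y4`. -/
def yq_4 : List Ltr := [.Z0, .Z1, .Z2, .Z5, .Z6, .Z9]

/-- The word of `y5` in `y1`, `p`, modulo `Q`. -/
def yw_5 : List Ltr := [.p8, .y1, .p10, .y1, .p8, .y1, .p10, .y1, .p8]

/-- The correction of `y5`. -/
def yq_5 : List Ltr := [.Z4, .Z5, .Z9]

/-- The word of `y6` in `y1`, `p`, modulo `Q`. -/
def yw_6 : List Ltr := [.y1, .p7, .y1, .p7, .y1, .p8]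

/-- The correction of `y6`. -/
def yq_6 : List Ltr := [.Z0, .Z1, .Z3, .Z5, .Z6, .Z8, .Z10]

/-- The word of `y7` in `y1`, `p`, modulo `Q`. -/
def yw_7 : List Ltr := [.p9, .y1, .p10, .y1, .p8, .y1, .p8, .y1, .p10, .y1, .p10]

/-- The correction of `y7`. -/
def yq_7 : List Ltr := [.Z0, .Z1, .Z6, .Z7, .Z9, .Z10]

/-- The word of `y8` in `y1`, `p`, modulo `Q`. -/
def yw_8 : List Ltr := [.y1, .p7, .y1, .p7, .y1, .p10, .y1, .p9]

/-- The correction of `y8`. -/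
def yq_8 : List Ltr := [.Z1, .Z5, .Z6]

/-- The word of `y9` in `y1`, `p`, modulo `Q`. -/
def yw_9 : List Ltr := [.y1, .p10, .y1, .p10, .y1, .p8, .y1, .p7, .y1, .p9]

/-- The correction of `y9`. -/
def yq_9 : List Ltr := [.Z4, .Z5, .Z9, .Z10]

/-- The word of `y10` in `y1`, `p`, modulo `Q`. -/
def yw_10 : List Ltr := [.p7, .y1, .p10, .y1, .p8, .y1, .p8]

/-- The correction of `y10`. -/
def yq_10 : List Ltr := [.Z1, .Z2, .Z4, .Z6, .Z9]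

end Cfsg.Agent.BM.StageWSurjWords
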