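import Cfsg.Agent.BM.StageWPairs
import Cfsg.Agent.BM.StageWSurjWords

/-!
# S1704, stage W: kernel checks for the surjectivity, on the vector of the base (part 1)
-/

set_option autoImplicit false
set_option Elab.async false

namespace Cfsg.Agent.BM.StageWSurjChk

open Cfsg.Agent.BabyM.Conc Cfsg.Agent.BM.StageW Cfsg.Agent.BM.StageWSurjWords Cfsg.Spor.BabyMonster

theorem cj1 : chk (tw .t1 ++ g) (g ++ T .t1) = true := by decide +kernel

theorem cj2 : chk (tw .t2 ++ g) (g ++ T .t2) = true := by decide +kernel

theorem cj3 : chk (tw .t3 ++ g) (g ++ T .t3) = true := by decide +kernel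

theorem cj4 : chk (tw .t4 ++ g) (g ++ T .t4) = true := by decide +kernel

theorem cj5 : chk (tw .t5 ++ g) (g ++ T .t5) = true := by decide +kernel

theorem cj6 : chk (tw .t6 ++ g) (g ++ T .t6) = true := by decide +kernel

theorem cj7 : chk (tw .t7 ++ g) (g ++ T .t7) = true := by decide +kernel

theorem cj8 : chk (tw .t8 ++ g) (g ++ T .t8) = true := by decide +kernel

theorem cj9 : chk (tw .t9 ++ g) (g ++ T .t9) = true := by decide +kernel

theorem cj10 : chk (tw .t10 ++ g) (g ++ T .t10) = true := by decide +kernel

theorem cj11 : chk (tw .t11 ++ g) (g ++ T .t11) = true := by decide +kernel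

end Cfsg.Agent.BM.StageWSurjChk
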