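import Cfsg.Agent.BM.StageWPairs
import Cfsg.Agent.BM.StageWSurjWords

/-!
# S1704, stage W: kernel checks for the surjectivity, on the vector of the base (part 2)
-/

set_option autoImplicit false
set_option Elab.async false

namespace Cfsg.Agent.BM.StageWSurjChk2

open Cfsg.Agent.BabyM.Conc Cfsg.Agent.BM.StageW Cfsg.Agent.BM.StageWSurjWords Cfsg.Spor.BabyMonster

theorem ca : chk (T .t2 ++ u) (u ++ Ta) = true := by decide +kernel

theorem cb : chk (Ta ++ [.z] ++ Ta ++ [.z] ++ Ta) b2 = true := by decide +kernel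

theorem ce : chk (T .t10 ++ u') (u' ++ Es) = true := by decide +kernel

theorem cx : chk (Ltr.z :: xk) (xk ++ [.Z10]) = true := by decide +kernel

theorem ct : chk [.taui, .z, .tau] [.Z10] = true := by decide +kernel

theorem cz : chk (T .t1 ++ T .t8) [.z] = true := by decide +kernel

theorem c_p : chk ((w_p.map S).flatten) (Ltr.p :: q_p) = true := by decide +kernel

theorem c_h : chk ((w_h.map S).flatten) (Ltr.h :: q_h) = true := by decide +kernel

theorem c_xi : chk ((w_xi.map S).flatten) (Ltr.xi :: q_xi) = true := by decide +kernel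

theorem c_y1 : chk ((w_y1.map S).flatten) (Ltr.y1 :: q_y1) = true := by decide +kernel

theorem c_y2 : chk yw_2 (Ltr.y2 :: yq_2) = true := by decide +kernel

theorem c_y3 : chk yw_3 (Ltr.y3 :: yq_3) = true := by decide +kernel

theorem c_y4 : chk yw_4 (Ltr.y4 :: yq_4) = true := by decide +kernel

theorem c_y5 : chk yw_5 (Ltr.y5 :: yq_5) = true := by decide +kernel

theorem c_y6 : chk yw_6 (Ltr.y6 :: yq_6) = true := by decide +kernel

theorem c_y7 : chk yw_7 (Ltr.y7 :: yq_7) = true := by decide +kernel

theorem c_y8 : chk yw_8 (Ltr.y8 :: yq_8) = true := by decide +kernel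

theorem c_y9 : chk yw_9 (Ltr.y9 :: yq_9) = true := by decide +kernel

theorem c_y10 : chk yw_10 (Ltr.y10 :: yq_10) = true := by decide +kernel

end Cfsg.Agent.BM.StageWSurjChk2
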