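import Cfsg.Agent.BM.StageWGen
import Cfsg.Agent.BM.StageWSurjChk
import Cfsg.Agent.BM.StageWSurjChk2
import Cfsg.Agent.BabyM.ConcGrp

/-!
# S1704, stage W: the images of the generators generate the group of the model
-/

set_option autoImplicit false

namespace Cfsg.Agent.BM.StageWSurj

open Cfsg.Agent.BabyM.Conc Cfsg.Agent.BabyM.ConcEq Cfsg.Agent.BabyM.ConcGrp Cfsg.Agent.BabyM.Model Cfsg.Agent.BabyM.Inst
  Cfsg.Agent.BabyM.WordsInst Cfsg.Agent.BM.StageW Cfsg.Agent.BM.StageWSurjWords Cfsg.Agent.BM.StageWGen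
  Cfsg.Spor.BabyMonster

/-! ### Cosets of `Q` -/

section abstract

variable {W : Type} [AddCommGroup W] [Module ℚ W] {M : BData W} {K₀ : Type} [Group K₀]

/-- The elements of `C` which agree modulo `Q` with an element of `I`. -/
def Cov (H : BGroup M K₀) (I : Subgroup (W ≃ₗ[ℚ] W)) : Subgroup (W ≃ₗ[ℚ] W) where
  carrier := {c | c ∈ M.C ∧ ∃ q ∈ M.Q, q * c ∈ I}
  mul_mem' := by
    rintro a b ⟨ha, q, hq, hqa⟩ ⟨hb, r, hr, hrb⟩
    refine ⟨M.C.mul_mem ha hb, q * (a * r * a⁻¹), M.Q.mul_mem hq (H.Q_normal a ha r hr), ?_⟩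
    have e : q * (a * r * a⁻¹) * (a * b) = (q * a) * (r * b) := by group
    rw [e]
    exact I.mul_mem hqa hrb
  one_mem' := ⟨M.C.one_mem, 1, M.Q.one_mem, by rw [one_mul]; exact I.one_mem⟩
  inv_mem' := by
    rintro a ⟨ha, q, hq, hqa⟩
    refine ⟨M.C.inv_mem ha, a⁻¹ * q⁻¹ * a, H.Q_normal' a ha q⁻¹ (M.Q.inv_mem hq), ?_⟩
    have e : a⁻¹ * q⁻¹ * a * a⁻¹ = (q * a)⁻¹ := by group
    rw [e]
    exact I.inv_mem hqa

theorem Q_le_Cov (H : BGroup M K₀) (I : Subgroup (W ≃ₗ[ℚ] W)) : M.Q ≤ Cov H I := by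
  intro q hq
  refine ⟨H.Q_le hq, q⁻¹, M.Q.inv_mem hq, ?_⟩
  rw [inv_mul_cancel]
  exact I.one_mem

theorem Cov_right (H : BGroup M K₀) {I : Subgroup (W ≃ₗ[ℚ] W)} {c : W ≃ₗ[ℚ] W} (h : c ∈ Cov H I) :
    ∃ q ∈ M.Q, c * q ∈ I := by
  obtain ⟨hc, q, hq, h⟩ := h
  refine ⟨c⁻¹ * q * c, H.Q_normal' c hc q hq, ?_⟩
  have e : c * (c⁻¹ * q * c) = q * c := by group
  rw [e]
  exact h

end abstract

/-! ### Membership in the conjugated subgroup -/

theorem append_mem {I : Subgroup (V ≃ₗ[ℚ] V)} {v w : List Ltr} (hv : W v ∈ I) (hw : W w ∈ I) : W (v ++ w) ∈ I := by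
  rw [W_append]
  exact I.mul_mem hw hv

theorem flatten_mem {I : Subgroup (V ≃ₗ[ℚ] V)} {f : Fin 8 → List Ltr} (hf : ∀ i, W (f i) ∈ I) (l : List (Fin 8)) :
    W ((l.map f).flatten) ∈ I := by
  induction l with
  | nil => exact I.one_mem
  | cons i l ih =>
    rw [List.map_cons, List.flatten_cons]
    exact append_mem (hf i) ih

section

variable {K₀ : Type} [Group K₀] (A : BAll M K₀) (O : base.Ok)

include A O

theorem eqW {v w : List Ltr} (h : chk v w = true) : W v = W w :=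
  eq_of_check A O (Cfsg.Agent.BabyM.InstMem.W_mem_G _) (Cfsg.Agent.BabyM.InstMem.W_mem_G _) h

theorem conj_mem {I : Subgroup (V ≃ₗ[ℚ] V)} {a b w : List Ltr} (ha : W a ∈ I) (hw : W w ∈ I)
    (h : chk (a ++ w) (w ++ b) = true) : W b ∈ I := by
  have h1 := eqW A O h
  rw [W_append, W_append] at h1
  have h2 : W b = W w * W a * (W w)⁻¹ := by rw [h1, mul_inv_cancel_right]
  rw [h2]
  exact I.mul_mem (I.mul_mem hw ha) (I.inv_mem hw)

theorem mT_of {t : Gen} (h : chk (tw t ++ g) (g ++ T t) = true) : W (T t) ∈ J g := by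
  have h1 := eqW A O h
  rw [W_append, W_append] at h1
  have h2 : W (T t) = W g * W (tw t) * (W g)⁻¹ := by rw [h1, mul_inv_cancel_right]
  rw [h2]
  exact Subgroup.subset_closure ⟨t, rfl⟩

theorem mT (t : Gen) : W (T t) ∈ J g := by
  cases t
  · exact mT_of A O StageWSurjChk.cj1
  · exact mT_of A O StageWSurjChk.cj2
  · exact mT_of A O StageWSurjChk.cj3
  · exact mT_of A O StageWSurjChk.cj4
  · exact mT_of A O StageWSurjChk.cj5
  · exact mT_of A O StageWSurjChk.cj6
  · exact mT_of A O StageWSurjChk.cj7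
  · exact mT_of A O StageWSurjChk.cj8
  · exact mT_of A O StageWSurjChk.cj9
  · exact mT_of A O StageWSurjChk.cj10
  · exact mT_of A O StageWSurjChk.cj11

theorem mz : E .z ∈ J g := by
  have h := eqW A O StageWSurjChk2.cz
  rw [W_single] at h
  rw [← h]
  exact append_mem (mT A O .t1) (mT A O .t8)

theorem mu : W u ∈ J g := by
  unfold u
  repeat' (refine append_mem ?_ (mT A O _))
  exact mT A O _

theorem ma : W Ta ∈ J g := conj_mem A O (mT A O .t2) (mu A O) StageWSurjChk2.ca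

theorem mb : W b2 ∈ J g := by
  rw [← eqW A O StageWSurjChk2.cb]
  have hz : W [.z] ∈ J g := by rw [W_single]; exact mz A O
  exact append_mem (append_mem (append_mem (append_mem (ma A O) hz) (ma A O)) hz) (ma A O)

theorem mu' : W u' ∈ J g := by
  unfold u'
  exact append_mem (append_mem (append_mem (append_mem (mb A O) (mT A O .t2)) (mT A O .t7)) (mb A O)) (mT A O .t7)

theorem me : W Es ∈ J g := conj_mem A O (mT A O .t10) (mu' A O) StageWSurjChk2.ce

theorem mS (i : Fin 8) : W (S i) ∈ J g := by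
  fin_cases i
  · exact mT A O .t3
  · exact mT A O .t4
  · exact mT A O .t5
  · exact mT A O .t6
  · exact mT A O .t9
  · exact mT A O .t10
  · exact mT A O .t11
  · exact me A O

theorem cov_of {w : List (Fin 8)} {l : Ltr} {q : List Ltr} (hl : l.isC = true) (hq : q.all inQ = true)
    (h : chk ((w.map S).flatten) (l :: q) = true) : E l ∈ Cov A.grp (J g) := by
  refine ⟨E_mem_C hl, W q, W_mem_Q hq, ?_⟩
  rw [← W_cons, ← eqW A O h]
  exact flatten_mem (mS A O) w

theorem cov_p : E .p ∈ Cov A.grp (J g) := cov_of A O rfl rfl StageWSurjChk2.c_p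

theorem cov_h : E .h ∈ Cov A.grp (J g) := cov_of A O rfl rfl StageWSurjChk2.c_h

theorem cov_xi : E .xi ∈ Cov A.grp (J g) := cov_of A O rfl rfl StageWSurjChk2.c_xi

theorem cov_y1 : E .y1 ∈ Cov A.grp (J g) := cov_of A O rfl rfl StageWSurjChk2.c_y1

theorem cov_step {a b : Ltr} (h : W [a, .p] = W [b]) (ha : E a ∈ Cov A.grp (J g)) : E b ∈ Cov A.grp (J g) := by
  rw [Cfsg.Agent.BabyM.InstMem.W_two, W_single] at h
  rw [← h]
  exact (Cov A.grp (J g)).mul_mem (cov_p A O) ha

theorem cov_p2 : E .p2 ∈ Cov A.grp (J g) := cov_step A O w_p2 (cov_p A O)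

theorem cov_p3 : E .p3 ∈ Cov A.grp (J g) := cov_step A O w_p3 (cov_p2 A O)

theorem cov_p4 : E .p4 ∈ Cov A.grp (J g) := cov_step A O w_p4 (cov_p3 A O)

theorem cov_p5 : E .p5 ∈ Cov A.grp (J g) := cov_step A O w_p5 (cov_p4 A O)

theorem cov_p6 : E .p6 ∈ Cov A.grp (J g) := cov_step A O w_p6 (cov_p5 A O)

theorem cov_p7 : E .p7 ∈ Cov A.grp (J g) := cov_step A O w_p7 (cov_p6 A O)

theorem cov_p8 : E .p8 ∈ Cov A.grp (J g) := cov_step A O w_p8 (cov_p7 A O)

theorem cov_p9 : E .p9 ∈ Cov A.grp (J g) := cov_step A O w_p9 (cov_p8 A O)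

theorem cov_p10 : E .p10 ∈ Cov A.grp (J g) := cov_step A O w_p10 (cov_p9 A O)

/-- the letters `y₁` and the powers of `p` -/
def isY (l : Ltr) : Bool := match l with
  | .y1 => true | .p => true | .p2 => true | .p3 => true | .p4 => true | .p5 => true | .p6 => true
  | .p7 => true | .p8 => true | .p9 => true | .p10 => true | _ => false

theorem cov_Y {l : Ltr} (h : isY l = true) : E l ∈ Cov A.grp (J g) := by
  cases l
  case y1 => exact cov_y1 A O
  case p => exact cov_p A O
  case p2 => exact cov_p2 A O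
  case p3 => exact cov_p3 A O
  case p4 => exact cov_p4 A O
  case p5 => exact cov_p5 A O
  case p6 => exact cov_p6 A O
  case p7 => exact cov_p7 A O
  case p8 => exact cov_p8 A O
  case p9 => exact cov_p9 A O
  case p10 => exact cov_p10 A O
  all_goals exact absurd h (by decide)

theorem cov_yw {v : List Ltr} (h : v.all isY = true) : W v ∈ Cov A.grp (J g) := by
  induction v with
  | nil => exact (Cov A.grp (J g)).one_mem
  | cons l v ih =>
    rw [List.all_cons, Bool.and_eq_true] at h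
    rw [W_cons]
    exact (Cov A.grp (J g)).mul_mem (ih h.2) (cov_Y A O h.1)

theorem cov_y {v : List Ltr} {l : Ltr} {q : List Ltr} (hv : v.all isY = true) (hq : q.all inQ = true)
    (h : chk v (l :: q) = true) : E l ∈ Cov A.grp (J g) := by
  have h1 := eqW A O h
  rw [W_cons] at h1
  have h2 : E l = (W q)⁻¹ * W v := by rw [h1, inv_mul_cancel_left]
  rw [h2]
  exact (Cov A.grp (J g)).mul_mem ((Cov A.grp (J g)).inv_mem (Q_le_Cov A.grp (J g) (W_mem_Q hq))) (cov_yw A O hv)

theorem cov_all {l : Ltr} (h : l.isC = true) : E l ∈ Cov A.grp (J g) := by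
  by_cases hQ : l.isQ = true
  · exact Q_le_Cov A.grp (J g) (E_mem_Q hQ)
  · cases l
    case y1 => exact cov_y1 A O
    case y2 => exact cov_y A O rfl rfl StageWSurjChk2.c_y2
    case y3 => exact cov_y A O rfl rfl StageWSurjChk2.c_y3
    case y4 => exact cov_y A O rfl rfl StageWSurjChk2.c_y4
    case y5 => exact cov_y A O rfl rfl StageWSurjChk2.c_y5
    case y6 => exact cov_y A O rfl rfl StageWSurjChk2.c_y6
    case y7 => exact cov_y A O rfl rfl StageWSurjChk2.c_y7
    case y8 => exact cov_y A O rfl rfl StageWSurjChk2.c_y8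
    case y9 => exact cov_y A O rfl rfl StageWSurjChk2.c_y9
    case y10 => exact cov_y A O rfl rfl StageWSurjChk2.c_y10
    case p => exact cov_p A O
    case h => exact cov_h A O
    case xi => exact cov_xi A O
    all_goals first | exact absurd rfl hQ | exact absurd h (by decide)

theorem C_le_J : M.C ≤ J g := by
  refine C_le A.grp (I := J g) (mz A O) {g | ∃ l : Ltr, l.isC = true ∧ g = E l} rfl ?_ A.rep.t₀_mem
    (mT A O .t1) A.rep.t₀_ne A.rep.t₀_ne_z
  rintro s ⟨l, h, rfl⟩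
  exact Cov_right A.grp (cov_all A O h)

theorem tau_mem_J : E .tau ∈ J g := by
  have hX : W [.X10] ∈ J g := by
    rw [W_single]
    exact C_le_J A O (E_mem_C rfl)
  have hx : W xk ∈ J g := by
    unfold xk
    exact append_mem (append_mem (append_mem (mT A O .t7) (mb A O)) (mT A O .t7)) hX
  have h1 := eqW A O StageWSurjChk2.cx
  rw [W_cons, W_append, W_single] at h1
  have h2 := eqW A O StageWSurjChk2.ct
  rw [W_cons, W_cons, W_single, W_single, Cfsg.Agent.BabyM.InstMem.taui_eq] at h2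
  have h3 : (E .tau)⁻¹ * W xk ∈ M.C := by
    refine A.cent_z _ ?_ ?_
    · exact M.G.mul_mem (M.G.inv_mem Cfsg.Agent.BabyM.InstMem.tau_mem_G) (Cfsg.Agent.BabyM.InstMem.W_mem_G _)
    · show (E .tau)⁻¹ * W xk * E .z = E .z * ((E .tau)⁻¹ * W xk)
      rw [mul_assoc, h1, ← h2]
      group
  have h4 := (J g).mul_mem hx ((J g).inv_mem (C_le_J A O h3))
  have e : W xk * ((E .tau)⁻¹ * W xk)⁻¹ = E .tau := by group
  rwa [e] at h4

theorem G_le_J : M.G ≤ J g := by
  unfold BData.G
  rw [Subgroup.closure_le]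
  rintro k (hk | hk)
  · exact C_le_J A O hk
  · rw [Set.mem_singleton_iff] at hk
    rw [hk]
    exact tau_mem_J A O

/-- **The images of the generators of the presented Baby Monster generate the group of the model.** -/
theorem closure_x : Subgroup.closure (Set.range x) = ⊤ := closure_of_J (G_le_J A O)

end

end Cfsg.Agent.BM.StageWSurj
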