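import Cfsg.Agent.BM.KH
import Cfsg.Agent.BM.StageWSurj

/-!
# The presented Baby Monster: unconditional statements (helper62)

`KH.lean` with the surjectivity of helper922 (`StageWSurj`).
-/

set_option autoImplicit false

namespace Cfsg.Agent.BM.KHAll

open Cfsg.Agent.BabyM Cfsg.Agent.BM.FactsB Cfsg.Agent.BM.StageBFinalOf Cfsg.Spor Cfsg.Spor.BabyMonster

theorem surj : Function.Surjective KH.f :=
  StageW.hom_surjective Instance.all Instance.ok (StageWSurj.closure_x Instance.all Instance.ok)

/-- The presented Baby Monster is isomorphic to the group of the concrete model. -/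
noncomputable def iso : Spor.BabyMonster ≃* Inst.M.G := KH.iso surj

theorem iso_gB (t : Gen) : iso (gB t) = StageW.x t := KH.f_gB t

theorem card_B : Nat.card Spor.BabyMonster = 4154781481226426191177580544000000 := KH.card_B surj

/-- **S1704.** -/
theorem isB : Cfsg.IsB Spor.BabyMonster := KH.isB surj

theorem card_conj (t : Gen) : Nat.card (conjugatesOf (gB t)) = 13571955000 := KH.card_conj surj t

theorem card_cent (t : Gen) :
    Nat.card (Subgroup.centralizer ({gB t} : Set Spor.BabyMonster)) = 306129918735099415756800 :=
  KH.card_cent surj t

theorem index_cent (t : Gen) :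
    (Subgroup.centralizer ({gB t} : Set Spor.BabyMonster)).index = 13571955000 := by
  have h := (Subgroup.centralizer ({gB t} : Set Spor.BabyMonster)).card_mul_index
  rw [card_cent t, card_B] at h
  omega

theorem card_H : Nat.card (HB gB) = 2 * 76532479683774853939200 := KH.card_H surj

theorem index_H : (HB gB).index = 27143910000 := KH.index_H surj

end Cfsg.Agent.BM.KHAll
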