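import Cfsg.Agent.BM.Tab
import Cfsg.Agent.BM.Script

/-!
Word oracles from permutation representations: elements are compared by the packed images (16 bits each) of the points
of a base; letters act through packed tables.
-/

set_option autoImplicit false

namespace Cfsg.Agent.BM.PermOracle

open Cfsg.Agent.Lib.PermNet Cfsg.Agent.BM.Tab

/-- Apply a function to `n` lanes of 16 bits. -/
noncomputable def lanes (g : ℕ → ℕ) (n : ℕ) : ℕ → ℕ :=
  Nat.rec (motive := fun _ => ℕ → ℕ) (fun _ => 0)
    (fun _ ih P => Nat.lor (g (Nat.land P 65535)) (Nat.shiftLeft (ih (Nat.shiftRight P 16)) 16)) n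

/-- Pack a list into lanes. -/
def pk (l : List ℕ) : ℕ :=
  match l with
  | [] => 0
  | a :: l => a ||| (pk l <<< 16)

theorem pk_nil : pk [] = 0 := rfl
theorem pk_cons (a : ℕ) (l : List ℕ) : pk (a :: l) = a ||| (pk l <<< 16) := rfl

theorem pk_cons_land {a : ℕ} (ha : a < 2 ^ 16) (l : List ℕ) : pk (a :: l) &&& 65535 = a := by
  rw [pk_cons]
  apply Nat.eq_of_testBit_eq
  intro i
  rw [show (65535 : ℕ) = 2 ^ 16 - 1 by norm_num]
  simp only [Nat.testBit_and, Nat.testBit_or, Nat.testBit_shiftLeft, Nat.testBit_two_pow_sub_one]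
  by_cases hi : i < 16
  · have : ¬ (i ≥ 16) := by omega
    simp [hi, this]
  · have : a.testBit i = false :=
      Nat.testBit_lt_two_pow (lt_of_lt_of_le ha (Nat.pow_le_pow_right (by norm_num) (by omega)))
    simp [hi, this]

theorem pk_cons_shift {a : ℕ} (ha : a < 2 ^ 16) (l : List ℕ) : pk (a :: l) >>> 16 = pk l := by
  rw [pk_cons]
  apply Nat.eq_of_testBit_eq
  intro i
  simp only [Nat.testBit_shiftRight, Nat.testBit_or, Nat.testBit_shiftLeft]
  have h1 : a.testBit (16 + i) = false :=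
    Nat.testBit_lt_two_pow (lt_of_lt_of_le ha (Nat.pow_le_pow_right (by norm_num) (by omega)))
  have h2 : 16 + i ≥ 16 := by omega
  have h3 : 16 + i - 16 = i := by omega
  simp [h1, h2, h3]

theorem lanes_pk (g : ℕ → ℕ) (l : List ℕ) (h : ∀ a ∈ l, a < 2 ^ 16) :
    lanes g l.length (pk l) = pk (l.map g) := by
  induction l with
  | nil => rfl
  | cons a l ih =>
    show (g (pk (a :: l) &&& 65535)) ||| (lanes g l.length (pk (a :: l) >>> 16)) <<< 16 = _
    rw [pk_cons_land (h a List.mem_cons_self), pk_cons_shift (h a List.mem_cons_self),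
      ih (fun b hb => h b (List.mem_cons_of_mem _ hb)), List.map_cons, pk_cons]

theorem pk_inj : ∀ (l l' : List ℕ), l.length = l'.length → (∀ a ∈ l, a < 2 ^ 16) → (∀ a ∈ l', a < 2 ^ 16) →
    pk l = pk l' → l = l' := by
  intro l
  induction l with
  | nil => intro l' hl _ _ _; exact (List.length_eq_zero_iff.1 hl.symm).symm
  | cons a l ih =>
    intro l' hl h h' e
    cases l' with
    | nil => simp at hl
    | cons b l' =>
      have h1 := pk_cons_land (h a List.mem_cons_self) l
      have h2 := pk_cons_land (h' b List.mem_cons_self) l'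
      have h3 := pk_cons_shift (h a List.mem_cons_self) l
      have h4 := pk_cons_shift (h' b List.mem_cons_self) l'
      rw [e, h2] at h1
      rw [e, h4] at h3
      rw [← h1, ih l' (by simpa using hl) (fun c hc => h c (List.mem_cons_of_mem _ hc))
        (fun c hc => h' c (List.mem_cons_of_mem _ hc)) h3.symm]

/-- Images of the base points under the inverse of an element (right action). -/
noncomputable def img {P : Type*} [Group P] (ρ : P →* Equiv.Perm ℕ) (base : List ℕ) (x : P) : ℕ :=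
  pk (base.map (fun b => ρ x⁻¹ b))

theorem img_one {P : Type*} [Group P] (ρ : P →* Equiv.Perm ℕ) (base : List ℕ) :
    img ρ base 1 = pk base := by
  unfold img
  congr 1
  conv_rhs => rw [← List.map_id base]
  apply List.map_congr_left
  intro b _
  simp

theorem img_inj {P : Type*} [Group P] (ρ : P →* Equiv.Perm ℕ) (base : List ℕ) {N : ℕ} (hN : N ≤ 2 ^ 16)
    (hlt : ∀ (x : P) (p : ℕ), p < N → ρ x p < N) (hb : ∀ b ∈ base, b < N)
    (hbase : ∀ x : P, (∀ b ∈ base, ρ x b = b) → x = 1) : Function.Injective (img ρ base) := by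
  intro x y h
  have h1 := pk_inj _ _ (by rw [List.length_map, List.length_map]) (by
    intro a ha
    obtain ⟨b, hb', rfl⟩ := List.mem_map.1 ha
    have := hlt x⁻¹ b (hb b hb')
    show ρ x⁻¹ b < 2 ^ 16
    omega) (by
    intro a ha
    obtain ⟨b, hb', rfl⟩ := List.mem_map.1 ha
    have := hlt y⁻¹ b (hb b hb')
    show ρ y⁻¹ b < 2 ^ 16
    omega) h
  have h2 : ∀ b ∈ base, ρ x⁻¹ b = ρ y⁻¹ b := by
    intro b hb'
    exact (List.map_inj_left.1 h1) b hb'
  have h3 := hbase (y * x⁻¹) (by
    intro b hb'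
    rw [map_mul, Equiv.Perm.mul_apply, h2 b hb', ← Equiv.Perm.mul_apply, ← map_mul, mul_inv_cancel, map_one]
    rfl)
  exact (mul_inv_eq_one.1 h3).symm

/-- Action of one letter. -/
theorem lanes_img {P : Type*} [Group P] (ρ : P →* Equiv.Perm ℕ) (base : List ℕ) {N : ℕ} (hN : N ≤ 2 ^ 16)
    (hlt : ∀ (x : P) (p : ℕ), p < N → ρ x p < N) (hb : ∀ b ∈ base, b < N)
    (t : ℕ → ℕ) (g : P) (ht : ∀ p < N, t p = ρ g⁻¹ p) (x : P) :
    lanes t base.length (img ρ base x) = img ρ base (x * g) := by
  unfold img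
  have h := lanes_pk t (base.map (fun b => ρ x⁻¹ b)) (by
    intro a ha
    obtain ⟨b, hb', rfl⟩ := List.mem_map.1 ha
    have := hlt x⁻¹ b (hb b hb')
    show ρ x⁻¹ b < 2 ^ 16
    omega)
  rw [List.length_map] at h
  rw [h, List.map_map]
  congr 1
  apply List.map_congr_left
  intro b hb'
  show t (ρ x⁻¹ b) = ρ (x * g)⁻¹ b
  rw [ht _ (hlt x⁻¹ b (hb b hb')), mul_inv_rev, map_mul]
  rfl

end Cfsg.Agent.BM.PermOracle
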