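import Cfsg.Agent.BM.CertA22Data
import Cfsg.Agent.BM.CovB
import Cfsg.Agent.BM.StageABip

/-!
# Stage A over `Fi22` (helper924)

If `s : Fin 10 → G` satisfies `RelA s` then `⟨s⟩` is finite of order at most `|Fi22| · 1185415168 = |²E₆(2)|`
(`StageAFinal` for the group presented by the relations of `Y₃₃₃` in which all `E₇` words have ninth power one).
-/

set_option autoImplicit false
set_option maxRecDepth 100000
set_option linter.constructorNameAsVariable false

namespace Cfsg.Agent.BM.StageA22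

open Cfsg.Spor Cfsg.Agent.BM Cfsg.Agent.BM.StA Cfsg.Agent.BM.StageAData Cfsg.Agent.BM.CertA22

variable {G : Type*} [Group G] {s : Fin 10 → G}

/-- `H = ⟨s 0, …, s 9⟩` -/
def H (s : Fin 10 → G) : Subgroup G := Subgroup.closure (Set.range s)

theorem mem_H (s : Fin 10 → G) (i : Fin 10) : s i ∈ H s := Subgroup.subset_closure ⟨i, rfl⟩

theorem m0_ne (g : Fi22.Gen) : m0 g ∈ ({0, 1, 2, 3, 4, 5, 6, 7, 8} : Set (Fin 10)) := by
  cases g <;> simp [m0]

theorem range_f0_le (h : RelA s) : h.f0.range ≤ X s := by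
  rw [MonoidHom.range_eq_map, ← PresentedGroup.closure_range_of, MonoidHom.map_closure, Subgroup.closure_le]
  rintro _ ⟨_, ⟨g, rfl⟩, rfl⟩
  show h.f0 (StA.gen g) ∈ X s
  rw [h.f0_gen g]
  exact mem_X s _ (m0_ne g)

theorem mem_range_f0 (h : RelA s) (g : Fi22.Gen) : s (m0 g) ∈ h.f0.range := ⟨_, h.f0_gen g⟩

theorem X_le_range (h : RelA s) : X s ≤ h.f0.range := by
  unfold X
  rw [Subgroup.closure_le]
  intro y hy
  simp only [Set.mem_insert_iff, Set.mem_singleton_iff] at hy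
  rcases hy with rfl | rfl | rfl | rfl | rfl | rfl | rfl | rfl | rfl
  · exact mem_range_f0 h .g
  · exact mem_range_f0 h .f
  · exact mem_range_f0 h .e
  · exact mem_range_f0 h .d
  · exact mem_range_f0 h .c
  · exact mem_range_f0 h .b
  · exact mem_range_f0 h .a
  · exact mem_range_f0 h .h
  · exact mem_range_f0 h .i

theorem map_top (h : RelA s) : (⊤ : Subgroup Spor.Fi22).map h.f0 = X s := by
  rw [← MonoidHom.range_eq_map]
  exact le_antisymm (range_f0_le h) (X_le_range h)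

theorem X_le_H (s : Fin 10 → G) : X s ≤ H s := by
  unfold X
  rw [Subgroup.closure_le]
  intro y hy
  simp only [Set.mem_insert_iff, Set.mem_singleton_iff] at hy
  rcases hy with rfl | rfl | rfl | rfl | rfl | rfl | rfl | rfl | rfl <;> exact mem_H s _

theorem finite_Fi22 : Finite Spor.Fi22 :=
  Nat.finite_of_card_ne_zero (by rw [Fi22O.card_fi22]; norm_num)

theorem finite_X (h : RelA s) : Finite (X s) := by
  have := finite_Fi22
  rw [← map_top h]
  exact Finite.of_surjective _ (h.f0.subgroupMap_surjective ⊤)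

theorem card_X_le (h : RelA s) : Nat.card (X s) ≤ 64561751654400 := by
  have := finite_Fi22
  rw [← map_top h]
  refine (Nat.card_le_card_of_surjective _ (h.f0.subgroupMap_surjective ⊤)).trans ?_
  rw [← Fi22O.card_fi22, Subgroup.card_top]

theorem range_f1_le (h : RelA s) : h.f1.range ≤ H s := by
  rw [MonoidHom.range_eq_map, ← PresentedGroup.closure_range_of, MonoidHom.map_closure, Subgroup.closure_le]
  rintro _ ⟨_, ⟨g, rfl⟩, rfl⟩
  show h.f1 (StA.gen g) ∈ H s
  rw [h.f1_gen g]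
  exact mem_H s _

theorem H_le (h : RelA s) : H s ≤ Subgroup.closure ((X s : Set G) ∪ h.f1.range) := by
  unfold H
  rw [Subgroup.closure_le]
  rintro _ ⟨i, rfl⟩
  have k1 : ∀ t : Fin 10, t ∈ ({0, 1, 2, 3, 4, 5, 6, 7, 8} : Set (Fin 10)) →
      s t ∈ Subgroup.closure ((X s : Set G) ∪ h.f1.range) := fun t ht =>
    Subgroup.subset_closure (Or.inl (mem_X s t ht))
  have k2 : s 9 ∈ Subgroup.closure ((X s : Set G) ∪ h.f1.range) :=
    Subgroup.subset_closure (Or.inr ⟨_, h.f1_gen .g⟩)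
  fin_cases i
  · exact k1 0 (by simp)
  · exact k1 1 (by simp)
  · exact k1 2 (by simp)
  · exact k1 3 (by simp)
  · exact k1 4 (by simp)
  · exact k1 5 (by simp)
  · exact k1 6 (by simp)
  · exact k1 7 (by simp)
  · exact k1 8 (by simp)
  · exact k2

/-! ### Words -/

theorem e0_mem (h : RelA s) (u : ℕ) : e0 h u ∈ X s := by
  rw [← map_top h]
  exact ⟨_, Subgroup.mem_top _, rfl⟩

theorem e1_mem (h : RelA s) (u : ℕ) : e1 h u ∈ h.f1.range := ⟨_, rfl⟩

theorem e1_mem_H (h : RelA s) (u : ℕ) : e1 h u ∈ H s := range_f1_le h (e1_mem h u)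

theorem e0_mem_H (h : RelA s) (u : ℕ) : e0 h u ∈ H s := X_le_H s (e0_mem h u)

/-! ### The nodes lie in `H` -/

theorem wn0_mem (h : RelA s) : wn0 h ∈ H s := (H s).one_mem
theorem wn8_mem (h : RelA s) : wn8 h ∈ H s := (H s).mul_mem (wn0_mem h) (e0_mem_H h _)
theorem wn1_mem (h : RelA s) : wn1 h ∈ H s := (H s).mul_mem (wn8_mem h) (e1_mem_H h _)
theorem wn2_mem (h : RelA s) : wn2 h ∈ H s := (H s).mul_mem (wn8_mem h) (e1_mem_H h _)
theorem wn9_mem (h : RelA s) : wn9 h ∈ H s := (H s).mul_mem (wn1_mem h) (e0_mem_H h _)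
theorem wn10_mem (h : RelA s) : wn10 h ∈ H s := (H s).mul_mem (wn2_mem h) (e0_mem_H h _)
theorem wn11_mem (h : RelA s) : wn11 h ∈ H s := (H s).mul_mem (wn1_mem h) (e0_mem_H h _)
theorem wn3_mem (h : RelA s) : wn3 h ∈ H s := (H s).mul_mem (wn10_mem h) (e1_mem_H h _)
theorem wn4_mem (h : RelA s) : wn4 h ∈ H s := (H s).mul_mem (wn11_mem h) (e1_mem_H h _)
theorem wn12_mem (h : RelA s) : wn12 h ∈ H s := (H s).mul_mem (wn4_mem h) (e0_mem_H h _)
theorem wn13_mem (h : RelA s) : wn13 h ∈ H s := (H s).mul_mem (wn3_mem h) (e0_mem_H h _)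

theorem v_mem (h : RelA s) (j : Fin 6) : w h (8 + j.val) ∈ H s := by
  fin_cases j
  · exact wn8_mem h
  · exact wn9_mem h
  · exact wn10_mem h
  · exact wn11_mem h
  · exact wn12_mem h
  · exact wn13_mem h

/-! ### The assembly -/

/-- Words stabilising a coset generate a subgroup stabilising it. -/
theorem clo_stab {K : Subgroup G} {Q : Type*} [Group Q] (φ : Q →* G) (c : G) {Z : Set Q}
    (h : ∀ z ∈ Z, c * φ z * c⁻¹ ∈ K) : ∀ z ∈ Subgroup.closure Z, c * φ z * c⁻¹ ∈ K := by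
  intro z hz
  have : Subgroup.closure Z ≤ (K.comap ((MulAut.conj c).toMonoidHom.comp φ)) := by
    rw [Subgroup.closure_le]
    intro y hy
    show c * φ y * c⁻¹ ∈ K
    exact h y hy
  exact this hz

/-- The common subgroup `⟨t3, …, t10⟩`, seen from the first `Fi22`. -/
theorem f0_O_mem (h : RelA s) : ∀ y ∈ gp22 mO, h.f0 y ∈ h.f1.range := by
  intro y hy
  have : gp22 mO ≤ (h.f1.range).comap h.f0 := by
    unfold gp22
    rw [Subgroup.closure_le]
    rintro _ ⟨d, hd, rfl⟩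
    show h.f0 (g22 d) ∈ h.f1.range
    rw [f0_g22, glue d hd, ← f1_bgen h d]
    exact ⟨_, rfl⟩
  exact this hy

/-- The common subgroup `⟨t3, …, t10⟩`, seen from the second `Fi22`. -/
theorem f1_O_mem (h : RelA s) : ∀ y ∈ CovB.gpB CovB.mO, h.f1 y ∈ (⊤ : Subgroup Spor.Fi22).map h.f0 := by
  intro y hy
  have : CovB.gpB CovB.mO ≤ ((⊤ : Subgroup Spor.Fi22).map h.f0).comap h.f1 := by
    unfold CovB.gpB
    rw [Subgroup.closure_le]
    rintro _ ⟨d, hd, rfl⟩
    show h.f1 (PairOracle.bgen d) ∈ (⊤ : Subgroup Spor.Fi22).map h.f0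
    rw [f1_bgen, ← glue d hd, ← f0_g22 h d]
    exact ⟨_, Subgroup.mem_top _, rfl⟩
  exact this hy

/-- The covering of the `A`-nodes over `Fi22`. -/
def CovA22St : Prop :=
  ∀ (i : Fin 8) (k : Spor.Fi22), ∃ e : Fin 32, srcE e = i ∧
    ∃ s ∈ Subgroup.closure {y | ∃ u ∈ wsA i, E22 u = y}, ∃ y ∈ gp22 mO, k = s * E22 (aE e) * y

/-- The index of `X = ⟨s 0, …, s 8⟩` in `H = ⟨s⟩` is at most 1185415168. -/
theorem relIndex_le_of (hcov : CovA22St) (h : RelA s) :
    (X s).relIndex (H s) ≠ 0 ∧ (X s).relIndex (H s) ≤ 1185415168 := by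
  have key := StageABip.relIndex_le_of_bip (ι := Fin 8) (ι₂ := Fin 6) h.f0 h.f1 (⊤ : Subgroup Spor.Fi22)
    (gp22 mO) (CovB.gpB CovB.mO) le_top (f0_O_mem h) (f1_O_mem h)
    (fun i => w h i.val) (fun j => w h (8 + j.val))
    (fun i => Subgroup.closure {y | ∃ u ∈ wsA i, E22 u = y}) (by
      intro i
      rw [map_top h]
      refine clo_stab h.f0 _ ?_
      rintro _ ⟨u, hu, rfl⟩
      exact stabA h i u hu)
    (fun j => Subgroup.closure {y | ∃ u ∈ wsB j, CovB.EB u = y}) (by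
      intro j
      rw [map_top h]
      refine clo_stab h.f1 _ ?_
      rintro _ ⟨u, hu, rfl⟩
      exact stabB h j u hu)
    (fun i => {m | ∃ e : Fin 32, srcE e = i ∧ E22 (aE e) = m}) (by
      rintro i _ ⟨e, rfl, rfl⟩
      exact Subgroup.mem_top _) (by
      rintro i _ ⟨e, rfl, rfl⟩
      rw [map_top h]
      exact ⟨tgtE e, e1 h (bE e), e1_mem h _, same h e⟩)
    (fun j => {m | ∃ e : Fin 32, tgtE e = j ∧ CovB.EB (bE e) = m}) (by
      rintro j _ ⟨e, rfl, rfl⟩
      rw [map_top h]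
      exact ⟨srcE e, e0 h (aE e), e0_mem h _, same h e⟩)
    (by
      intro i k _
      obtain ⟨e, he, s, hs, y, hy, h1⟩ := hcov i k
      exact ⟨_, ⟨e, he, rfl⟩, s, hs, y, hy, h1⟩)
    (by
      intro j k
      obtain ⟨e, he, s, hs, y, hy, h1⟩ := CovB.covB j k
      exact ⟨_, ⟨e, he, rfl⟩, s, hs, y, hy, h1⟩)
    ⟨0, by
      rw [map_top h]
      show wn8 h ∈ X s
      unfold wn8 wn0
      rw [e0_zero, one_mul]
      exact (X s).one_mem⟩
    (H s) (range_f1_le h) (by rw [map_top h]; exact H_le h) (v_mem h) CovB.idxB (CovB.indexB)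
  rw [map_top h, CovB.sum_idxB] at key
  exact key

/-- **Stage A over `Fi22`**: `|⟨s⟩| ≤ |²E₆(2)|`. -/
theorem main_of (hcov : CovA22St) (h : RelA s) : Finite (H s) ∧ Nat.card (H s) ≤ 76532479683774853939200 := by
  obtain ⟨h0, hn⟩ := relIndex_le_of hcov h
  have key := StageA.card_le_of_relIndex (X s) (H s) (X_le_H s) (finite_X h) (card_X_le h) h0 hn
  exact ⟨key.1, key.2.trans (by norm_num)⟩

end Cfsg.Agent.BM.StageA22
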