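import Cfsg.Agent.BM.Fi22O

/-!
Stage A of S1704, B-side nodes (helper264): for every node `j` the generator words `T j` of its stabiliser, the edge
words `M j`, the covering `Fi₂₂ = ⋃ ⟨T j⟩ m O` and the index bound.  Letters: `a b c d e f g h i` are
`t8 t7 t6 t5 t9 t10 t11 t4 t3`.  Generated by a program.
-/

set_option autoImplicit false
set_option maxRecDepth 100000
set_option Elab.async false

namespace Cfsg.Agent.BM.StageAB

open Cfsg.Spor Cfsg.Spor.Fi22 Cfsg.Agent.BM.NodeLib Cfsg.Agent.BM.Fi22O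

/-! ### node B2: order 4245696, index 15206400 -/

def T2 : List (List Gen) :=
  [[.f, .d, .c, .h, .d, .c, .b, .e, .d, .i, .h, .d, .c, .b, .e, .d, .h, .c, .d, .f, .e, .d, .h, .c, .d, .b, .c],
   [.f, .b, .c, .b, .d, .e, .f, .h, .d, .c, .b, .e, .d, .h, .c, .f, .e, .g]]

def M2 : List (List Gen) :=
  [[],
   [.a, .b, .c, .d, .e, .f, .h, .d, .c, .b, .e, .d, .i, .h, .d, .c, .b, .a, .e, .d, .g, .f, .e, .d, .h, .i,
    .c, .d, .h, .b, .c, .d, .e, .f, .g],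
   [.f, .a, .b, .a, .c, .b, .a, .e, .f, .d, .c, .b, .a, .e, .d, .c, .b, .f, .e, .d, .c, .g],
   [.a, .b, .c, .b, .a, .e, .f, .d, .e, .f, .h, .d, .c, .b, .e, .i, .h, .d, .c, .b, .a, .e, .d, .h, .i, .c,
    .d, .b, .c, .e, .g, .f, .e, .d, .h, .i, .c, .d, .h, .b, .c, .d, .a, .b, .e, .d, .h, .c, .d, .f, .e, .d,
    .c, .g]]

def C2 : List Rep.Lev :=
  [⟨3069, 12636, 13, [[0], [2]]⟩,
   ⟨9582, 336, 4, [[1, 3, 0, 3, 1, 3, 0, 3, 1, 3], [3, 0, 3, 0, 3, 0, 2, 1, 3, 0, 2], [3, 0, 0, 2, 0, 2, 1,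
    3, 1, 1, 2]]⟩]

theorem chain2 : R.chainB T2 C2 [] = true := by decide +kernel

theorem covB2 : R.covB T2 M2 0 13 U = true := by decide +kernel

/-- the index of the stabiliser of node B2 -/
theorem index2 : (R.clo T2).index ≠ 0 ∧ (R.clo T2).index ≤ 15206400 :=
  index_of_chain chain2 (m := 4245696) (by decide) (by norm_num) (by norm_num)

/-- the covering of node B2 -/
theorem cov2 (k : Spor.Fi22) :
    ∃ m ∈ M2, ∃ s ∈ R.clo T2, ∃ x ∈ O, k = s * R.wd m * x :=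
  cov_of_check covB2 k

/-! ### node B3: order 161280, index 400308480 -/

def T3 : List (List Gen) :=
  [[.e, .d, .c, .h, .d, .g],
   [.a, .b, .a, .c, .b, .e, .f, .d, .c, .b, .a, .e, .d, .c, .b, .f, .e, .d, .c, .h, .d, .c, .b, .e, .d, .h,
    .c, .d, .f, .e, .d, .h, .c, .d, .b, .c, .a, .i, .h, .d, .c, .b, .e, .d, .h, .i, .c, .d, .h, .e, .d, .c,
    .b]]

def M3 : List (List Gen) :=
  [[],
   [.f, .g],
   [.e, .i, .h, .d, .c, .b, .a, .e, .d, .h, .i, .c, .d, .b, .c, .e, .d, .f, .e, .d, .h, .i, .c, .d, .h, .e,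
    .f, .g],
   [.b, .d, .c, .i, .h, .d, .e, .f, .g],
   [.f, .a, .b, .a, .c, .b, .e, .d, .c, .b, .a, .e, .d, .c, .b, .f, .e, .d, .i, .h, .d, .e, .f, .g],
   [.f, .a, .c, .b, .a, .e, .d, .c, .b, .h, .d, .i, .h, .d, .c, .b, .g, .f, .e, .d, .h, .i, .c, .d, .h, .b,
    .c, .d, .e, .d, .h, .i, .c, .b, .a, .f, .g],
   [.b, .a, .c, .d, .c, .b, .h, .i, .h, .d, .c, .b, .a, .e, .d, .h, .c, .d, .b, .f, .e, .d, .h, .c, .g, .f,
    .e, .d, .h, .i, .c, .d, .h, .b, .c, .d, .a, .b, .c, .e, .d, .h, .i, .c, .d, .b, .c, .f, .e, .d, .h, .i,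
    .g],
   [.f, .a, .b, .a, .c, .b, .a, .e, .d, .c, .b, .a, .e, .d, .c, .b, .f, .e, .d, .c, .i, .h, .d, .c, .b, .a,
    .e, .d, .h, .i, .c, .d, .e, .f, .e, .d, .h, .i, .c, .d, .h, .b, .c, .d, .a, .e, .g, .f, .e, .d, .h, .i],
   [.f, .c, .b, .a, .e, .d, .c, .h, .d, .c, .b, .a, .e, .d, .h, .c, .d, .f, .e, .d, .h, .c, .d, .b, .i, .h,
    .d, .c, .b, .a, .e, .d, .c, .b, .f, .e, .d, .h, .i, .c, .d, .g, .f, .e, .d, .h, .i, .c, .d, .h, .b, .c,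
    .d, .a, .b, .e, .d, .h, .c, .b, .f, .e, .d, .h, .i, .c, .g, .f, .e, .d, .h, .i, .c, .d, .b]]

def C3 : List Rep.Lev :=
  [⟨14047, 6720, 9, [[0], [2], [0]]⟩,
   ⟨2, 24, 2, [[0, 2, 0, 3, 1, 2, 0, 0, 3], [2, 1, 2, 1, 2, 0, 3, 1, 2, 0], [0, 0, 3, 0, 2, 1, 2, 0, 2, 2]]⟩]

theorem chain3 : R.chainB T3 C3 [] = true := by decide +kernel

theorem covB3 : R.covB T3 M3 0 12 U = true := by decide +kernel

/-- the index of the stabiliser of node B3 -/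
theorem index3 : (R.clo T3).index ≠ 0 ∧ (R.clo T3).index ≤ 400308480 :=
  index_of_chain chain3 (m := 161280) (by decide) (by norm_num) (by norm_num)

/-- the covering of node B3 -/
theorem cov3 (k : Spor.Fi22) :
    ∃ m ∈ M3, ∃ s ∈ R.clo T3, ∃ x ∈ O, k = s * R.wd m * x :=
  cov_of_check covB3 k

end Cfsg.Agent.BM.StageAB
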