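import Cfsg.Agent.BM.Fi22O

/-!
Stage A of S1704, B-side nodes (helper264): for every node `j` the generator words `T j` of its stabiliser, the edge
words `M j`, the covering `Fi₂₂ = ⋃ ⟨T j⟩ m O` and the index bound.  Letters: `a b c d e f g h i` are
`t8 t7 t6 t5 t9 t10 t11 t4 t3`.  Generated by a program.
-/

set_option autoImplicit false
set_option maxRecDepth 100000
set_option Elab.async false

namespace Cfsg.Agent.BM.StageAB

open Cfsg.Spor Cfsg.Spor.Fi22 Cfsg.Agent.BM.NodeLib Cfsg.Agent.BM.Fi22O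

/-! ### node B4: order 887040, index 72783360 -/

def T4 : List (List Gen) :=
  [[.c, .b, .e, .f, .d, .c, .b, .a, .e, .d, .c, .b],
   [.f, .c, .b, .a, .e, .f, .d, .h, .d, .c, .b, .a, .e, .d, .c, .b, .f, .e, .d, .c, .i, .h, .d, .c, .b, .a,
    .e, .d, .h, .c, .f, .g, .f, .e, .d, .h, .i, .c, .d, .b, .c, .a, .b, .e, .d, .h, .c, .d, .e, .f, .e, .d,
    .h, .c]]

def M4 : List (List Gen) :=
  [[],
   [.c, .h, .d, .e, .f, .g],
   [.h, .d, .c, .i, .h, .d, .e, .f, .g],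
   [.f, .a, .c, .b, .a, .e, .f, .d, .h, .d, .c, .b, .a, .e, .d, .h, .c, .d, .b, .c, .f, .e, .d, .h, .c, .d,
    .b, .c, .e, .i, .h, .d, .c, .b, .a, .e, .d, .h, .i, .c, .d, .b, .c, .e, .d, .g, .f, .e, .d, .h, .i, .c,
    .d, .h, .b, .c, .d, .a, .b, .e, .d, .h, .c, .d, .b, .f, .e, .d, .h, .i, .c, .d, .h, .b, .a, .g],
   [.g]]

def C4 : List Rep.Lev :=
  [⟨9974, 7392, 12, [[0], [2]]⟩,
   ⟨1, 120, 3, [[2, 0, 3, 0, 2, 2], [1, 3, 3, 1, 3, 0, 2, 2, 2, 1], [0, 3, 0, 3, 0, 2, 0, 2, 2, 1, 2, 0, 3]]⟩]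

theorem chain4 : R.chainB T4 C4 [] = true := by decide +kernel

theorem covB4 : R.covB T4 M4 0 13 U = true := by decide +kernel

/-- the index of the stabiliser of node B4 -/
theorem index4 : (R.clo T4).index ≠ 0 ∧ (R.clo T4).index ≤ 72783360 :=
  index_of_chain chain4 (m := 887040) (by decide) (by norm_num) (by norm_num)

/-- the covering of node B4 -/
theorem cov4 (k : Spor.Fi22) :
    ∃ m ∈ M4, ∃ s ∈ R.clo T4, ∃ x ∈ O, k = s * R.wd m * x :=
  cov_of_check covB4 k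

end Cfsg.Agent.BM.StageAB
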