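import Cfsg.Agent.BM.Fi22O

/-!
Stage A of S1704, B-side nodes (helper264): for every node `j` the generator words `T j` of its stabiliser, the edge
words `M j`, the covering `Fi₂₂ = ⋃ ⟨T j⟩ m O` and the index bound.  Letters: `a b c d e f g h i` are
`t8 t7 t6 t5 t9 t10 t11 t4 t3`.  Generated by a program.
-/

set_option autoImplicit false
set_option maxRecDepth 100000
set_option Elab.async false

namespace Cfsg.Agent.BM.StageAB

open Cfsg.Spor Cfsg.Spor.Fi22 Cfsg.Agent.BM.NodeLib Cfsg.Agent.BM.Fi22O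

/-! ### node B0: order 4585351680, index 14080 -/

def T0 : List (List Gen) :=
  [[.a],
   [.c],
   [.e],
   [.b],
   [.f],
   [.h],
   [.d],
   [.i]]

def M0 : List (List Gen) :=
  [[],
   [.g],
   [.g, .f, .e, .d, .h, .i, .c, .d, .h, .b, .c, .d, .e, .f, .g]]

def C0 : List Rep.Lev :=
  [⟨13928, 10920, 6, [[0], [2], [4], [6], [12], [10], [8, 14]]⟩,
   ⟨13966, 4374, 5, [[6, 12, 10, 14, 10, 12, 2, 4, 12], [0, 2, 4, 6, 0, 2, 6, 8, 4, 10], [2, 8, 10, 12, 2,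
    14, 10], [4, 6, 8, 4, 10]]⟩,
   ⟨5, 96, 2, [[0, 2, 6, 0, 2], [6, 12, 10, 14, 10, 12, 2, 4, 12, 6, 12, 10, 14, 10, 12, 2, 4, 12, 2, 8, 10,
    12, 2, 14, 10, 4, 6, 8, 4, 15, 3, 13, 11, 9, 3, 11, 5, 9, 7, 3, 1, 7, 5, 3, 1], [6, 12, 10, 14, 10, 12,
    2, 4, 12, 4, 6, 8, 4, 10, 2, 8, 10, 12, 2, 14, 10, 6, 12, 10, 14, 10, 12, 2, 4, 12, 6, 12, 10, 14, 10,
    12, 2, 4, 12, 11, 15, 3, 13, 11, 9, 3, 13, 5, 3, 13, 11, 15, 11, 13, 7, 11, 5, 9, 7, 3, 1, 7, 5, 3, 1],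
    [2, 8, 10, 12, 2, 14, 10, 6, 12, 10, 14, 10, 12, 2, 4, 12, 6, 12, 10, 14, 10, 12, 2, 4, 12, 2, 8, 10, 12,
    2, 14, 10, 6, 12, 10, 14, 10, 12, 2, 4, 12, 11, 5, 9, 7, 5, 13, 5, 3, 13, 11, 15, 11, 13, 7, 11, 15, 3,
    13, 11, 9, 3, 13, 5, 3, 13, 11, 15, 11, 13, 7, 13, 5, 3, 13, 11, 15, 11, 13, 7]]⟩]

theorem chain0 : R.chainB T0 C0 [] = true := by decide +kernel

theorem covB0 : R.covB T0 M0 0 8 U = true := by decide +kernel

/-- the index of the stabiliser of node B0 -/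
theorem index0 : (R.clo T0).index ≠ 0 ∧ (R.clo T0).index ≤ 14080 :=
  index_of_chain chain0 (m := 4585351680) (by decide) (by norm_num) (by norm_num)

/-- the covering of node B0 -/
theorem cov0 (k : Spor.Fi22) :
    ∃ m ∈ M0, ∃ s ∈ R.clo T0, ∃ x ∈ O, k = s * R.wd m * x :=
  cov_of_check covB0 k

/-! ### node B1: order 3628800, index 17791488 -/

def T1 : List (List Gen) :=
  [[.a],
   [.e],
   [.i],
   [.f],
   [.h],
   [.d],
   [.b],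
   [.b, .c, .d, .e, .f, .h, .d, .c, .e, .d, .h, .i, .h, .d, .c, .e, .d, .h, .f, .e, .d, .c, .b],
   [.g]]

def M1 : List (List Gen) :=
  [[],
   [.a, .b, .c, .b, .d, .e, .f, .h, .d, .c, .e, .d, .h, .i, .h, .d, .c, .e, .d, .h, .f, .e, .d, .c, .b, .g],
   [.b, .c, .b, .a, .d, .c, .e, .d, .f, .h, .d, .c, .b, .a, .e, .d, .h, .c, .b, .i, .h, .d, .e, .f, .g],
   [.a, .b, .c, .b, .a, .d, .c, .b, .e, .d, .f, .h, .d, .c, .e, .d, .h, .i, .h, .d, .c, .b, .a, .e, .d, .h,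
    .c, .d, .b, .f, .e, .d, .c, .b, .g]]

def C1 : List Rep.Lev :=
  [⟨8594, 5670, 3, [[0], [2], [12], [6], [8], [10], [14], [16]]⟩,
   ⟨6070, 640, 3, [[0, 2, 4, 16, 6, 2, 14, 12, 16], [4, 6, 2, 10, 2, 8, 16, 6, 2, 14], [2, 10, 2], [4, 8, 10,
    8, 4], [0, 12, 0]]⟩]

theorem chain1 : R.chainB T1 C1 [] = true := by decide +kernel

theorem covB1 : R.covB T1 M1 0 6 U = true := by decide +kernel

/-- the index of the stabiliser of node B1 -/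
theorem index1 : (R.clo T1).index ≠ 0 ∧ (R.clo T1).index ≤ 17791488 :=
  index_of_chain chain1 (m := 3628800) (by decide) (by norm_num) (by norm_num)

/-- the covering of node B1 -/
theorem cov1 (k : Spor.Fi22) :
    ∃ m ∈ M1, ∃ s ∈ R.clo T1, ∃ x ∈ O, k = s * R.wd m * x :=
  cov_of_check covB1 k

/-! ### node B5: order 95040, index 679311360 -/

def T5 : List (List Gen) :=
  [[.a, .e, .f, .d, .e, .h, .d, .c, .b, .a, .e, .d, .h, .c, .d, .b, .f, .i, .h, .d, .c, .b, .a],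
   [.d, .c, .h, .d, .c, .b, .e, .d, .h, .f, .e, .d, .c, .b, .i, .h, .d, .c, .b, .e, .d, .h, .c, .d, .f, .e,
    .d, .h, .c, .b, .a, .g, .f, .e, .d, .h, .i, .c, .d, .h, .b, .e, .d, .c, .f, .e, .d, .h]]

def M5 : List (List Gen) :=
  [[],
   [.g],
   [.f, .g],
   [.b, .d, .c, .h, .d, .e, .f, .g],
   [.f, .a, .d, .c, .b, .e, .d, .c, .h, .d, .e, .f, .g],
   [.c, .d, .g, .f, .e, .d, .h, .i, .c, .d, .h, .b, .c, .d, .e, .f, .g],
   [.b, .a, .c, .d, .c, .e, .d, .f, .e, .h, .d, .c, .b, .e, .d, .h, .f, .e, .d, .c, .b, .a, .i, .h, .d, .c,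
    .b, .e, .d, .h, .i, .c, .d, .g, .f, .e, .d, .h, .i, .c, .d, .h, .b, .c, .d, .a, .b, .e, .d, .h, .i, .c,
    .d, .h, .f, .e, .d, .h, .i, .g]]

def C5 : List Rep.Lev :=
  [⟨2, 5940, 8, [[0], [2], [0]]⟩,
   ⟨3, 16, 1, [[0, 2, 2, 0, 2, 1, 1], [3, 0, 0, 3, 1, 3, 1, 1, 2, 0, 2], [0, 0, 0, 2, 0, 2, 0, 0, 0, 2, 2,
    0], [0, 0, 3, 1, 3, 1, 1, 3, 1, 1, 2, 0, 3, 1, 3]]⟩]

theorem chain5 : R.chainB T5 C5 [] = true := by decide +kernel

theorem covB5 : R.covB T5 M5 0 12 U = true := by decide +kernel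

/-- the index of the stabiliser of node B5 -/
theorem index5 : (R.clo T5).index ≠ 0 ∧ (R.clo T5).index ≤ 679311360 :=
  index_of_chain chain5 (m := 95040) (by decide) (by norm_num) (by norm_num)

/-- the covering of node B5 -/
theorem cov5 (k : Spor.Fi22) :
    ∃ m ∈ M5, ∃ s ∈ R.clo T5, ∃ x ∈ O, k = s * R.wd m * x :=
  cov_of_check covB5 k

end Cfsg.Agent.BM.StageAB
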