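import Cfsg.Agent.BM.Script
import Cfsg.Agent.BM.OracleFi23

/-!
Mirror images of words (S1704, stage B; helper950): the swap `6 ↔ 9`, `7 ↔ 10`, `8 ↔ 11` of letters turns the words of
sort 0 into words of sort 1 with the same value in `Spor.Fi23`.
-/

set_option autoImplicit false

namespace Cfsg.Agent.BM.StageBMirror

open Cfsg.Agent.BM Cfsg.Agent.BM.Script

/-- Mirror image of a letter. -/
def mirD (d : ℕ) : ℕ :=
  bif Nat.beq d 6 then 9 else bif Nat.beq d 9 then 6 else bif Nat.beq d 7 then 10 else bif Nat.beq d 10 then 7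
  else bif Nat.beq d 8 then 11 else bif Nat.beq d 11 then 8 else d

/-- Mirror image of a word with at most `n` letters. -/
def mirF : ℕ → ℕ → ℕ
  | 0, _ => 0
  | n + 1, w => bif Nat.beq w 0 then 0 else mirD (w % 16) + 16 * mirF n (w / 16)

theorem mirD_lt {d : ℕ} (hd : d < 16) : mirD d < 16 := by
  unfold mirD
  simp only [cond_eq_ite, Nat.beq_eq]
  split_ifs <;> omega

theorem mirD_pos {d : ℕ} (hd : 0 < d) : 0 < mirD d := by
  unfold mirD
  simp only [cond_eq_ite, Nat.beq_eq]
  split_ifs <;> omega

theorem evF_mir {M : Type*} [Monoid M] {g0 g1 : ℕ → M} {m : ℕ} (h0 : m.testBit 0 = false)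
    (h : ∀ d, m.testBit d = true → g1 (mirD d) = g0 d) (n w : ℕ) (hw : wordInF m n w = true) :
    evF g1 n (mirF n w) = evF g0 n w := by
  induction n generalizing w with
  | zero => rw [evF_zero, evF_zero]
  | succ n ih =>
    rw [wordInF_succ] at hw
    rw [evF_succ g0, mirF]
    by_cases h1 : w = 0
    · subst h1
      rw [if_pos rfl]
      show evF g1 (n + 1) 0 = 1
      exact evF_zero_right _ _
    · rw [if_neg h1] at hw ⊢
      rw [Bool.and_eq_true] at hw
      have hb : Nat.beq w 0 = false := by
        rw [← Bool.not_eq_true]; exact fun h' => h1 (Nat.eq_of_beq_eq_true h')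
      rw [hb, cond_false]
      have hd : 0 < w % 16 := by
        rcases Nat.eq_zero_or_pos (w % 16) with h2 | h2
        · rw [h2, h0] at hw; exact absurd hw.1 (by simp)
        · exact h2
      have hp := mirD_pos hd
      have hl : mirD (w % 16) < 16 := mirD_lt (Nat.mod_lt _ (by norm_num))
      rw [evF_succ, if_neg (by omega)]
      have e1 : (mirD (w % 16) + 16 * mirF n (w / 16)) % 16 = mirD (w % 16) := by omega
      have e2 : (mirD (w % 16) + 16 * mirF n (w / 16)) / 16 = mirF n (w / 16) := by omega
      rw [e1, e2, h _ hw.1, ih _ hw.2]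

/-- The letters 1, …, 10. -/
def mask : ℕ := nat_lit 2046

theorem fgen_mir (d : ℕ) (hd : mask.testBit d = true) : OracleFi23.fgen 1 (mirD d) = OracleFi23.fgen 0 d := by
  have hlt : d < 11 := by
    by_contra hcon
    have : mask < 2 ^ d := lt_of_lt_of_le (by decide : mask < 2 ^ 11) (Nat.pow_le_pow_right (by norm_num) (by omega))
    rw [Nat.testBit_eq_false_of_lt this] at hd
    exact absurd hd (by simp)
  have hne : d ≠ 0 := by
    rintro rfl
    exact absurd hd (by decide)
  interval_cases d <;> first | exact absurd rfl hne | rfl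

/-- The value of the mirror image. -/
theorem ev_mir {w w' : ℕ} (h : (wordInF mask 4096 w && Nat.beq (mirF 4096 w) w') = true) :
    Script.ev (OracleFi23.fgen 1) w' = Script.ev (OracleFi23.fgen 0) w := by
  rw [Bool.and_eq_true] at h
  have h2 := Nat.eq_of_beq_eq_true h.2
  rw [← h2]
  exact evF_mir (by decide) fgen_mir 4096 w h.1

end Cfsg.Agent.BM.StageBMirror
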