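import Cfsg.Agent.BM.StageBBip
import Cfsg.Agent.BM.StageBData
import Cfsg.Agent.BM.StageBMirror
import Cfsg.Agent.BM.Psi

/-!
Stage B of S1704 (helper950): the assembly.  `x t1, …, x t11` satisfy the relators of the Baby Monster, `H` is a
subgroup (to be `⟨x t2, …, x t11⟩`).  Inputs: the facts (nodes `w 0, …, w 15`), the coverings
`Fi23 = ⋃ S_i m J` and the index bounds.
-/

set_option autoImplicit false
set_option maxRecDepth 100000
set_option linter.constructorNameAsVariable false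

namespace Cfsg.Agent.BM.StageBAssemble

open Cfsg.Spor Cfsg.Agent.BM Cfsg.Agent.BM.Psi Cfsg.Agent.BM.DCE Cfsg.Agent.BM.StageBData
  Cfsg.Agent.BM.StageBMirror

/-- the subgroup of `Fi23` generated by words in the letters of sort 0 -/
def cl0 (l : List ℕ) : Subgroup Fi23 := Subgroup.closure {y | ∃ u ∈ l, Script.ev (OracleFi23.fgen 0) u = y}

/-- the subgroup of `Fi23` generated by words in the letters of sort 1 -/
def cl1 (l : List ℕ) : Subgroup Fi23 := Subgroup.closure {y | ∃ u ∈ l, Script.ev (OracleFi23.fgen 1) u = y}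

/-- the letters of `K ∩ K₂` -/
def ltJ : List ℕ := [1, 2, 3, 4, 5, 6, 7, 9, 10]

/-- `K ∩ K₂` inside `Fi23` -/
def J : Subgroup Fi23 := Subgroup.closure {y | ∃ d ∈ ltJ, OracleFi23.fgen 0 d = y}

/-- Check that the second list consists of the mirror images of the first one. -/
noncomputable def mirL : List ℕ → List ℕ → Bool
  | [], [] => true
  | u :: l, v :: l' => (Script.wordInF mask 4096 u && Nat.beq (mirF 4096 u) v) && mirL l l'
  | _, _ => false

theorem mirL_left : ∀ {l l' : List ℕ}, mirL l l' = true → ∀ u ∈ l, ∃ v ∈ l',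
    Script.ev (OracleFi23.fgen 1) v = Script.ev (OracleFi23.fgen 0) u
  | [], _, _, u, hu => absurd hu (by simp)
  | _ :: _, [], h, _, _ => absurd h (by simp [mirL])
  | u₀ :: l, v₀ :: l', h, u, hu => by
    rw [mirL, Bool.and_eq_true] at h
    rcases List.mem_cons.1 hu with rfl | hu
    · exact ⟨v₀, List.mem_cons_self, ev_mir h.1⟩
    · obtain ⟨v, hv, e⟩ := mirL_left h.2 u hu
      exact ⟨v, List.mem_cons_of_mem _ hv, e⟩

theorem mirL_right : ∀ {l l' : List ℕ}, mirL l l' = true → ∀ v ∈ l', ∃ u ∈ l,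
    Script.ev (OracleFi23.fgen 1) v = Script.ev (OracleFi23.fgen 0) u
  | _, [], _, v, hv => absurd hv (by simp)
  | [], _ :: _, h, _, _ => absurd h (by simp [mirL])
  | u₀ :: l, v₀ :: l', h, v, hv => by
    rw [mirL, Bool.and_eq_true] at h
    rcases List.mem_cons.1 hv with rfl | hv
    · exact ⟨u₀, List.mem_cons_self, ev_mir h.1⟩
    · obtain ⟨u, hu, e⟩ := mirL_right h.2 v hv
      exact ⟨u, List.mem_cons_of_mem _ hu, e⟩

theorem mir_ws : ∀ i : Fin 8, mirL (wsA i) (wsB i) = true := by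
  intro i
  fin_cases i <;> decide +kernel

theorem mir_ed : ∀ i : Fin 8, mirL ((edA i).map Prod.snd) ((edB i).map Prod.snd) = true := by
  intro i
  fin_cases i <;> decide +kernel

theorem cl_eq (i : Fin 8) : cl1 (wsB i) = cl0 (wsA i) := by
  apply le_antisymm
  · unfold cl1 cl0
    rw [Subgroup.closure_le]
    rintro _ ⟨v, hv, rfl⟩
    obtain ⟨u, hu, e⟩ := mirL_right (mir_ws i) v hv
    exact Subgroup.subset_closure ⟨u, hu, e.symm⟩
  · unfold cl1 cl0
    rw [Subgroup.closure_le]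
    rintro _ ⟨u, hu, rfl⟩
    obtain ⟨v, hv, e⟩ := mirL_left (mir_ws i) u hu
    exact Subgroup.subset_closure ⟨v, hv, e⟩

section Rel

variable {G : Type*} [Group G] {x : BabyMonster.Gen → G}

theorem psi_fgen (h : Rel x) (d : ℕ) : psi h (OracleFi23.fgen 0 d) = x (m1 (OracleFi23.lt0 d)) := psi_gen h _

theorem psi2_fgen (h : Rel x) (d : ℕ) : psi2 h (OracleFi23.fgen 1 d) = x (m2 (OracleFi23.lt1 d)) := psi2_gen h _

theorem letters : ∀ d ∈ ltJ, m1 (OracleFi23.lt0 d) = m2 (OracleFi23.lt1 d) := by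
  intro d hd
  simp only [ltJ, List.mem_cons, List.not_mem_nil, or_false] at hd
  rcases hd with rfl | rfl | rfl | rfl | rfl | rfl | rfl | rfl | rfl <;> rfl

theorem mir_mem : ∀ d ∈ ltJ, mirD d ∈ ltJ ∧ mask.testBit d = true := by decide

theorem J_psi (h : Rel x) : ∀ y ∈ J, psi h y ∈ (psi2 h).range := by
  intro y hy
  have : J ≤ (psi2 h).range.comap (psi h) := by
    unfold J
    rw [Subgroup.closure_le]
    rintro _ ⟨d, hd, rfl⟩
    show psi h _ ∈ (psi2 h).range
    rw [psi_fgen, letters d hd, ← psi2_fgen h]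
    exact ⟨_, rfl⟩
  exact this hy

theorem J_psi2 (h : Rel x) : ∀ y ∈ J, psi2 h y ∈ (psi h).range := by
  intro y hy
  have : J ≤ (psi h).range.comap (psi2 h) := by
    unfold J
    rw [Subgroup.closure_le]
    rintro _ ⟨d, hd, rfl⟩
    show psi2 h _ ∈ (psi h).range
    obtain ⟨h1, h2⟩ := mir_mem d hd
    rw [← fgen_mir d h2, psi2_fgen, ← letters _ h1, ← psi_fgen h]
    exact ⟨_, rfl⟩
  exact this hy

theorem psi_mem (h : Rel x) (y : Fi23) : psi h y ∈ Subgroup.closure (Set.range x) := by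
  have hy : y ∈ Subgroup.closure (Set.range Cfsg.Agent.Fischer.Fi23Hom.gen) := by
    rw [Cfsg.Agent.Fischer.Fi23Final.gens_top]; trivial
  have : Subgroup.closure (Set.range Cfsg.Agent.Fischer.Fi23Hom.gen) ≤
      (Subgroup.closure (Set.range x)).comap (psi h) := by
    rw [Subgroup.closure_le]
    rintro _ ⟨g, rfl⟩
    show psi h _ ∈ Subgroup.closure (Set.range x)
    rw [psi_gen]
    exact Subgroup.subset_closure ⟨_, rfl⟩
  exact this hy

theorem psi2_mem (h : Rel x) (y : Fi23) : psi2 h y ∈ Subgroup.closure (Set.range x) := by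
  have hy : y ∈ Subgroup.closure (Set.range Cfsg.Agent.Fischer.Fi23Hom.gen) := by
    rw [Cfsg.Agent.Fischer.Fi23Final.gens_top]; trivial
  have : Subgroup.closure (Set.range Cfsg.Agent.Fischer.Fi23Hom.gen) ≤
      (Subgroup.closure (Set.range x)).comap (psi2 h) := by
    rw [Subgroup.closure_le]
    rintro _ ⟨g, rfl⟩
    show psi2 h _ ∈ Subgroup.closure (Set.range x)
    rw [psi2_gen]
    exact Subgroup.subset_closure ⟨_, rfl⟩
  exact this hy

theorem range_le (h : Rel x) :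
    Subgroup.closure (Set.range x) ≤ Subgroup.closure (((psi h).range : Set G) ∪ (psi2 h).range) := by
  rw [Subgroup.closure_le]
  rintro _ ⟨t, rfl⟩
  have h0 : ∀ g : Fi23.Gen, x (m1 g) ∈ Subgroup.closure (((psi h).range : Set G) ∪ (psi2 h).range) := by
    intro g
    apply Subgroup.subset_closure
    left
    exact ⟨_, psi_gen h g⟩
  have h1 : ∀ g : Fi23.Gen, x (m2 g) ∈ Subgroup.closure (((psi h).range : Set G) ∪ (psi2 h).range) := by
    intro g
    apply Subgroup.subset_closure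
    right
    exact ⟨_, psi2_gen h g⟩
  cases t
  · exact h0 .j
  · exact h0 .g
  · exact h0 .f
  · exact h0 .e
  · exact h0 .d
  · exact h0 .c
  · exact h0 .b
  · exact h0 .a
  · exact h0 .h
  · exact h0 .i
  · exact h1 .a

/-- **Assembly of stage B.** -/
theorem assemble (h : Rel x) (H : Subgroup G) (w : ℕ → G)
    (stabA : ∀ i : Fin 8, ∀ u ∈ wsA i,
      w i.val * psi h (Script.ev (OracleFi23.fgen 0) u) * (w i.val)⁻¹ ∈ H)
    (stabB : ∀ i : Fin 8, ∀ u ∈ wsB i,
      w (8 + i.val) * psi2 h (Script.ev (OracleFi23.fgen 1) u) * (w (8 + i.val))⁻¹ ∈ H)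
    (edgeA : ∀ i : Fin 8, ∀ p ∈ edA i, ∃ j < 8, ∃ b,
      SameC H (w i.val * psi h (Script.ev (OracleFi23.fgen 0) p.2)) (w (8 + j) * psi2 h b))
    (edgeB : ∀ i : Fin 8, ∀ p ∈ edB i, ∃ j < 8, ∃ b,
      SameC H (w j * psi h b) (w (8 + i.val) * psi2 h (Script.ev (OracleFi23.fgen 1) p.2)))
    (one : w 0 = 1) (wT : ∀ i < 8, w i ∈ Subgroup.closure (Set.range x))
    (cov : ∀ (i : Fin 8) (k : Fi23), ∃ m ∈ (edA i).map Prod.snd, ∃ s ∈ cl0 (wsA i), ∃ z ∈ J,
      k = s * Script.ev (OracleFi23.fgen 0) m * z)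
    (idx : ∀ i, (cl0 (wsA i)).index ≠ 0 ∧ (cl0 (wsA i)).index ≤ idxA i) :
    H.relIndex (Subgroup.closure (Set.range x)) ≠ 0 ∧
      H.relIndex (Subgroup.closure (Set.range x)) ≤ 27143910000 := by
  have hconj : ∀ (φ : Fi23 →* G) (c : G) (Z : Set Fi23), (∀ y ∈ Z, c * φ y * c⁻¹ ∈ H) →
      ∀ y ∈ Subgroup.closure Z, c * φ y * c⁻¹ ∈ H := by
    intro φ c Z hZ y hy
    have : Subgroup.closure Z ≤ (H.comap ((MulAut.conj c).toMonoidHom.comp φ)) := by
      rw [Subgroup.closure_le]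
      intro y hy
      show c * φ y * c⁻¹ ∈ H
      exact hZ y hy
    exact this hy
  have key := StageBBip.relIndex_le_of_bip (ι := Fin 8) (ι₂ := Fin 8) (psi h) (psi2 h) H J J
    (J_psi h) (J_psi2 h) (fun i => w i.val) (fun j => w (8 + j.val))
    (fun i => cl0 (wsA i))
    (by
      intro i
      refine hconj _ _ _ ?_
      rintro _ ⟨u, hu, rfl⟩
      exact stabA i u hu)
    (fun j => cl1 (wsB j))
    (by
      intro j
      refine hconj _ _ _ ?_
      rintro _ ⟨u, hu, rfl⟩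
      exact stabB j u hu)
    (fun i => {y | ∃ m ∈ (edA i).map Prod.snd, Script.ev (OracleFi23.fgen 0) m = y})
    (by
      rintro i _ ⟨m, hm, rfl⟩
      obtain ⟨p, hp, rfl⟩ := List.mem_map.1 hm
      obtain ⟨j, hj, b, hb⟩ := edgeA i p hp
      exact ⟨⟨j, hj⟩, _, ⟨b, rfl⟩, hb⟩)
    (fun j => {y | ∃ m ∈ (edB j).map Prod.snd, Script.ev (OracleFi23.fgen 1) m = y})
    (by
      rintro i _ ⟨m, hm, rfl⟩
      obtain ⟨p, hp, rfl⟩ := List.mem_map.1 hm
      obtain ⟨j, hj, b, hb⟩ := edgeB i p hp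
      exact ⟨⟨j, hj⟩, _, ⟨b, rfl⟩, hb⟩)
    (by
      intro i k
      obtain ⟨m, hm, s, hs, z, hz, e⟩ := cov i k
      exact ⟨_, ⟨m, hm, rfl⟩, s, hs, z, hz, e⟩)
    (by
      intro i k
      obtain ⟨m, hm, s, hs, z, hz, e⟩ := cov i k
      obtain ⟨v, hv, e'⟩ := mirL_left (mir_ed i) m hm
      refine ⟨_, ⟨v, hv, rfl⟩, s, ?_, z, hz, ?_⟩
      · rw [cl_eq]; exact hs
      · rw [e']; exact e)
    ⟨0, by
      show w 0 ∈ H
      rw [one]; exact H.one_mem⟩
    (Subgroup.closure (Set.range x))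
    (by
      rintro _ ⟨y, rfl⟩
      exact psi_mem h y)
    (range_le h)
    (fun i => wT i.val i.isLt)
    idxA idx
  rw [sum_idxA] at key
  exact key

end Rel

end Cfsg.Agent.BM.StageBAssemble
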