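import Cfsg.Agent.BM.StageA

/-!
Stage B of S1704, abstract assembly (helper950): `F` and `F₂` are groups with homomorphisms `φ`, `φ₂` into `G`, `H` is
any subgroup of `G`; the double cosets `H w_i φ(F)` and `H v_j φ₂(F₂)` are glued along edges.  Coverings and
index bounds are statements in `F` and `F₂`, facts are statements in `G`.
-/

set_option autoImplicit false

namespace Cfsg.Agent.BM.StageBBip

open Cfsg.Agent.BM.DCE

variable {F F₂ G : Type*} [Group F] [Group F₂] [Group G]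

/-- **Assembly**: the relative index of `H` in `T = ⟨φ(F), φ₂(F₂)⟩` is at most the sum of the indices of the
stabilisers of the nodes of the first sort. -/
theorem relIndex_le_of_bip {ι ι₂ : Type*} [Fintype ι] (φ : F →* G) (φ₂ : F₂ →* G) (H : Subgroup G)
    (O : Subgroup F) (O₂ : Subgroup F₂) (hO : ∀ y ∈ O, φ y ∈ φ₂.range) (hO₂ : ∀ y ∈ O₂, φ₂ y ∈ φ.range)
    (w : ι → G) (v : ι₂ → G)
    (S : ι → Subgroup F) (hS : ∀ i, ∀ s ∈ S i, w i * φ s * (w i)⁻¹ ∈ H)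
    (S₂ : ι₂ → Subgroup F₂) (hS₂ : ∀ j, ∀ s ∈ S₂ j, v j * φ₂ s * (v j)⁻¹ ∈ H)
    (M : ι → Set F)
    (edge : ∀ i, ∀ m ∈ M i, ∃ j, ∃ m' ∈ φ₂.range, SameC H (w i * φ m) (v j * m'))
    (M₂ : ι₂ → Set F₂)
    (edge₂ : ∀ j, ∀ m ∈ M₂ j, ∃ i, ∃ m' ∈ φ.range, SameC H (w i * m') (v j * φ₂ m))
    (cov : ∀ i, ∀ k : F, ∃ m ∈ M i, ∃ s ∈ S i, ∃ y ∈ O, k = s * m * y)
    (cov₂ : ∀ j, ∀ k : F₂, ∃ m ∈ M₂ j, ∃ s ∈ S₂ j, ∃ y ∈ O₂, k = s * m * y)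
    (one : ∃ i, w i ∈ H) (T : Subgroup G) (hKT : φ.range ≤ T)
    (hT : T ≤ Subgroup.closure ((φ.range : Set G) ∪ φ₂.range)) (hw : ∀ i, w i ∈ T)
    (n : ι → ℕ) (hn : ∀ i, (S i).index ≠ 0 ∧ (S i).index ≤ n i) :
    H.relIndex T ≠ 0 ∧ H.relIndex T ≤ ∑ i, n i := by
  classical
  have hcov : ∀ g ∈ Subgroup.closure ((φ.range : Set G) ∪ φ₂.range), ∃ i, InDC H φ.range (w i) g := by
    let E : Type _ := {q : (ι × G) × (ι₂ × G) //
      q.1.2 ∈ φ.range ∧ q.2.2 ∈ φ₂.range ∧ SameC H (w q.1.1 * q.1.2) (v q.2.1 * q.2.2)}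
    refine bip (E := E) H φ.range φ₂.range (φ.range ⊓ φ₂.range) inf_le_left inf_le_right w
      (fun i => (S i).map φ) ?_ v (fun j => (S₂ j).map φ₂) ?_ (fun e => e.1.1.1) (fun e => e.1.2.1)
      (fun e => e.1.1.2) (fun e => e.1.2.2) (fun e => e.2.1) (fun e => e.2.2.1) (fun e => e.2.2.2)
      ?_ ?_ ?_
    · rintro i _ ⟨s, hs, rfl⟩
      exact hS i s hs
    · rintro j _ ⟨s, hs, rfl⟩
      exact hS₂ j s hs
    · rintro i _ ⟨k, rfl⟩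
      obtain ⟨m, hm, s, hs, y, hy, rfl⟩ := cov i k
      obtain ⟨j, m', hm', hsame⟩ := edge i m hm
      refine ⟨⟨((i, φ m), (j, m')), ⟨m, rfl⟩, hm', hsame⟩, rfl, φ s, ⟨s, hs, rfl⟩, φ y,
        ⟨⟨y, rfl⟩, hO y hy⟩, ?_⟩
      rw [map_mul, map_mul]
    · rintro j _ ⟨k, rfl⟩
      obtain ⟨m, hm, s, hs, y, hy, rfl⟩ := cov₂ j k
      obtain ⟨i, m', hm', hsame⟩ := edge₂ j m hm
      refine ⟨⟨((i, m'), (j, φ₂ m)), hm', ⟨m, rfl⟩, hsame⟩, rfl, φ₂ s, ⟨s, hs, rfl⟩, φ₂ y,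
        ⟨hO₂ y hy, ⟨y, rfl⟩⟩, ?_⟩
      rw [map_mul, map_mul]
    · obtain ⟨i, hi⟩ := one
      exact ⟨i, 1, one_mem _, by simpa using H.inv_mem hi⟩
  have h1 : ∀ i, ((S i).map φ).relIndex φ.range ≠ 0 ∧ ((S i).map φ).relIndex φ.range ≤ n i := by
    intro i
    have h2 := Cfsg.Agent.BM.StageA.relIndex_map_range_le φ (S i) (hn i).1
    exact ⟨h2.1, h2.2.trans (hn i).2⟩
  have key := relIndex_le H φ.range T w (fun i => (S i).map φ) hKT hw (by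
    rintro i _ ⟨s, hs, rfl⟩
    exact hS i s hs) (fun g hg => hcov g (hT hg)) (fun i => (h1 i).1)
  exact ⟨key.1, key.2.trans (Finset.sum_le_sum fun i _ => (h1 i).2)⟩

end Cfsg.Agent.BM.StageBBip
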