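import Cfsg.Agent.BM.CertBInst

/-!
# Stage B of S1704: the bound for the index of `H = ⟨t2, …, t11⟩` from the coverings and the index bounds

The facts of the certificate (`CertBInst`) and the assembly (`AssembleB.index_le_of_facts`) for the presented Baby
Monster.
-/

set_option autoImplicit false

namespace Cfsg.Agent.BM.StageBFinalOf

open Cfsg.Agent.BM.AssembleB Cfsg.Agent.BM.CertB Cfsg.Agent.BM.FactsB Cfsg.Agent.BM.Psi
open Cfsg.Agent.BM.CoverChk (wd nth)
open Cfsg.Agent.BM.JBase (J)
open Cfsg.Spor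

/-- The generators of the presented group. -/
def gB (t : BabyMonster.Gen) : Spor.BabyMonster := PresentedGroup.of t

theorem rel_gB : Rel gB := rel_of

theorem top_gB : Subgroup.closure (Set.range gB) = ⊤ := PresentedGroup.closure_range_of _

/-- The bounds for the indices of the eight stabilisers in `Fi23`. -/
def nB : ℕ → ℕ
  | 0 => 31671
  | 1 => 891855360
  | 2 => 86316516
  | 3 => 86316516
  | 4 => 31671
  | 5 => 17074976256
  | 6 => 4502191005
  | 7 => 4502191005
  | _ => 0

theorem sum_nB : ∑ i ∈ Finset.range 8, nB i = 27143910000 := by decide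

/-- **Stage B from the coverings and the index bounds.** -/
theorem main_of
    (cov : ∀ i < 8, ∀ S : Subgroup Spor.Fi23, (∀ u ∈ sg i, wd u ∈ S) → ∀ k : Spor.Fi23,
      ∃ e < (ks i).length, ∃ s ∈ S, ∃ y ∈ J, k = s * wd (nth (ks i) e) * y)
    (ind : ∀ i < 8, ∀ S : Subgroup Spor.Fi23, (∀ u ∈ sg i, wd u ∈ S) → S.index ≠ 0 ∧ S.index ≤ nB i) :
    (HB gB).index ≠ 0 ∧ (HB gB).index ≤ 27143910000 := by
  rw [← sum_nB]
  exact index_le_of_facts armB_of armB_armB rel_gB top_gB 8 (CertB.w armB rel_gB) ⟨0, by norm_num, rfl⟩ sg ks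
    (CertB.stab armB_of armB_armB rel_gB) (CertB.edge armB_of armB_armB rel_gB) cov nB ind

end Cfsg.Agent.BM.StageBFinalOf
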