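import Cfsg.Agent.BM.Chain

/-!
Index bound for a subgroup of `Spor.Fi23` containing `t2, …, t10`.
-/

set_option autoImplicit false
set_option maxRecDepth 100000

namespace Cfsg.Agent.BM.StageBNode0

open Cfsg.Agent.BM.Chain

/-- The generating words (hexadecimal, first letter = lowest digit). -/
def ws : List ℕ := [0x2, 0x3, 0x4, 0x5, 0x6, 0x7, 0x8, 0x9, 0xa]

theorem ev_digit (d : ℕ) (h0 : 0 < d) (hd : d < 16) :
    Script.ev (OracleFi23.fgen 0) d = Cfsg.Agent.Fischer.Fi23Hom.gen (OracleFi23.lt0 d) := by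
  rw [ev_eq]
  have : dig d = [d] := by
    interval_cases d <;> decide +kernel
  rw [this]
  simp only [List.map_cons, List.map_nil, List.prod_cons, List.prod_nil, mul_one]
  rfl

/-- The index of a subgroup containing `t2, …, t10` is at most 31671. -/
theorem index_le (S : Subgroup Cfsg.Spor.Fi23) (h : ∀ w ∈ ws, Script.ev (OracleFi23.fgen 0) w ∈ S) :
    S.index ≠ 0 ∧ S.index ≤ 31671 := by
  have hle : Cfsg.Agent.Fischer.Fi23Orb.H ≤ S := by
    rw [Cfsg.Agent.Fischer.Fi23H.H_eq, Subgroup.closure_le]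
    rintro _ ⟨k, rfl⟩
    have key : ∀ d ∈ ws, Cfsg.Agent.Fischer.Fi23Hom.gen (OracleFi23.lt0 d) ∈ S := by
      intro d hd
      have h1 := h d hd
      have h2 : 0 < d ∧ d < 16 := by
        simp only [ws, List.mem_cons, List.not_mem_nil, or_false] at hd
        omega
      rwa [ev_digit d h2.1 h2.2] at h1
    show Cfsg.Agent.Fischer.Fi23Hom.gen (Cfsg.Agent.Fischer.Fi23H.node k) ∈ S
    fin_cases k
    · exact key 0x8 (by decide)
    · exact key 0x7 (by decide)
    · exact key 0x6 (by decide)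
    · exact key 0x5 (by decide)
    · exact key 0x4 (by decide)
    · exact key 0x3 (by decide)
    · exact key 0x2 (by decide)
    · exact key 0x9 (by decide)
    · exact key 0xa (by decide)
  refine ⟨Subgroup.FiniteIndex.index_ne_zero, ?_⟩
  have hH : Cfsg.Agent.Fischer.Fi23Orb.H.index = 31671 := by
    rw [Cfsg.Agent.S1697.H_eq']; exact Cfsg.Agent.SporRec.Fi23Index.index_H
  rw [← hH]
  exact Nat.le_of_dvd (by rw [hH]; norm_num) (Subgroup.index_dvd_of_le hle)

end Cfsg.Agent.BM.StageBNode0
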