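import Cfsg.Agent.BM.Chain

/-!
Index bound for a subgroup of `Spor.Fi23` given by words (generated file).
-/

set_option autoImplicit false
set_option maxRecDepth 100000

namespace Cfsg.Agent.BM.StageBNode5

open Cfsg.Agent.BM.Chain

/-- The generating words (hexadecimal, first letter = lowest digit). -/
def ws : List ℕ := [0x21, 0x31, 0x41, 0x51, 0x61, 0x91, 0xa956459765434567954659a1]

/-- The generating words as lists of letters. -/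
def W : List (List ℕ) := [[1, 2],
  [1, 3],
  [1, 4],
  [1, 5],
  [1, 6],
  [1, 9],
  [1, 10, 9, 5, 6, 4, 5, 9, 7, 6, 5, 4, 3, 4, 5, 6, 7, 9, 5, 4, 6, 5, 9, 10]]

theorem W_eq : W = ws.map dig := by decide +kernel

def c0 : List (List ℕ) := [[0],
  [2],
  [4],
  [6],
  [8],
  [10],
  [12]]
def l0 : List (List ℕ) := [[1, 2],
  [1, 3],
  [1, 4],
  [1, 5],
  [1, 6],
  [1, 9],
  [1, 10, 9, 5, 6, 4, 5, 9, 7, 6, 5, 4, 3, 4, 5, 6, 7, 9, 5, 4, 6, 5, 9, 10]]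
theorem m0 : memB W c0 l0 = true := by decide +kernel
theorem b0 : A23.lvlB l0 [] 0 702 5 = true := by decide +kernel

def c1 : List (List ℕ) := [[3, 5, 7, 10],
  [3, 0, 13, 10],
  [1, 11, 7, 4],
  [11, 7, 10, 8],
  [3, 0]]
def l1 : List (List ℕ) := [[3, 1, 4, 1, 5, 9],
  [3, 2, 10, 9, 5, 6, 4, 5, 9, 7, 6, 5, 4, 3, 4, 5, 6, 7, 9, 5, 4, 6, 5, 9, 10, 9],
  [2, 1, 9, 1, 5, 4],
  [9, 1, 5, 9, 1, 6],
  [3, 2]]
theorem m1 : memB W c1 l1 = true := by decide +kernel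
theorem b1 : A23.lvlB l1 [0] 1 252 3 = true := by decide +kernel

def c2 : List (List ℕ) := [[5, 9, 13, 10],
  [3, 5],
  [5, 3, 9, 7, 10, 4],
  [7, 5, 9, 2],
  [7, 11]]
def l2 : List (List ℕ) := [[4, 1, 6, 1, 10, 9, 5, 6, 4, 5, 9, 7, 6, 5, 4, 3, 4, 5, 6, 7, 9, 5, 4, 6, 5, 9, 10, 9],
  [3, 1, 4, 1],
  [4, 1, 3, 1, 6, 1, 5, 9, 1, 4],
  [5, 1, 4, 1, 6, 3],
  [5, 1, 9, 1]]
theorem m2 : memB W c2 l2 = true := by decide +kernel
theorem b2 : A23.lvlB l2 [1, 0] 2 90 2 = true := by decide +kernel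

def c3 : List (List ℕ) := [[5, 7, 9, 11],
  [5, 9],
  [3, 5, 7, 5, 9, 11, 7, 5, 13, 11, 7, 9, 2, 4, 6, 10, 12, 10]]
def l3 : List (List ℕ) := [[4, 1, 5, 1, 6, 1, 9, 1],
  [4, 1, 6, 1],
  [3, 1, 4, 1, 5, 1, 4, 1, 6, 1, 9, 1, 5, 1, 4, 1, 10, 9, 5, 6, 4, 5, 9, 7, 6, 5, 4, 3, 4, 5, 6, 7, 9, 5, 4, 6, 5, 9, 10, 1, 9, 1, 5, 1, 6, 3, 1, 4, 1, 5, 1, 9, 1, 10, 9, 5, 6, 4, 5, 9, 7, 6, 5, 4, 3, 4, 5, 6, 7, 9, 5, 4, 6, 5, 9, 10, 1, 9]]
theorem m3 : memB W c3 l3 = true := by decide +kernel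
theorem b3 : A23.lvlB l3 [2, 1, 0] 3 24 2 = true := by decide +kernel

def c4 : List (List ℕ) := [[9, 11],
  [7, 9],
  [7, 11]]
def l4 : List (List ℕ) := [[6, 1, 9, 1],
  [5, 1, 6, 1],
  [5, 1, 9, 1]]
theorem m4 : memB W c4 l4 = true := by decide +kernel
theorem b4 : A23.lvlB l4 [3, 2, 1, 0] 5 6 1 = true := by decide +kernel

def c5 : List (List ℕ) := [[7, 9, 11, 7]]
def l5 : List (List ℕ) := [[5, 1, 6, 1, 9, 1, 5, 1]]
theorem m5 : memB W c5 l5 = true := by decide +kernel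
theorem b5 : A23.lvlB l5 [5, 3, 2, 1, 0] 4 2 1 = true := by decide +kernel

/-- The order of a subgroup containing the words is at least 4585351680. -/
theorem card_ge (S : Subgroup Cfsg.Spor.Fi23) (h : ∀ w ∈ ws, Script.ev (OracleFi23.fgen 0) w ∈ S) :
    4585351680 ≤ Nat.card S := by
  have hW : ∀ w ∈ W, A23.wd w ∈ S := Act.mem_of_ev A23 (ws := ws) h W_eq
  have h0 := Act.Ch.nil A23 S
  have h1 := Act.Ch.step A23 h0 hW c0 l0 0 702 5 m0 b0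
  have h2 := Act.Ch.step A23 h1 hW c1 l1 1 252 3 m1 b1
  have h3 := Act.Ch.step A23 h2 hW c2 l2 2 90 2 m2 b2
  have h4 := Act.Ch.step A23 h3 hW c3 l3 3 24 2 m3 b3
  have h5 := Act.Ch.step A23 h4 hW c4 l4 5 6 1 m4 b4
  have h6 := Act.Ch.step A23 h5 hW c5 l5 4 2 1 m5 b5
  exact le_trans (by norm_num) (Act.Ch.card_le A23 h6)

/-- The index of a subgroup containing the words is at most 891855360. -/
theorem index_le (S : Subgroup Cfsg.Spor.Fi23) (h : ∀ w ∈ ws, Script.ev (OracleFi23.fgen 0) w ∈ S) :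
    S.index ≠ 0 ∧ S.index ≤ 891855360 :=
  index_le_of_card Psi.card_Fi23 (card_ge S h) (by norm_num) (by norm_num)

end Cfsg.Agent.BM.StageBNode5
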