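import Cfsg.Agent.BM.ChainConj
import Cfsg.Agent.BM.StageBNode5

/-!
Index bound for a subgroup of `Spor.Fi23` given by words, by conjugation to `StageBNode5` (generated file).
-/

set_option autoImplicit false
set_option maxRecDepth 100000

namespace Cfsg.Agent.BM.StageBV1

open Cfsg.Agent.BM.Chain Cfsg.Agent.BM.ChainConj

/-- The generating words (hexadecimal, first letter = lowest digit). -/
def ws : List ℕ := [0x9564593456a9543234569543956a9546, 0x56345976543216756459345623459765432956459765436597654956]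

/-- The inverse words. -/
def vs : List ℕ := [0x6459a6593459654323459a6543954659, 0x65945679563456795465923456795432654395465761234567954365]

theorem vs_ok : invOk ws vs = true := by decide +kernel

/-- The conjugating word. -/
def g : ℕ := 0x6583579327858a294746a215a793529439437136413435946a81742a51a421895463658578525957896537936845181487a436a4a39593a72a14139476583579327858a294746a215a793529439437136413435946a81742a51a4898a26257838493a48147a89431a451a47428a75a9675457a7184657a3a76a29684528317434a6532a4673972a3178123437367564923a412919128a347a458341a748a34a2156424254525875623a86464158249146a3493141a27a39593a4a634a78418154863973569875952587585636459812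

/-- Its inverse. -/
def g' : ℕ := 0x21895463658578525957896537936845181487a436a4a39593a72a1413943a64194285146468a3265785254524246512a43a847a143854a743a821919214a3294657637343218713a2793764a2356a43471382548692a67a3a7564817a7545769a57a82474a154a13498a74184a39483875262a8984a15a24718a649534314631734934925397a512a647492a85872397538567493141a27a39593a4a634a784181548639735698759525875856364598124a15a24718a649534314631734934925397a512a647492a8587239753856

theorem g_ok : invOk [g] [g'] = true := by decide +kernel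

theorem t0 : chk1 ws vs g g' 0x21 [1, 2, 0, 2, 2, 1, 2, 1, 2, 2, 2, 2, 0, 3, 0, 2, 0, 3, 0, 3, 1] = true := by decide +kernel
theorem t1 : chk1 ws vs g g' 0x31 [1, 2, 0, 2, 0, 2, 2, 1, 2, 1, 2, 2, 2, 0, 2, 0, 2, 1, 2, 2, 2, 0] = true := by decide +kernel
theorem t2 : chk1 ws vs g g' 0x41 [3, 1, 2, 1, 2, 0, 3, 0, 2, 1, 3, 3, 1, 3, 0, 3, 0, 3, 0, 3, 3, 1, 2] = true := by decide +kernel
theorem t3 : chk1 ws vs g g' 0x51 [3, 0, 3, 3, 3, 3, 3, 1, 2, 2, 2, 2, 2, 0, 2, 2, 2, 2, 2, 1, 2] = true := by decide +kernel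
theorem t4 : chk1 ws vs g g' 0x61 [3, 0, 3, 3, 0, 2, 1, 2, 0, 3, 1, 2, 0, 2, 0, 2, 2, 2, 2, 1] = true := by decide +kernel
theorem t5 : chk1 ws vs g g' 0x91 [0, 3, 1, 3, 0, 2, 1, 2, 1, 3, 1, 2, 1, 2, 2, 1, 3, 1, 3, 1, 2, 1, 3, 3] = true := by decide +kernel
theorem t6 : chk1 ws vs g g' 0xa956459765434567954659a1 [0, 3, 3, 0, 3, 1, 3, 0, 3, 0, 3, 0, 3, 3, 1, 3, 1, 2, 0, 2, 1, 2, 2, 2, 1] = true := by decide +kernel

theorem all : conjB ws vs g g' StageBNode5.ws
    [[1, 2, 0, 2, 2, 1, 2, 1, 2, 2, 2, 2, 0, 3, 0, 2, 0, 3, 0, 3, 1], [1, 2, 0, 2, 0, 2, 2, 1, 2, 1, 2, 2, 2, 0, 2, 0, 2, 1, 2, 2, 2, 0], [3, 1, 2, 1, 2, 0, 3, 0, 2, 1, 3, 3, 1, 3, 0, 3, 0, 3, 0, 3, 3, 1, 2], [3, 0, 3, 3, 3, 3, 3, 1, 2, 2, 2, 2, 2, 0, 2, 2, 2, 2, 2, 1, 2], [3, 0, 3, 3, 0, 2, 1, 2, 0, 3, 1, 2, 0, 2, 0, 2, 2, 2, 2, 1], [0, 3, 1, 3, 0, 2, 1, 2, 1, 3, 1, 2, 1, 2, 2, 1, 3, 1, 3, 1, 2, 1, 3, 3], [0, 3, 3, 0, 3, 1, 3, 0, 3, 0, 3, 0, 3, 3, 1, 3, 1, 2, 0, 2, 1, 2, 2, 2, 1]] = true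 :=
  conjB_cons t0 <| conjB_cons t1 <| conjB_cons t2 <| conjB_cons t3 <| conjB_cons t4 <| conjB_cons t5 <| conjB_cons t6 <| conjB_nil _ _ _ _

/-- The order of a subgroup containing the words is at least 4585351680. -/
theorem card_ge (S : Subgroup Cfsg.Spor.Fi23) (h : ∀ w ∈ ws, Script.ev (OracleFi23.fgen 0) w ∈ S) :
    4585351680 ≤ Nat.card S :=
  card_ge_of_conj StageBNode5.card_ge S h vs_ok g_ok all

/-- The index of a subgroup containing the words is at most 891855360. -/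
theorem index_le (S : Subgroup Cfsg.Spor.Fi23) (h : ∀ w ∈ ws, Script.ev (OracleFi23.fgen 0) w ∈ S) :
    S.index ≠ 0 ∧ S.index ≤ 891855360 :=
  index_le_of_card Psi.card_Fi23 (card_ge S h) (by norm_num) (by norm_num)

end Cfsg.Agent.BM.StageBV1
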