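import Cfsg.Agent.BM.Chain

/-!
Index bound for a subgroup of `Spor.Fi23` given by words (generated file).
-/

set_option autoImplicit false
set_option maxRecDepth 100000

namespace Cfsg.Agent.BM.StageBNode1

open Cfsg.Agent.BM.Chain

/-- The generating words (hexadecimal, first letter = lowest digit). -/
def ws : List ℕ := [0x1, 0x2, 0x3, 0x4, 0x5, 0x6, 0x7, 0x8, 0x9]

/-- The generating words as lists of letters. -/
def W : List (List ℕ) := [[1],
  [2],
  [3],
  [4],
  [5],
  [6],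
  [7],
  [8],
  [9]]

theorem W_eq : W = ws.map dig := by decide +kernel

def c0 : List (List ℕ) := [[0],
  [2],
  [4],
  [6],
  [8],
  [10],
  [12],
  [14],
  [16]]
def l0 : List (List ℕ) := [[1],
  [2],
  [3],
  [4],
  [5],
  [6],
  [7],
  [8],
  [9]]
theorem m0 : memB W c0 l0 = true := by decide +kernel
theorem b0 : A23.lvlB l0 [] 0 255 9 = true := by decide +kernel

def c1 : List (List ℕ) := [[15],
  [17, 9, 2],
  [5],
  [7],
  [11, 13, 8, 10]]
def l1 : List (List ℕ) := [[8],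
  [9, 5, 2],
  [3],
  [4],
  [6, 7, 5, 6]]
theorem m1 : memB W c1 l1 = true := by decide +kernel
theorem b1 : A23.lvlB l1 [0] 1 128 7 = true := by decide +kernel

def c2 : List (List ℕ) := [[5, 15],
  [11],
  [7, 9],
  [7, 5, 11, 16, 12],
  [11, 15, 8]]
def l2 : List (List ℕ) := [[3, 8],
  [6],
  [4, 5],
  [4, 3, 6, 9, 7],
  [6, 8, 5]]
theorem m2 : memB W c2 l2 = true := by decide +kernel
theorem b2 : A23.lvlB l2 [1, 0] 2 63 3 = true := by decide +kernel

def c3 : List (List ℕ) := [[11],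
  [17, 9],
  [7, 13],
  [9],
  [15]]
def l3 : List (List ℕ) := [[6],
  [9, 5],
  [4, 7],
  [5],
  [8]]
theorem m3 : memB W c3 l3 = true := by decide +kernel
theorem b3 : A23.lvlB l3 [2, 1, 0] 3 32 4 = true := by decide +kernel

def c4 : List (List ℕ) := [[9, 13, 11],
  [9, 13, 17],
  [15]]
def l4 : List (List ℕ) := [[5, 7, 6],
  [5, 7, 9],
  [8]]
theorem m4 : memB W c4 l4 = true := by decide +kernel
theorem b4 : A23.lvlB l4 [3, 2, 1, 0] 4 15 2 = true := by decide +kernel

def c5 : List (List ℕ) := [[11],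
  [13],
  [15],
  [17]]
def l5 : List (List ℕ) := [[6],
  [7],
  [8],
  [9]]
theorem m5 : memB W c5 l5 = true := by decide +kernel
theorem b5 : A23.lvlB l5 [4, 3, 2, 1, 0] 5 8 1 = true := by decide +kernel

def c6 : List (List ℕ) := [[13],
  [15]]
def l6 : List (List ℕ) := [[7],
  [8]]
theorem m6 : memB W c6 l6 = true := by decide +kernel
theorem b6 : A23.lvlB l6 [5, 4, 3, 2, 1, 0] 6 3 1 = true := by decide +kernel

def c7 : List (List ℕ) := [[15]]
def l7 : List (List ℕ) := [[8]]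
theorem m7 : memB W c7 l7 = true := by decide +kernel
theorem b7 : A23.lvlB l7 [6, 5, 4, 3, 2, 1, 0] 8 2 1 = true := by decide +kernel

/-- The order of a subgroup containing the words is at least 47377612800. -/
theorem card_ge (S : Subgroup Cfsg.Spor.Fi23) (h : ∀ w ∈ ws, Script.ev (OracleFi23.fgen 0) w ∈ S) :
    47377612800 ≤ Nat.card S := by
  have hW : ∀ w ∈ W, A23.wd w ∈ S := Act.mem_of_ev A23 (ws := ws) h W_eq
  have h0 := Act.Ch.nil A23 S
  have h1 := Act.Ch.step A23 h0 hW c0 l0 0 255 9 m0 b0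
  have h2 := Act.Ch.step A23 h1 hW c1 l1 1 128 7 m1 b1
  have h3 := Act.Ch.step A23 h2 hW c2 l2 2 63 3 m2 b2
  have h4 := Act.Ch.step A23 h3 hW c3 l3 3 32 4 m3 b3
  have h5 := Act.Ch.step A23 h4 hW c4 l4 4 15 2 m4 b4
  have h6 := Act.Ch.step A23 h5 hW c5 l5 5 8 1 m5 b5
  have h7 := Act.Ch.step A23 h6 hW c6 l6 6 3 1 m6 b6
  have h8 := Act.Ch.step A23 h7 hW c7 l7 8 2 1 m7 b7
  exact le_trans (by norm_num) (Act.Ch.card_le A23 h8)

/-- The index of a subgroup containing the words is at most 86316516. -/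
theorem index_le (S : Subgroup Cfsg.Spor.Fi23) (h : ∀ w ∈ ws, Script.ev (OracleFi23.fgen 0) w ∈ S) :
    S.index ≠ 0 ∧ S.index ≤ 86316516 :=
  index_le_of_card Psi.card_Fi23 (card_ge S h) (by norm_num) (by norm_num)

end Cfsg.Agent.BM.StageBNode1
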