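import Cfsg.Agent.BM.ChainConj
import Cfsg.Agent.BM.StageBNode1

/-!
Index bound for a subgroup of `Spor.Fi23` given by words, by conjugation to `StageBNode1` (generated file).
-/

set_option autoImplicit false
set_option maxRecDepth 100000

namespace Cfsg.Agent.BM.StageBV2

open Cfsg.Agent.BM.Chain Cfsg.Agent.BM.ChainConj

/-- The generating words (hexadecimal, first letter = lowest digit). -/
def ws : List ℕ := [0x1, 0xa, 0x7, 0x8, 0x659456723456954327345695437695469569]

/-- The inverse words. -/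
def vs : List ℕ := [0x1, 0xa, 0x7, 0x8, 0x965964596734596543723459654327654956]

theorem vs_ok : invOk ws vs = true := by decide +kernel

/-- The conjugating word. -/
def g : ℕ := 0xa954321654329543654956

/-- Its inverse. -/
def g' : ℕ := 0x659456345923456123459a

theorem g_ok : invOk [g] [g'] = true := by decide +kernel

theorem t0 : chk1 ws vs g g' 0x1 [2, 8, 4, 2, 9, 4, 8, 4, 2, 9, 2] = true := by decide +kernel
theorem t1 : chk1 ws vs g g' 0x2 [8, 3, 8, 4, 2, 9, 4, 8, 4, 2, 9, 2, 9] = true := by decide +kernel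
theorem t2 : chk1 ws vs g g' 0x3 [9, 9, 1, 9, 1, 5, 9, 4, 8, 4, 0, 8, 0, 8, 8] = true := by decide +kernel
theorem t3 : chk1 ws vs g g' 0x4 [9, 1, 9, 4, 0, 9, 4, 8, 4, 0, 8, 0, 8] = true := by decide +kernel
theorem t4 : chk1 ws vs g g' 0x5 [0, 9, 4, 0, 9, 4, 8, 4, 0, 8, 0] = true := by decide +kernel
theorem t5 : chk1 ws vs g g' 0x6 [0] = true := by decide +kernel
theorem t6 : chk1 ws vs g g' 0x7 [4, 9, 4, 8, 4] = true := by decide +kernel
theorem t7 : chk1 ws vs g g' 0x8 [6] = true := by decide +kernel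
theorem t8 : chk1 ws vs g g' 0x9 [4, 9, 2, 8, 4] = true := by decide +kernel

theorem all : conjB ws vs g g' StageBNode1.ws
    [[2, 8, 4, 2, 9, 4, 8, 4, 2, 9, 2], [8, 3, 8, 4, 2, 9, 4, 8, 4, 2, 9, 2, 9], [9, 9, 1, 9, 1, 5, 9, 4, 8, 4, 0, 8, 0, 8, 8], [9, 1, 9, 4, 0, 9, 4, 8, 4, 0, 8, 0, 8], [0, 9, 4, 0, 9, 4, 8, 4, 0, 8, 0], [0], [4, 9, 4, 8, 4], [6], [4, 9, 2, 8, 4]] = true :=
  conjB_cons t0 <| conjB_cons t1 <| conjB_cons t2 <| conjB_cons t3 <| conjB_cons t4 <| conjB_cons t5 <| conjB_cons t6 <| conjB_cons t7 <| conjB_cons t8 <| conjB_nil _ _ _ _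

/-- The order of a subgroup containing the words is at least 47377612800. -/
theorem card_ge (S : Subgroup Cfsg.Spor.Fi23) (h : ∀ w ∈ ws, Script.ev (OracleFi23.fgen 0) w ∈ S) :
    47377612800 ≤ Nat.card S :=
  card_ge_of_conj StageBNode1.card_ge S h vs_ok g_ok all

/-- The index of a subgroup containing the words is at most 86316516. -/
theorem index_le (S : Subgroup Cfsg.Spor.Fi23) (h : ∀ w ∈ ws, Script.ev (OracleFi23.fgen 0) w ∈ S) :
    S.index ≠ 0 ∧ S.index ≤ 86316516 :=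
  index_le_of_card Psi.card_Fi23 (card_ge S h) (by norm_num) (by norm_num)

end Cfsg.Agent.BM.StageBV2
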