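import Cfsg.Agent.BM.ChainConj
import Cfsg.Agent.BM.StageBNode1

/-!
Index bound for a subgroup of `Spor.Fi23` given by words, by conjugation to `StageBNode1` (generated file).
-/

set_option autoImplicit false
set_option maxRecDepth 100000

namespace Cfsg.Agent.BM.StageBV3

open Cfsg.Agent.BM.Chain Cfsg.Agent.BM.ChainConj

/-- The generating words (hexadecimal, first letter = lowest digit). -/
def ws : List ℕ := [0x7563459a1234597654321a345965432a9543a954a5987656a, 0x1234567956a9543213456723456a9543245695434567956a954656a9]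

/-- The inverse words. -/
def vs : List ℕ := [0xa6567895a459a3459a234569543a1234567954321a9543657, 0x9a656459a6597654345965423459a6543276543123459a6597654321]

theorem vs_ok : invOk ws vs = true := by decide +kernel

/-- The conjugating word. -/
def g : ℕ := 0xa9543216543276589543267a954365478956a7641421692378481459828917343567541584a81727563589a1637342a53538527468425a34324594836479849a469a7914a91784a9721386261424175a24a94514542968473471a2487a931a2579a713218948283853734927837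

/-- Its inverse. -/
def g' : ℕ := 0x738729437358382849812317a9752a139a7842a17437486924541549a42a5714241626831279a48719a4197a964a94897463849542343a52486472583535a2437361a98536572718a4851457653437198289541848732961241467a659874563459a7623459856723456123459a

theorem g_ok : invOk [g] [g'] = true := by decide +kernel

theorem t0 : chk1 ws vs g g' 0x1 [1, 1, 3, 1, 2, 1, 3, 1, 3, 0, 2, 1, 3, 1, 3, 0, 2, 2, 1, 2, 1, 3, 1, 2, 0, 0, 3, 1, 3] = true := by decide +kernel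
theorem t1 : chk1 ws vs g g' 0x2 [2, 1, 1, 3, 1, 3, 1, 1, 3, 1, 2, 1, 3, 1, 3, 0, 2, 1, 3, 1, 3, 0, 2, 2, 1, 2, 1, 3, 1] = true := by decide +kernel
theorem t2 : chk1 ws vs g g' 0x3 [0, 3, 0, 3, 1, 3, 1, 2, 1, 1, 3, 1, 2, 0, 3, 0, 2, 0, 0, 3, 1, 3, 0, 2, 0, 2, 2, 1, 3] = true := by decide +kernel
theorem t3 : chk1 ws vs g g' 0x4 [2, 1, 3, 3, 0, 3, 3, 1, 3, 1, 1, 2, 1, 3, 0, 2, 1, 3, 0, 3, 1, 2, 2, 1, 2, 0, 3, 0] = true := by decide +kernel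
theorem t4 : chk1 ws vs g g' 0x5 [3, 0, 2, 0, 3, 0, 2, 1, 2, 1, 1, 3, 1, 3, 0, 2, 1, 2, 2, 1, 3, 1, 2, 0, 3, 0, 2, 1, 3, 0] = true := by decide +kernel
theorem t5 : chk1 ws vs g g' 0x6 [1, 2, 1, 3, 1, 3, 1, 1, 2, 0, 2, 0, 3, 0, 2, 2, 0, 0, 3, 1, 3, 1, 3, 1, 2, 2, 0, 2, 0, 3] = true := by decide +kernel
theorem t6 : chk1 ws vs g g' 0x7 [1, 1, 2, 1, 2, 1, 3, 1, 2, 1, 1, 2, 0, 3, 0, 3, 0, 0, 2, 0, 2, 2, 0, 0, 2, 0, 2, 1, 3] = true := by decide +kernel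
theorem t7 : chk1 ws vs g g' 0x8 [0, 3, 1, 3, 1, 1, 2, 1, 2, 1, 1, 3, 1, 3, 1, 2, 0, 2, 1, 2, 2, 0, 0, 3, 1, 3, 1, 3, 1, 2] = true := by decide +kernel
theorem t8 : chk1 ws vs g g' 0x9 [3, 1, 3, 3, 0, 3, 3, 1, 3, 1, 2, 0, 2, 0, 3, 1, 2, 2, 1, 2, 1, 3, 0, 2, 2, 0, 3, 0, 0] = true := by decide +kernel

theorem all : conjB ws vs g g' StageBNode1.ws
    [[1, 1, 3, 1, 2, 1, 3, 1, 3, 0, 2, 1, 3, 1, 3, 0, 2, 2, 1, 2, 1, 3, 1, 2, 0, 0, 3, 1, 3], [2, 1, 1, 3, 1, 3, 1, 1, 3, 1, 2, 1, 3, 1, 3, 0, 2, 1, 3, 1, 3, 0, 2, 2, 1, 2, 1, 3, 1], [0, 3, 0, 3, 1, 3, 1, 2, 1, 1, 3, 1, 2, 0, 3, 0, 2, 0, 0, 3, 1, 3, 0, 2, 0, 2, 2, 1, 3], [2, 1, 3, 3, 0, 3, 3, 1, 3, 1, 1, 2, 1, 3, 0, 2, 1, 3, 0, 3, 1, 2, 2, 1, 2, 0, 3, 0], [3, 0, 2, 0, 3, 0, 2, 1, 2, 1, 1, 3, 1, 3, 0, 2, 1, 2, 2, 1, 3, 1, 2, 0, 3, 0, 2, 1, 3, 0], [1, 2, 1, 3, 1, 3, 1, 1, 2, 0, 2, 0, 3, 0, 2, 2, 0, 0, 3, 1,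 3, 1, 3, 1, 2, 2, 0, 2, 0, 3], [1, 1, 2, 1, 2, 1, 3, 1, 2, 1, 1, 2, 0, 3, 0, 3, 0, 0, 2, 0, 2, 2, 0, 0, 2, 0, 2, 1, 3], [0, 3, 1, 3, 1, 1, 2, 1, 2, 1, 1, 3, 1, 3, 1, 2, 0, 2, 1, 2, 2, 0, 0, 3, 1, 3, 1, 3, 1, 2], [3, 1, 3, 3, 0, 3, 3, 1, 3, 1, 2, 0, 2, 0, 3, 1, 2, 2, 1, 2, 1, 3, 0, 2, 2, 0, 3, 0, 0]] = true :=
  conjB_cons t0 <| conjB_cons t1 <| conjB_cons t2 <| conjB_cons t3 <| conjB_cons t4 <| conjB_cons t5 <| conjB_cons t6 <| conjB_cons t7 <| conjB_cons t8 <| conjB_nil _ _ _ _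

/-- The order of a subgroup containing the words is at least 47377612800. -/
theorem card_ge (S : Subgroup Cfsg.Spor.Fi23) (h : ∀ w ∈ ws, Script.ev (OracleFi23.fgen 0) w ∈ S) :
    47377612800 ≤ Nat.card S :=
  card_ge_of_conj StageBNode1.card_ge S h vs_ok g_ok all

/-- The index of a subgroup containing the words is at most 86316516. -/
theorem index_le (S : Subgroup Cfsg.Spor.Fi23) (h : ∀ w ∈ ws, Script.ev (OracleFi23.fgen 0) w ∈ S) :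
    S.index ≠ 0 ∧ S.index ≤ 86316516 :=
  index_le_of_card Psi.card_Fi23 (card_ge S h) (by norm_num) (by norm_num)

end Cfsg.Agent.BM.StageBV3
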