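import Cfsg.Agent.BM.ChainConj
import Cfsg.Agent.BM.StageBNode0

/-!
Index bound for a conjugate of `⟨t2, …, t10⟩` given by words: a power of a short product is a transposition
(`d`), and the conjugates of the letters are conjugates of `d` (generated file).
-/

set_option autoImplicit false
set_option maxRecDepth 100000

namespace Cfsg.Agent.BM.StageBV4

open Cfsg.Agent.BM.Chain Cfsg.Agent.BM.ChainConj

/-- The generating words (hexadecimal, first letter = lowest digit). -/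
def ws : List ℕ := [0xa9234567123456954321569543259456a9543a9567456a95495a9a, 0x67563459a7345612345987654321967456234598765432a595674563459a4563459876543659a4597654a987657a]

/-- The inverse words. -/
def vs : List ℕ := [0xa9a59459a6547659a3459a6549523459651234596543217654329a, 0xa756789a4567954a9563456789543654a954365476595a2345678954326547691234567895432165437a95436576]

theorem vs_ok : invOk ws vs = true := by decide +kernel

/-- A transposition. -/
def d : ℕ := 0x8756459a345967345623459a675623459876543212345678954326576a954326543769543a9546578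

theorem d_ok : chk1 ws vs 0 0 d [0, 0, 3, 0, 0, 3, 0, 0, 3, 0, 0, 3, 0, 0, 3, 0, 0, 3, 0, 0, 3] = true := by decide +kernel

/-- The generating words and the transposition. -/
def ws2 : List ℕ := [0xa9234567123456954321569543259456a9543a9567456a95495a9a, 0x67563459a7345612345987654321967456234598765432a595674563459a4563459876543659a4597654a987657a, 0x8756459a345967345623459a675623459876543212345678954326576a954326543769543a9546578]

/-- The inverse words. -/
def vs2 : List ℕ := [0xa9a59459a6547659a3459a6549523459651234596543217654329a, 0xa756789a4567954a9563456789543654a954365476595a2345678954326547691234567895432165437a95436576, 0x8756459a345967345623459a675623459876543212345678954326576a954326543769543a9546578]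

theorem vs2_ok : invOk ws2 vs2 = true := by decide +kernel

/-- The conjugating word. -/
def g : ℕ := 0x12345678954326576a9543216543768954a9

/-- Its inverse. -/
def g' : ℕ := 0x9a4598673456123459a67562345987654321

theorem g_ok : invOk [g] [g'] = true := by decide +kernel

theorem t0 : chk1 ws2 vs2 g g' 0x2 [1, 1, 2, 1, 1, 3, 1, 1, 1, 3, 1, 3, 0, 4, 1, 2, 0, 2, 0, 0, 0, 2, 0, 0, 3, 0, 0] = true := by decide +kernel
theorem t1 : chk1 ws2 vs2 g g' 0x3 [2, 1, 2, 1, 3, 1, 1, 2, 0, 4, 1, 3, 0, 0, 2, 0, 3, 0, 3] = true := by decide +kernel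
theorem t2 : chk1 ws2 vs2 g g' 0x4 [1, 2, 0, 3, 0, 2, 1, 3, 0, 4, 1, 2, 0, 3, 1, 2, 1, 3, 0] = true := by decide +kernel
theorem t3 : chk1 ws2 vs2 g g' 0x5 [3, 1, 3, 0, 0, 3, 0, 2, 1, 3, 0, 4, 1, 2, 0, 3, 1, 2, 1, 1, 2, 0, 2] = true := by decide +kernel
theorem t4 : chk1 ws2 vs2 g g' 0x6 [0, 2, 1, 1, 2, 1, 1, 3, 0, 4, 1, 2, 0, 0, 3, 0, 0, 3, 1] = true := by decide +kernel
theorem t5 : chk1 ws2 vs2 g g' 0x7 [3, 0, 0, 2, 1, 2, 1, 3, 0, 4, 1, 2, 0, 3, 0, 3, 1, 1, 2] = true := by decide +kernel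
theorem t6 : chk1 ws2 vs2 g g' 0x8 [0, 2, 1, 1, 3, 1, 1, 1, 3, 1, 3, 0, 4, 1, 2, 0, 2, 0, 0, 0, 2, 0, 0, 3, 1] = true := by decide +kernel
theorem t7 : chk1 ws2 vs2 g g' 0x9 [1, 2, 1, 1, 3, 0, 4, 1, 2, 0, 0, 3, 0] = true := by decide +kernel
theorem t8 : chk1 ws2 vs2 g g' 0xa [0, 3, 0, 0, 0, 3, 0, 3, 0, 4, 1, 2, 1, 2, 1, 1, 1, 2, 1] = true := by decide +kernel

theorem all : conjB ws2 vs2 g g' StageBNode0.ws
    [[1, 1, 2, 1, 1, 3, 1, 1, 1, 3, 1, 3, 0, 4, 1, 2, 0, 2, 0, 0, 0, 2, 0, 0, 3, 0, 0], [2, 1, 2, 1, 3, 1, 1, 2, 0, 4, 1, 3, 0, 0, 2, 0, 3, 0, 3], [1, 2, 0, 3, 0, 2, 1, 3, 0, 4, 1, 2, 0, 3, 1, 2, 1, 3, 0], [3, 1, 3, 0, 0, 3, 0, 2, 1, 3, 0, 4, 1, 2, 0, 3, 1, 2, 1, 1, 2, 0, 2], [0, 2, 1, 1, 2, 1, 1, 3, 0, 4, 1, 2, 0, 0, 3, 0, 0, 3, 1], [3, 0, 0, 2, 1, 2, 1, 3, 0, 4, 1, 2, 0, 3, 0, 3, 1, 1, 2], [0, 2, 1, 1, 3, 1, 1, 1, 3, 1, 3, 0, 4, 1, 2, 0, 2, 0, 0, 0, 2, 0, 0, 3, 1], [1, 2, 1, 1, 3, 0, 4, 1, 2, 0, 0, 3, 0], [0, 3, 0, 0, 0,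 3, 0, 3, 0, 4, 1, 2, 1, 2, 1, 1, 1, 2, 1]] = true :=
  conjB_cons t0 <| conjB_cons t1 <| conjB_cons t2 <| conjB_cons t3 <| conjB_cons t4 <| conjB_cons t5 <| conjB_cons t6 <| conjB_cons t7 <| conjB_cons t8 <| conjB_nil _ _ _ _

theorem card_ge0 (S : Subgroup Cfsg.Spor.Fi23)
    (h : ∀ w ∈ StageBNode0.ws, Script.ev (OracleFi23.fgen 0) w ∈ S) : 129123503308800 ≤ Nat.card S := by
  obtain ⟨_, h2⟩ := StageBNode0.index_le S h
  have h3 := Subgroup.card_mul_index S
  rw [Psi.card_Fi23] at h3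
  by_contra hc
  have h4 : Nat.card S * S.index ≤ 129123503308799 * 31671 := Nat.mul_le_mul (by omega) h2
  rw [h3] at h4
  norm_num at h4

theorem mem_d (S : Subgroup Cfsg.Spor.Fi23) (h : ∀ w ∈ ws, Script.ev (OracleFi23.fgen 0) w ∈ S) :
    Script.ev (OracleFi23.fgen 0) d ∈ S := by
  have h1 := mem_of_conjB (S := S) (ws := ws) (vs := vs) h vs_ok (g := 0) (g' := 0) (nice := [d])
    (conjB_cons d_ok (conjB_nil _ _ _ _)) d (List.mem_singleton.2 rfl)
  have h0 : E 0 = 1 := Script.ev_zero _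
  rwa [h0, one_mul, mul_one] at h1

/-- The order of a subgroup containing the words is at least 129123503308800. -/
theorem card_ge (S : Subgroup Cfsg.Spor.Fi23) (h : ∀ w ∈ ws, Script.ev (OracleFi23.fgen 0) w ∈ S) :
    129123503308800 ≤ Nat.card S :=
  card_ge_of_conj card_ge0 S (ws := ws2) (by
    intro w hw
    have h2 : ws2 = ws ++ [d] := rfl
    rw [h2, List.mem_append, List.mem_singleton] at hw
    rcases hw with hw | rfl
    · exact h w hw
    · exact mem_d S h) vs2_ok g_ok all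

/-- The index of a subgroup containing the words is at most 31671. -/
theorem index_le (S : Subgroup Cfsg.Spor.Fi23) (h : ∀ w ∈ ws, Script.ev (OracleFi23.fgen 0) w ∈ S) :
    S.index ≠ 0 ∧ S.index ≤ 31671 :=
  index_le_of_card Psi.card_Fi23 (card_ge S h) (by norm_num) (by norm_num)

end Cfsg.Agent.BM.StageBV4
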