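import Cfsg.Agent.BM.Chain

/-!
Index bound for a subgroup of `Spor.Fi23` given by words (generated file).
-/

set_option autoImplicit false
set_option maxRecDepth 100000

namespace Cfsg.Agent.BM.StageBNode3

open Cfsg.Agent.BM.Chain

/-- The generating words (hexadecimal, first letter = lowest digit). -/
def ws : List ℕ := [0x15, 0x25, 0x35, 0x65, 0x75, 0x85, 0x95, 0xa5, 0x459a6597654567956a9545, 0x456734562345987654321234567895432654376545]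

/-- The generating words as lists of letters. -/
def W : List (List ℕ) := [[5, 1],
  [5, 2],
  [5, 3],
  [5, 6],
  [5, 7],
  [5, 8],
  [5, 9],
  [5, 10],
  [5, 4, 5, 9, 10, 6, 5, 9, 7, 6, 5, 4, 5, 6, 7, 9, 5, 6, 10, 9, 5, 4],
  [5, 4, 5, 6, 7, 3, 4, 5, 6, 2, 3, 4, 5, 9, 8, 7, 6, 5, 4, 3, 2, 1, 2, 3, 4, 5, 6, 7, 8, 9, 5, 4, 3, 2, 6, 5, 4, 3, 7, 6, 5, 4]]

theorem W_eq : W = ws.map dig := by decide +kernel

def c0 : List (List ℕ) := [[0],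
  [2],
  [8],
  [4],
  [16],
  [10],
  [18],
  [6],
  [12],
  [14]]
def l0 : List (List ℕ) := [[5, 1],
  [5, 2],
  [5, 7],
  [5, 3],
  [5, 4, 5, 9, 10, 6, 5, 9, 7, 6, 5, 4, 5, 6, 7, 9, 5, 6, 10, 9, 5, 4],
  [5, 8],
  [5, 4, 5, 6, 7, 3, 4, 5, 6, 2, 3, 4, 5, 9, 8, 7, 6, 5, 4, 3, 2, 1, 2, 3, 4, 5, 6, 7, 8, 9, 5, 4, 3, 2, 6, 5, 4, 3, 7, 6, 5, 4],
  [5, 6],
  [5, 9],
  [5, 10]]
theorem m0 : memB W c0 l0 = true := by decide +kernel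
theorem b0 : A23.lvlB l0 [] 8006 66 3 = true := by decide +kernel

def c1 : List (List ℕ) := [[9, 12],
  [3, 13, 15, 2],
  [13, 7, 14, 4],
  [11, 9, 7, 0],
  [9, 11, 6],
  [9, 19, 16, 7]]
def l1 : List (List ℕ) := [[7, 9],
  [2, 5, 9, 5, 10, 2],
  [9, 5, 6, 10, 5, 3],
  [8, 5, 7, 5, 6, 1],
  [7, 5, 8, 6],
  [7, 5, 4, 5, 6, 7, 3, 4, 5, 6, 2, 3, 4, 5, 9, 8, 7, 6, 5, 4, 3, 2, 1, 2, 3, 4, 5, 6, 7, 8, 9, 5, 4, 3, 2, 6, 5, 4, 3, 7, 6, 9, 10, 6, 5, 9, 7, 6, 5, 4, 5, 6, 7, 9, 5, 6, 10, 9, 5, 4, 6, 5]]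
theorem m1 : memB W c1 l1 = true := by decide +kernel
theorem b1 : A23.lvlB l1 [8006] 8000 45 2 = true := by decide +kernel

def c2 : List (List ℕ) := [[1, 11, 9, 7, 13, 10, 6],
  [7, 13, 7],
  [11, 15, 8],
  [5, 15, 19, 16, 10],
  [5]]
def l2 : List (List ℕ) := [[1, 5, 8, 5, 7, 5, 6, 5, 9, 8, 5, 6],
  [6, 5, 9, 5, 6, 5],
  [8, 5, 10, 7],
  [3, 5, 10, 5, 4, 5, 6, 7, 3, 4, 5, 6, 2, 3, 4, 5, 9, 8, 7, 6, 5, 4, 3, 2, 1, 2, 3, 4, 5, 6, 7, 8, 9, 5, 4, 3, 2, 6, 5, 4, 3, 7, 6, 9, 10, 6, 5, 9, 7, 6, 5, 4, 5, 6, 7, 9, 5, 6, 10, 9, 5, 4, 5, 8],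
  [3, 5]]
theorem m2 : memB W c2 l2 = true := by decide +kernel
theorem b2 : A23.lvlB l2 [8000, 8006] 8003 16 1 = true := by decide +kernel

def c3 : List (List ℕ) := [[1, 9, 7, 15, 12, 6, 9, 19],
  [5, 9, 7, 13, 15, 13, 7, 9],
  [11, 15],
  [5, 9, 7, 13, 7, 9, 11, 17],
  [1, 11],
  [5, 9, 7, 13, 7, 9, 11, 15]]
def l3 : List (List ℕ) := [[1, 5, 7, 5, 6, 5, 10, 9, 5, 6, 7, 5, 4, 5, 6, 7, 3, 4, 5, 6, 2, 3, 4, 5, 9, 8, 7, 6, 5, 4, 3, 2, 1, 2, 3, 4, 5, 6, 7, 8, 9, 5, 4, 3, 2, 6, 5, 4, 3, 7, 6, 5, 4, 5],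
  [3, 5, 7, 5, 6, 5, 9, 5, 10, 5, 9, 5, 6, 5, 7, 5],
  [8, 5, 10, 5],
  [3, 5, 7, 5, 6, 5, 9, 5, 6, 5, 7, 5, 8, 5, 4, 5, 9, 10, 6, 5, 9, 7, 6, 5, 4, 5, 6, 7, 9, 5, 6, 10, 9, 5, 4, 5],
  [1, 5, 8, 5],
  [3, 5, 7, 5, 6, 5, 9, 5, 6, 5, 7, 5, 8, 5, 10, 5]]
theorem m3 : memB W c3 l3 = true := by decide +kernel
theorem b3 : A23.lvlB l3 [8003, 8000, 8006] 0 14 1 = true := by decide +kernel

def c4 : List (List ℕ) := [[11, 17],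
  [5, 15],
  [5, 11, 9, 7, 13, 7, 9, 11],
  [11, 15]]
def l4 : List (List ℕ) := [[8, 5, 4, 5, 9, 10, 6, 5, 9, 7, 6, 5, 4, 5, 6, 7, 9, 5, 6, 10, 9, 5, 4, 5],
  [3, 5, 10, 5],
  [3, 5, 8, 5, 7, 5, 6, 5, 9, 5, 6, 5, 7, 5, 8, 5],
  [8, 5, 10, 5]]
theorem m4 : memB W c4 l4 = true := by decide +kernel
theorem b4 : A23.lvlB l4 [0, 8003, 8000, 8006] 3 6 1 = true := by decide +kernel

def c5 : List (List ℕ) := [[5, 17, 5, 11],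
  [9, 7, 13, 7, 9, 11],
  [11, 15]]
def l5 : List (List ℕ) := [[3, 5, 4, 5, 9, 10, 6, 5, 9, 7, 6, 5, 4, 5, 6, 7, 9, 5, 6, 10, 9, 5, 4, 5, 3, 5, 8, 5],
  [7, 5, 6, 5, 9, 5, 6, 5, 7, 5, 8, 5],
  [8, 5, 10, 5]]
theorem m5 : memB W c5 l5 = true := by decide +kernel
theorem b5 : A23.lvlB l5 [3, 0, 8003, 8000, 8006] 2 5 1 = true := by decide +kernel

def c6 : List (List ℕ) := [[9, 7, 13, 7, 9, 11],
  [9, 7, 15, 12, 6, 9],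
  [11, 15]]
def l6 : List (List ℕ) := [[7, 5, 6, 5, 9, 5, 6, 5, 7, 5, 8, 5],
  [7, 5, 6, 5, 10, 9, 5, 6, 7, 5],
  [8, 5, 10, 5]]
theorem m6 : memB W c6 l6 = true := by decide +kernel
theorem b6 : A23.lvlB l6 [2, 3, 0, 8003, 8000, 8006] 4 6 1 = true := by decide +kernel

def c7 : List (List ℕ) := [[11, 15]]
def l7 : List (List ℕ) := [[8, 5, 10, 5]]
theorem m7 : memB W c7 l7 = true := by decide +kernel
theorem b7 : A23.lvlB l7 [4, 2, 3, 0, 8003, 8000, 8006] 7 2 1 = true := by decide +kernel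

/-- The order of a subgroup containing the words is at least 239500800. -/
theorem card_ge (S : Subgroup Cfsg.Spor.Fi23) (h : ∀ w ∈ ws, Script.ev (OracleFi23.fgen 0) w ∈ S) :
    239500800 ≤ Nat.card S := by
  have hW : ∀ w ∈ W, A23.wd w ∈ S := Act.mem_of_ev A23 (ws := ws) h W_eq
  have h0 := Act.Ch.nil A23 S
  have h1 := Act.Ch.step A23 h0 hW c0 l0 8006 66 3 m0 b0
  have h2 := Act.Ch.step A23 h1 hW c1 l1 8000 45 2 m1 b1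
  have h3 := Act.Ch.step A23 h2 hW c2 l2 8003 16 1 m2 b2
  have h4 := Act.Ch.step A23 h3 hW c3 l3 0 14 1 m3 b3
  have h5 := Act.Ch.step A23 h4 hW c4 l4 3 6 1 m4 b4
  have h6 := Act.Ch.step A23 h5 hW c5 l5 2 5 1 m5 b5
  have h7 := Act.Ch.step A23 h6 hW c6 l6 4 6 1 m6 b6
  have h8 := Act.Ch.step A23 h7 hW c7 l7 7 2 1 m7 b7
  exact le_trans (by norm_num) (Act.Ch.card_le A23 h8)

/-- The index of a subgroup containing the words is at most 17074976256. -/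
theorem index_le (S : Subgroup Cfsg.Spor.Fi23) (h : ∀ w ∈ ws, Script.ev (OracleFi23.fgen 0) w ∈ S) :
    S.index ≠ 0 ∧ S.index ≤ 17074976256 :=
  index_le_of_card Psi.card_Fi23 (card_ge S h) (by norm_num) (by norm_num)

end Cfsg.Agent.BM.StageBNode3
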