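import Cfsg.Agent.BM.ConjIdx
import Cfsg.Agent.BM.StageBNode3

/-!
Index bound for the node 5 of the stage B certificate (generated file): the words `ws` generate a conjugate of
the group generated by the words of `StageBNode3`.
-/

set_option autoImplicit false
set_option maxRecDepth 100000

namespace Cfsg.Agent.BM.StageBV5

open Cfsg.Agent.BM.Chain Cfsg.Agent.BM.ConjIdx

/-- The generating words (hexadecimal, first letter = lowest digit). -/
def ws : List ℕ := [0x7659a4596756459876543257a, 0x74563459a563459765436459a564597654965a, 0x7459345623459123456a9543214593456a95432345695436594567659456a9547659]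

/-- The inverse words. -/
def wsr : List ℕ := [0xa7523456789546576954a9567, 0xa569456795465a954634567954365a95436547, 0x9567459a65495676549563459654323459a6543954123459a6543219543265439547]

/-- The conjugating word. -/
def gw : ℕ := 0x4321543657954326543768954a95678659a43215496372543965219a7645439a45678

/-- Its inverse. -/
def gwr : ℕ := 0x87654a9345467a91256934527369451234a95687659a4598673456234597563451234

/-- The products. -/
def css : List (List ℕ) := [
  [3, 2, 0, 0, 1, 0, 5, 1, 0, 2, 4, 2, 0],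
  [1, 0, 0, 2, 0, 4, 3, 2, 1, 2, 0, 4],
  [1, 2, 2, 1, 2, 1, 0, 2, 2, 3, 5],
  [5, 4, 5, 4, 2, 3, 3, 5, 3, 3, 1, 3],
  [3, 5, 0, 1, 5, 3, 3, 1, 2, 3, 5, 4, 0],
  [1, 5, 0, 5, 0, 2, 3, 5, 3, 1, 0, 1, 3, 3],
  [3, 2, 1, 2, 4, 0, 2, 1, 2, 4, 0, 0],
  [4, 5, 3, 4, 5, 4, 5, 4, 2, 2, 3, 1, 0],
  [3, 2, 4, 3, 2, 3, 4, 2, 4, 3, 1, 0, 2, 0],
  [5, 3, 2, 1, 0, 0, 1, 2, 4, 0, 2, 2, 0]]

theorem hr : wsr.map dig = ws.map (fun w => (dig w).reverse) := by decide +kernel

theorem hg : dig gwr = (dig gw).reverse := by decide +kernel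

theorem hc : conjB gw gwr (ws ++ wsr) StageBNode3.ws css = true := by decide +kernel

/-- The index of a subgroup containing the words is at most 17074976256. -/
theorem index_le (S : Subgroup Cfsg.Spor.Fi23) (h : ∀ w ∈ ws, Script.ev (OracleFi23.fgen 0) w ∈ S) :
    S.index ≠ 0 ∧ S.index ≤ 17074976256 :=
  index_le_of_conj h hr hg hc StageBNode3.index_le

end Cfsg.Agent.BM.StageBV5
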