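import Cfsg.Agent.BM.Chain

/-!
Index bound for a subgroup of `Spor.Fi23` given by words (generated file).
-/

set_option autoImplicit false
set_option maxRecDepth 100000

namespace Cfsg.Agent.BM.StageBNode2

open Cfsg.Agent.BM.Chain

/-- The generating words (hexadecimal, first letter = lowest digit). -/
def ws : List ℕ := [0x2, 0x4, 0x6, 0x8, 0x9, 0x3423, 0x5645, 0x5945, 0x7867, 0xa956459a]

/-- The generating words as lists of letters. -/
def W : List (List ℕ) := [[2],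
  [4],
  [6],
  [8],
  [9],
  [3, 2, 4, 3],
  [5, 4, 6, 5],
  [5, 4, 9, 5],
  [7, 6, 8, 7],
  [10, 9, 5, 4, 6, 5, 9, 10]]

theorem W_eq : W = ws.map dig := by decide +kernel

def c0 : List (List ℕ) := [[0],
  [10],
  [2],
  [6],
  [14],
  [18],
  [4],
  [8],
  [16],
  [12]]
def l0 : List (List ℕ) := [[2],
  [3, 2, 4, 3],
  [4],
  [8],
  [5, 4, 9, 5],
  [10, 9, 5, 4, 6, 5, 9, 10],
  [6],
  [9],
  [7, 6, 8, 7],
  [5, 4, 6, 5]]
theorem m0 : memB W c0 l0 = true := by decide +kernel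
theorem b0 : A23.lvlB l0 [] 1 5632 4 = true := by decide +kernel

def c1 : List (List ℕ) := [[5, 11, 17, 15, 12, 16, 10],
  [5, 13, 8],
  [7, 9, 19, 12, 8, 4],
  [5, 9, 15],
  [7, 9, 17, 14],
  [5, 9, 17, 12, 8, 2]]
def l1 : List (List ℕ) := [[6, 3, 4, 2, 3, 7, 8, 6, 7, 5, 9, 6, 5, 7, 6, 8, 7, 3, 2, 4, 3],
  [6, 5, 6, 4, 5, 9],
  [8, 9, 10, 9, 5, 6, 4, 5, 9, 10, 5, 4, 6, 5, 9, 6],
  [6, 9, 5, 9, 4, 5],
  [8, 9, 7, 8, 6, 7, 5, 4, 9, 5],
  [6, 9, 7, 8, 6, 7, 5, 4, 6, 5, 9, 4]]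
theorem m1 : memB W c1 l1 = true := by decide +kernel
theorem b1 : A23.lvlB l1 [1] 2 15 1 = true := by decide +kernel

def c2 : List (List ℕ) := [[15],
  [5, 19, 12],
  [9],
  [7, 9, 17, 12],
  [3, 15, 12],
  [3, 9, 17]]
def l2 : List (List ℕ) := [[5, 9, 4, 5],
  [6, 10, 9, 5, 6, 4, 5, 9, 10, 5, 4, 6, 5],
  [9],
  [8, 9, 7, 8, 6, 7, 5, 4, 6, 5],
  [4, 5, 9, 6, 5],
  [4, 9, 7, 8, 6, 7]]
theorem m2 : memB W c2 l2 = true := by decide +kernel
theorem b2 : A23.lvlB l2 [2, 1] 3 224 2 = true := by decide +kernel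

def c3 : List (List ℕ) := [[7, 9],
  [7],
  [5],
  [17],
  [13, 15]]
def l3 : List (List ℕ) := [[8, 9],
  [8],
  [6],
  [7, 8, 6, 7],
  [5, 6, 4, 9, 4, 5]]
theorem m3 : memB W c3 l3 = true := by decide +kernel
theorem b3 : A23.lvlB l3 [3, 2, 1] 5 12 1 = true := by decide +kernel

def c4 : List (List ℕ) := [[13, 15]]
def l4 : List (List ℕ) := [[5, 6, 4, 9, 4, 5]]
theorem m4 : memB W c4 l4 = true := by decide +kernel
theorem b4 : A23.lvlB l4 [5, 3, 2, 1] 4 2 1 = true := by decide +kernel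

def c5 : List (List ℕ) := [[7]]
def l5 : List (List ℕ) := [[8]]
theorem m5 : memB W c5 l5 = true := by decide +kernel
theorem b5 : A23.lvlB l5 [4, 5, 3, 2, 1] 8 2 1 = true := by decide +kernel

/-- The order of a subgroup containing the words is at least 908328960. -/
theorem card_ge (S : Subgroup Cfsg.Spor.Fi23) (h : ∀ w ∈ ws, Script.ev (OracleFi23.fgen 0) w ∈ S) :
    908328960 ≤ Nat.card S := by
  have hW : ∀ w ∈ W, A23.wd w ∈ S := Act.mem_of_ev A23 (ws := ws) h W_eq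
  have h0 := Act.Ch.nil A23 S
  have h1 := Act.Ch.step A23 h0 hW c0 l0 1 5632 4 m0 b0
  have h2 := Act.Ch.step A23 h1 hW c1 l1 2 15 1 m1 b1
  have h3 := Act.Ch.step A23 h2 hW c2 l2 3 224 2 m2 b2
  have h4 := Act.Ch.step A23 h3 hW c3 l3 5 12 1 m3 b3
  have h5 := Act.Ch.step A23 h4 hW c4 l4 4 2 1 m4 b4
  have h6 := Act.Ch.step A23 h5 hW c5 l5 8 2 1 m5 b5
  exact le_trans (by norm_num) (Act.Ch.card_le A23 h6)

/-- The index of a subgroup containing the words is at most 4502191005. -/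
theorem index_le (S : Subgroup Cfsg.Spor.Fi23) (h : ∀ w ∈ ws, Script.ev (OracleFi23.fgen 0) w ∈ S) :
    S.index ≠ 0 ∧ S.index ≤ 4502191005 :=
  index_le_of_card Psi.card_Fi23 (card_ge S h) (by norm_num) (by norm_num)

end Cfsg.Agent.BM.StageBNode2
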