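import Cfsg.Agent.BM.ConjIdx
import Cfsg.Agent.BM.StageBNode2

/-!
Index bound for the node 6 of the stage B certificate (generated file): the words `ws` generate a conjugate of
the group generated by the words of `StageBNode2`.
-/

set_option autoImplicit false
set_option maxRecDepth 100000

namespace Cfsg.Agent.BM.StageBV6

open Cfsg.Agent.BM.Chain Cfsg.Agent.BM.ConjIdx

/-- The generating words (hexadecimal, first letter = lowest digit). -/
def ws : List ℕ := [0xa596756459876547659876568a, 0x34569a59456345923456a9543265465, 0x234567123456954321675695432673456954345695456956]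

/-- The inverse words. -/
def wsr : List ℕ := [0xa865678956745678954657695a, 0x5645623459a65432954365495a96543, 0x659654596543459654376234596576123459654321765432]

/-- The conjugating word. -/
def gw : ℕ := 0x12345678956a974563459a

/-- Its inverse. -/
def gwr : ℕ := 0xa954365479a65987654321

/-- The products. -/
def css : List (List ℕ) := [
  [1, 5, 1, 1, 1, 5, 1, 1, 1, 5, 1, 1],
  [1, 1, 2, 4, 2, 4, 5, 1, 2, 1, 5, 1],
  [1, 2, 4, 2, 4, 5, 1, 2, 1, 5, 1, 1],
  [1, 2, 4, 4, 2, 1, 5, 4, 5, 1, 2, 1],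
  [0, 1, 1, 2, 4, 2, 4, 5, 1, 2, 1, 5, 1, 0],
  [4, 0, 2, 4, 2, 1, 0, 4, 5, 1, 5, 0, 1],
  [5, 1, 5, 0, 1, 0, 4, 0, 2, 4, 2],
  [4, 5, 4, 5, 4, 5, 0, 2, 1, 2, 1, 2, 1],
  [0, 4, 0, 1, 1, 1, 0, 4, 4, 4, 0, 1, 0],
  [0, 4, 2, 1, 2, 1, 0, 4, 5, 4, 5, 1, 0]]

theorem hr : wsr.map dig = ws.map (fun w => (dig w).reverse) := by decide +kernel

theorem hg : dig gwr = (dig gw).reverse := by decide +kernel

theorem hc : conjB gw gwr (ws ++ wsr) StageBNode2.ws css = true := by decide +kernel

/-- The index of a subgroup containing the words is at most 4502191005. -/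
theorem index_le (S : Subgroup Cfsg.Spor.Fi23) (h : ∀ w ∈ ws, Script.ev (OracleFi23.fgen 0) w ∈ S) :
    S.index ≠ 0 ∧ S.index ≤ 4502191005 :=
  index_le_of_conj h hr hg hc StageBNode2.index_le

end Cfsg.Agent.BM.StageBV6
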