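import Cfsg.Agent.BM.ConjIdx
import Cfsg.Agent.BM.StageBNode2

/-!
Index bound for the node 7 of the stage B certificate (generated file): the words `ws` generate a conjugate of
the group generated by the words of `StageBNode2`.
-/

set_option autoImplicit false
set_option maxRecDepth 100000

namespace Cfsg.Agent.BM.StageBV7

open Cfsg.Agent.BM.Chain Cfsg.Agent.BM.ConjIdx

/-- The generating words (hexadecimal, first letter = lowest digit). -/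
def ws : List ℕ := [0x65934561234597654321765432659456345976543567, 0x956459a9745634598765438756459a7645987654659765a9876a]

/-- The inverse words. -/
def wsr : List ℕ := [0x76534567954365495623456712345679543216543956, 0xa6789a5679564567895467a9546578345678954365479a954659]

/-- The conjugating word. -/
def gw : ℕ := 0x1232145432678a95432165432795674563459a5965432

/-- Its inverse. -/
def gwr : ℕ := 0x2345695a95436547659723456123459a8762345412321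

/-- The products. -/
def css : List (List ℕ) := [
  [2, 1, 0, 1, 0, 1, 0, 0, 1, 0, 0, 1, 0, 0, 1, 0, 0, 1, 0, 0, 1, 0, 0, 1, 0, 1, 2, 1, 0],
  [2, 1, 2, 1, 0, 0, 1, 0, 0, 1, 0, 0, 1, 0, 0, 1, 0, 0, 1, 0, 0, 1, 0, 0, 0, 1, 0],
  [0, 1, 2, 2, 2, 1, 2, 2, 1, 2, 2, 1, 2, 2, 1, 2, 2, 1, 2, 2, 1, 2, 2, 1, 0, 1, 2],
  [0, 0, 1, 2, 2, 2, 1, 2, 2, 1, 2, 2, 1, 2, 2, 1, 2, 2, 1, 2, 2, 1, 2, 2, 1, 0, 1, 2, 2],
  [1, 0, 0, 1, 0, 0, 1, 0, 0, 1, 0, 0, 1, 0, 0, 1, 0, 0, 1, 0, 0],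
  [0, 0, 0, 1, 0, 1, 0, 1, 0, 0, 1, 2, 2, 1, 2, 1, 2, 1, 2, 2, 2],
  [1, 2, 1, 2, 1, 2, 2, 1, 0, 1, 2, 2, 1, 0, 1, 2, 1, 0, 0, 1, 2, 1, 0, 0, 1, 0, 1, 0, 1],
  [0, 0, 1, 2, 1, 2, 2, 1, 2, 2, 2, 1, 0, 0, 0, 1, 0, 1, 2, 1, 2, 2, 1, 2, 1, 2, 1, 2, 1, 2, 2, 1, 2],
  [1, 2, 2, 1, 2, 2, 1, 0, 1, 2, 1, 2, 1, 0, 1, 2, 1, 0, 1, 0, 0, 1, 2, 2, 1, 0, 0],
  [1, 0, 0, 1, 2, 1, 0, 1, 0, 1, 0, 1, 2, 2, 2, 1, 2, 1, 2, 2, 1, 0, 0, 0, 1, 0, 0, 1, 0, 0, 0]]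

theorem hr : wsr.map dig = ws.map (fun w => (dig w).reverse) := by decide +kernel

theorem hg : dig gwr = (dig gw).reverse := by decide +kernel

theorem hc : conjB gw gwr (ws ++ wsr) StageBNode2.ws css = true := by decide +kernel

/-- The index of a subgroup containing the words is at most 4502191005. -/
theorem index_le (S : Subgroup Cfsg.Spor.Fi23) (h : ∀ w ∈ ws, Script.ev (OracleFi23.fgen 0) w ∈ S) :
    S.index ≠ 0 ∧ S.index ≤ 4502191005 :=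
  index_le_of_conj h hr hg hc StageBNode2.index_le

end Cfsg.Agent.BM.StageBV7
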