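import Cfsg.Agent.BM.StageBFinalOf
import Cfsg.Agent.BM.StageBNode0
import Cfsg.Agent.BM.StageBV1
import Cfsg.Agent.BM.StageBV2
import Cfsg.Agent.BM.StageBV3
import Cfsg.Agent.BM.StageBV4
import Cfsg.Agent.BM.StageBV5
import Cfsg.Agent.BM.StageBV6
import Cfsg.Agent.BM.StageBV7

/-!
# Stage B of S1704: the index bounds of the eight stabilisers, in terms of the certificate
-/

set_option autoImplicit false
set_option maxRecDepth 100000

namespace Cfsg.Agent.BM.StageBInd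

open Cfsg.Agent.BM.CertB Cfsg.Agent.BM.StageBFinalOf
open Cfsg.Agent.BM.CoverChk (wd nth)
open Cfsg.Spor

theorem ind_of {ws vs : List ℕ} {n m : ℕ} (hs : ∀ w ∈ ws, w ∈ vs) (hn : n = m)
    (h : ∀ S : Subgroup Spor.Fi23, (∀ w ∈ ws, Script.ev (OracleFi23.fgen 0) w ∈ S) → S.index ≠ 0 ∧ S.index ≤ n) :
    ∀ S : Subgroup Spor.Fi23, (∀ u ∈ vs, wd u ∈ S) → S.index ≠ 0 ∧ S.index ≤ m := by
  subst hn
  intro S hS
  exact h S fun w hw => hS w (hs w hw)

theorem s0 : ∀ w ∈ StageBNode0.ws, w ∈ sg 0 := by decide +kernel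
theorem s1 : ∀ w ∈ StageBV1.ws, w ∈ sg 1 := by decide +kernel
theorem s2 : ∀ w ∈ StageBV2.ws, w ∈ sg 2 := by decide +kernel
theorem s3 : ∀ w ∈ StageBV3.ws, w ∈ sg 3 := by decide +kernel
theorem s4 : ∀ w ∈ StageBV4.ws, w ∈ sg 4 := by decide +kernel
theorem s5 : ∀ w ∈ StageBV5.ws, w ∈ sg 5 := by decide +kernel
theorem s6 : ∀ w ∈ StageBV6.ws, w ∈ sg 6 := by decide +kernel
theorem s7 : ∀ w ∈ StageBV7.ws, w ∈ sg 7 := by decide +kernel

/-- **The index bounds of the stabilisers.** -/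
theorem ind : ∀ i < 8, ∀ S : Subgroup Spor.Fi23, (∀ u ∈ sg i, wd u ∈ S) → S.index ≠ 0 ∧ S.index ≤ nB i := by
  intro i hi
  interval_cases i
  · exact ind_of s0 rfl StageBNode0.index_le
  · exact ind_of s1 rfl StageBV1.index_le
  · exact ind_of s2 rfl StageBV2.index_le
  · exact ind_of s3 rfl StageBV3.index_le
  · exact ind_of s4 rfl StageBV4.index_le
  · exact ind_of s5 rfl StageBV5.index_le
  · exact ind_of s6 rfl StageBV6.index_le
  · exact ind_of s7 rfl StageBV7.index_le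

end Cfsg.Agent.BM.StageBInd
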