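import Cfsg.Agent.BM.StageWRel

/-!
# S1704, stage W: the images of the generators of the presented Baby Monster are transpositions of the model
-/

set_option autoImplicit false

namespace Cfsg.Agent.BM.StageW

open Cfsg.Agent.Monster.VecEngine Cfsg.Agent.BabyM.Conc Cfsg.Agent.BabyM.Model Cfsg.Agent.BabyM.Inst
  Cfsg.Agent.BabyM.InstMem Cfsg.Agent.BabyM.WordsInst Cfsg.Spor Cfsg.Spor.BabyMonster

/-- `p t₀ p⁻¹ = t11` as a check of words. -/
theorem conj_chk : chk ([.Z0, .Z2, .Z4, .Z5, .Z6] ++ [.p]) ([.p] ++ tw .t11) = true := by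
  decide +kernel

/-- Braided involutions are conjugate. -/
theorem isConj_of_braid {G : Type*} [Group G] {a b : G} (ha : a * a = 1) (hb : b * b = 1)
    (h : (a * b) ^ 3 = 1) : IsConj a b := by
  rw [isConj_iff]
  refine ⟨a * b, ?_⟩
  have h1 : a * b * a * b * a * b = 1 := by
    rw [← h, pow_succ, pow_succ, pow_one]; simp only [mul_assoc]
  have ha' : a⁻¹ = a := inv_eq_of_mul_eq_one_left ha
  have hb' : b⁻¹ = b := inv_eq_of_mul_eq_one_left hb
  rw [mul_inv_rev, ha', hb']
  -- `a b a b a = b`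
  calc a * b * a * (b * a) = (a * b * a * b * a * b) * b⁻¹ := by group
    _ = b := by rw [h1, one_mul, hb']

section

variable {K₀ : Type} [Group K₀] (A : BAll M K₀) (O : base.Ok)

include A O

theorem isConj_edge (a b : Gen) (h : coxLabel edges a b = 3) : IsConj (x a) (x b) := by
  have := cox A O a b
  rw [h] at this
  exact isConj_of_braid (sq A O a) (sq A O b) this

/-- All generators are conjugate to `t11`. -/
theorem isConj_t11 (t : Gen) : IsConj (x t) (x .t11) := by
  have e10 : IsConj (x .t10) (x .t11) := isConj_edge A O _ _ (by decide)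
  have e9 : IsConj (x .t9) (x .t11) := (isConj_edge A O .t9 .t10 (by decide)).trans e10
  have e5 : IsConj (x .t5) (x .t11) := (isConj_edge A O .t5 .t9 (by decide)).trans e9
  have e4 : IsConj (x .t4) (x .t11) := (isConj_edge A O .t4 .t5 (by decide)).trans e5
  have e3 : IsConj (x .t3) (x .t11) := (isConj_edge A O .t3 .t4 (by decide)).trans e4
  have e2 : IsConj (x .t2) (x .t11) := (isConj_edge A O .t2 .t3 (by decide)).trans e3
  have e1 : IsConj (x .t1) (x .t11) := (isConj_edge A O .t1 .t2 (by decide)).trans e2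
  have e6 : IsConj (x .t6) (x .t11) := (isConj_edge A O .t6 .t5 (by decide)).trans e5
  have e7 : IsConj (x .t7) (x .t11) := (isConj_edge A O .t7 .t6 (by decide)).trans e6
  have e8 : IsConj (x .t8) (x .t11) := (isConj_edge A O .t8 .t7 (by decide)).trans e7
  cases t
  exacts [e1, e2, e3, e4, e5, e6, e7, e8, e9, e10, IsConj.refl _]

/-- The generator `t11` is conjugate to the transposition `t₀` of the model. -/
theorem isConj_t₀ (t : Gen) : IsConj (⟨M.t₀, A.C_le_G A.t₀_C⟩ : M.G) (x t) := by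
  refine IsConj.trans ?_ (isConj_t11 A O t).symm
  have h := eq_of_chk A O conj_chk
  rw [Wg_append, Wg_append, Wg_tw] at h
  have h0 : Wg [.Z0, .Z2, .Z4, .Z5, .Z6] = (⟨M.t₀, A.C_le_G A.t₀_C⟩ : M.G) := Subtype.ext rfl
  rw [h0] at h
  rw [isConj_iff]
  exact ⟨Wg [.p], by rw [h, mul_inv_cancel_right]⟩

/-- Every generator is `g t₀ g⁻¹`. -/
theorem exists_conj (t : Gen) : ∃ g : M.G, x t = g * ⟨M.t₀, A.C_le_G A.t₀_C⟩ * g⁻¹ := by
  obtain ⟨g, hg⟩ := isConj_iff.1 (isConj_t₀ A O t)
  exact ⟨g, hg.symm⟩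

end

end Cfsg.Agent.BM.StageW
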