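import Cfsg.Agent.BabyM.InstMem
import Cfsg.Agent.BabyM.AbsOrder
import Cfsg.Agent.BM.StageWRel

/-!
# S1704, stage W: a criterion for a subgroup of the group of the model to be the whole group
-/

set_option autoImplicit false

namespace Cfsg.Agent.BM.StageWGen

open Cfsg.Agent.BabyM.Model

section abstract

variable {W : Type} [AddCommGroup W] [Module ℚ W] {M : BData W} {K₀ : Type} [Group K₀] (H : BGroup M K₀)
  {I : Subgroup (W ≃ₗ[ℚ] W)} (hz : M.z ∈ I)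

include H hz

theorem conj_q {q n : W ≃ₗ[ℚ] W} (hq : q ∈ M.Q) (hn : n ∈ M.Q ⊓ I) : q * n * q⁻¹ ∈ M.Q ⊓ I := by
  refine ⟨M.Q.mul_mem (M.Q.mul_mem hq hn.1) (M.Q.inv_mem hq), ?_⟩
  rcases H.Q_comm q hq n hn.1 with h | h
  · rw [h, mul_inv_cancel_right]
    exact hn.2
  · have e : q * n * q⁻¹ = n * M.z := by
      rw [h, mul_assoc (n * q) M.z, ← H.z_comm q⁻¹ (M.C.inv_mem (H.Q_le hq)), mul_assoc n q,
        mul_inv_cancel_left]
    rw [e]
    exact I.mul_mem hn.2 hz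

theorem conj_s {s : W ≃ₗ[ℚ] W} (hs : s ∈ M.C) (h : ∃ q ∈ M.Q, s * q ∈ I) :
    (∀ n ∈ M.Q ⊓ I, s * n * s⁻¹ ∈ M.Q ⊓ I) ∧ (∀ n ∈ M.Q ⊓ I, s⁻¹ * n * s ∈ M.Q ⊓ I) := by
  obtain ⟨q, hq, hi⟩ := h
  have hqC := H.Q_le hq
  have hiC : s * q ∈ M.C := M.C.mul_mem hs hqC
  constructor
  · intro n hn
    have h1 := conj_q H hz (M.Q.inv_mem hq) hn
    have h2 : s * n * s⁻¹ = (s * q) * (q⁻¹ * n * q⁻¹⁻¹) * (s * q)⁻¹ := by group
    rw [h2]
    exact ⟨H.Q_normal _ hiC _ h1.1, I.mul_mem (I.mul_mem hi h1.2) (I.inv_mem hi)⟩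
  · intro n hn
    have h1 : (s * q)⁻¹ * n * (s * q) ∈ M.Q ⊓ I :=
      ⟨H.Q_normal' _ hiC _ hn.1, I.mul_mem (I.mul_mem (I.inv_mem hi) hn.2) hi⟩
    have h2 := conj_q H hz hq h1
    have h3 : s⁻¹ * n * s = q * ((s * q)⁻¹ * n * (s * q)) * q⁻¹ := by group
    rw [h3]
    exact h2

/-- A subgroup containing `z`, an element of `Q` outside `⟨z⟩` and elements of all cosets `s * Q`, `s` in a
generating set of `C`, contains `C`. -/
theorem C_le (S : Set (W ≃ₗ[ℚ] W)) (hS : Subgroup.closure S = M.C) (hl : ∀ s ∈ S, ∃ q ∈ M.Q, s * q ∈ I)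
    {q₀ : W ≃ₗ[ℚ] W} (hq₀ : q₀ ∈ M.Q) (hi : q₀ ∈ I) (h1 : q₀ ≠ 1) (h2 : q₀ ≠ M.z) : M.C ≤ I := by
  have key : ∀ g ∈ M.C, (∀ n ∈ M.Q ⊓ I, g * n * g⁻¹ ∈ M.Q ⊓ I) ∧ (∀ n ∈ M.Q ⊓ I, g⁻¹ * n * g ∈ M.Q ⊓ I) := by
    intro g hg
    rw [← hS] at hg
    refine Subgroup.closure_induction (p := fun g _ => (∀ n ∈ M.Q ⊓ I, g * n * g⁻¹ ∈ M.Q ⊓ I) ∧
      (∀ n ∈ M.Q ⊓ I, g⁻¹ * n * g ∈ M.Q ⊓ I)) ?_ ?_ ?_ ?_ hg
    · intro s hs
      exact conj_s H hz (by rw [← hS]; exact Subgroup.subset_closure hs) (hl s hs)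
    · constructor <;> intro n hn <;> simpa using hn
    · intro a b _ _ ha hb
      constructor
      · intro n hn
        have e : a * b * n * (a * b)⁻¹ = a * (b * n * b⁻¹) * a⁻¹ := by group
        rw [e]
        exact ha.1 _ (hb.1 n hn)
      · intro n hn
        have e : (a * b)⁻¹ * n * (a * b) = b⁻¹ * (a⁻¹ * n * a) * b := by group
        rw [e]
        exact hb.2 _ (ha.2 n hn)
    · intro a _ ha
      constructor
      · intro n hn
        rw [inv_inv]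
        exact ha.2 n hn
      · intro n hn
        rw [inv_inv]
        exact ha.1 n hn
  have hN : M.Q ⊓ I = M.Q := by
    rcases H.Q_irred (M.Q ⊓ I) inf_le_left (fun g hg n hn => (key g hg).1 n hn) with h | h
    · rcases h q₀ ⟨hq₀, hi⟩ with h | h
      · exact absurd h h1
      · exact absurd h h2
    · exact h
  have hQ : M.Q ≤ I := by rw [← hN]; exact inf_le_right
  rw [← hS, Subgroup.closure_le]
  intro s hs
  obtain ⟨q, hq, h⟩ := hl s hs
  have := I.mul_mem h (I.inv_mem (hQ hq))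
  rwa [mul_inv_cancel_right] at this

end abstract

open Cfsg.Agent.BabyM.Conc Cfsg.Agent.BabyM.Inst Cfsg.Agent.BabyM.InstMem Cfsg.Agent.BM.StageW

/-- Criterion for `M.G ≤ I` in the concrete model. -/
theorem G_le {K₀ : Type} [Group K₀] (A : BAll M K₀) {I : Subgroup (V ≃ₗ[ℚ] V)} (hz : E .z ∈ I)
    (hl : ∀ l : Ltr, l.isC = true → ∃ v : List Ltr, W v ∈ M.Q ∧ W (v ++ [l]) ∈ I)
    {v₀ : List Ltr} (hv₀ : W v₀ ∈ M.Q) (hi : W v₀ ∈ I) (h1 : W v₀ ≠ 1) (h2 : W v₀ ≠ E .z)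
    (hX : E .X10 ∈ M.Q) (hτ : W [.tau, .X10] ∈ I) : M.G ≤ I := by
  have hC : M.C ≤ I := by
    refine C_le A.grp (I := I) hz {g | ∃ l : Ltr, l.isC = true ∧ g = E l} rfl ?_ hv₀ hi h1 h2
    rintro s ⟨l, h, rfl⟩
    obtain ⟨v, hv, hvi⟩ := hl l h
    rw [W_append, W_single] at hvi
    exact ⟨W v, hv, hvi⟩
  unfold BData.G
  rw [Subgroup.closure_le]
  rintro g (hg | hg)
  · exact hC hg
  · rw [Set.mem_singleton_iff] at hg
    rw [hg]
    have h3 : E .X10 ∈ I := hC (A.grp.Q_le hX)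
    have h4 : E .X10 * E .tau ∈ I := by
      have := hτ
      rwa [W_cons, W_single] at this
    have h5 := I.mul_mem (I.inv_mem h3) h4
    rw [inv_mul_cancel_left] at h5
    exact h5

/-- The subgroup of the ambient group generated by the images of the generators, conjugated by the value of a word. -/
noncomputable def J (g : List Ltr) : Subgroup (V ≃ₗ[ℚ] V) :=
  Subgroup.closure {k | ∃ t, k = W g * W (tw t) * (W g)⁻¹}

/-- It is enough to show that the conjugated subgroup contains `M.G`. -/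
theorem closure_of_J {g : List Ltr} (h : M.G ≤ J g) : Subgroup.closure (Set.range x) = ⊤ := by
  have h1 : ∀ k ∈ J g, (W g)⁻¹ * k * W g ∈ (Subgroup.closure (Set.range x)).map M.G.subtype := by
    intro k hk
    refine Subgroup.closure_induction (p := fun k _ =>
      (W g)⁻¹ * k * W g ∈ (Subgroup.closure (Set.range x)).map M.G.subtype) ?_ ?_ ?_ ?_ hk
    · rintro k ⟨t, rfl⟩
      have e : (W g)⁻¹ * (W g * W (tw t) * (W g)⁻¹) * W g = W (tw t) := by group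
      rw [e]
      exact ⟨x t, Subgroup.subset_closure ⟨t, rfl⟩, rfl⟩
    · have e : (W g)⁻¹ * 1 * W g = 1 := by group
      rw [e]
      exact Subgroup.one_mem _
    · intro a b _ _ ha hb
      have e : (W g)⁻¹ * (a * b) * W g = ((W g)⁻¹ * a * W g) * ((W g)⁻¹ * b * W g) := by group
      rw [e]
      exact Subgroup.mul_mem _ ha hb
    · intro a _ ha
      have e : (W g)⁻¹ * a⁻¹ * W g = ((W g)⁻¹ * a * W g)⁻¹ := by group
      rw [e]
      exact Subgroup.inv_mem _ ha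
  rw [eq_top_iff]
  intro y _
  have h2 : W g * (y : V ≃ₗ[ℚ] V) * (W g)⁻¹ ∈ M.G :=
    M.G.mul_mem (M.G.mul_mem (W_mem_G g) y.2) (M.G.inv_mem (W_mem_G g))
  have h3 := h1 _ (h h2)
  have e : (W g)⁻¹ * (W g * (y : V ≃ₗ[ℚ] V) * (W g)⁻¹) * W g = y := by group
  rw [e] at h3
  obtain ⟨y', hy', h4⟩ := h3
  have : y' = y := Subtype.ext h4
  rwa [← this]

/-- The letters of the generators of `C` outside `Q`. -/
def lts : List Ltr := [.p, .h, .xi, .y1, .y2, .y3, .y4, .y5, .y6, .y7, .y8, .y9, .y10]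

/-- Criterion for `M.G ≤ I` in the concrete model, with an element moving `z` to `τ z τ⁻¹`. -/
theorem top_of {K₀ : Type} [Group K₀] (A : BAll M K₀) {I : Subgroup (V ≃ₗ[ℚ] V)} (hI : I ≤ M.G) (hz : M.z ∈ I)
    (ht : M.t₀ ∈ I) (hl : ∀ l ∈ lts, ∃ q ∈ M.Q, E l * q ∈ I)
    (hx : ∃ x ∈ I, x * M.z * x⁻¹ = M.τ * M.z * M.τ⁻¹) : M.G ≤ I := by
  have hC : M.C ≤ I := by
    refine C_le A.grp (I := I) hz {g | ∃ l : Ltr, l.isC = true ∧ g = E l} rfl ?_ A.rep.t₀_mem ht A.rep.t₀_ne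
      A.rep.t₀_ne_z
    rintro s ⟨l, h, rfl⟩
    by_cases hq : l.isQ = true
    · refine ⟨(E l)⁻¹, M.Q.inv_mem (Subgroup.subset_closure ⟨l, hq, rfl⟩), ?_⟩
      rw [mul_inv_cancel]
      exact I.one_mem
    · exact hl l (by cases l <;> first | exact absurd rfl hq | exact absurd h (by decide) | simp [lts])
  obtain ⟨y, hy, e⟩ := hx
  have hy' : M.τ⁻¹ * y ∈ M.C := by
    apply A.cent_z _ (M.G.mul_mem (M.G.inv_mem A.τ_mem_G) (hI hy))
    have e1 : y * M.z = M.τ * M.z * M.τ⁻¹ * y := by rw [← e]; group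
    rw [mul_assoc, e1]
    group
  unfold BData.G
  rw [Subgroup.closure_le]
  rintro g (hg | hg)
  · exact hC hg
  · rw [Set.mem_singleton_iff] at hg
    rw [hg]
    have h5 := I.mul_mem hy (I.inv_mem (hC hy'))
    rw [mul_inv_rev, inv_inv, mul_inv_cancel_left] at h5
    exact h5

end Cfsg.Agent.BM.StageWGen
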