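import Cfsg.Agent.BabyM.WordsInst
import Cfsg.Agent.BM.StageWWords

/-!
# S1704, stage W: kernel checks of the Coxeter relations of `Y₄₃₃` on the vector of the base
-/

set_option autoImplicit false
set_option Elab.async false

namespace Cfsg.Agent.BM.StageW

open Cfsg.Agent.Monster.VecEngine Cfsg.Agent.BabyM.Conc Cfsg.Agent.BabyM.WordsInst Cfsg.Spor.BabyMonster

/-- The check that two words agree on the vector of the base. -/
noncomputable def chk (v w : List Ltr) : Bool := check (v.map Ltr.prog) vB (w.map Ltr.prog) vB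

/-! ### Squares -/

theorem s1 : chk (tw .t1 ++ tw .t1) [] = true := by decide +kernel

theorem s2 : chk (tw .t2 ++ tw .t2) [] = true := by decide +kernel

theorem s3 : chk (tw .t3 ++ tw .t3) [] = true := by decide +kernel

theorem s4 : chk (tw .t4 ++ tw .t4) [] = true := by decide +kernel

theorem s5 : chk (tw .t5 ++ tw .t5) [] = true := by decide +kernel

theorem s6 : chk (tw .t6 ++ tw .t6) [] = true := by decide +kernel

theorem s7 : chk (tw .t7 ++ tw .t7) [] = true := by decide +kernel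

theorem s8 : chk (tw .t8 ++ tw .t8) [] = true := by decide +kernel

theorem s9 : chk (tw .t9 ++ tw .t9) [] = true := by decide +kernel

theorem s10 : chk (tw .t10 ++ tw .t10) [] = true := by decide +kernel

theorem s11 : chk (tw .t11 ++ tw .t11) [] = true := by decide +kernel

/-! ### Pairs -/

theorem c1_2 : chk (tw .t1 ++ tw .t2 ++ tw .t1) (tw .t2 ++ tw .t1 ++ tw .t2) = true := by decide +kernel

theorem c1_3 : chk (tw .t1 ++ tw .t3) (tw .t3 ++ tw .t1) = true := by decide +kernel

theorem c1_4 : chk (tw .t1 ++ tw .t4) (tw .t4 ++ tw .t1) = true := by decide +kernel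

theorem c1_5 : chk (tw .t1 ++ tw .t5) (tw .t5 ++ tw .t1) = true := by decide +kernel

theorem c1_6 : chk (tw .t1 ++ tw .t6) (tw .t6 ++ tw .t1) = true := by decide +kernel

theorem c1_7 : chk (tw .t1 ++ tw .t7) (tw .t7 ++ tw .t1) = true := by decide +kernel

theorem c1_8 : chk (tw .t1 ++ tw .t8) (tw .t8 ++ tw .t1) = true := by decide +kernel

theorem c1_9 : chk (tw .t1 ++ tw .t9) (tw .t9 ++ tw .t1) = true := by decide +kernel

theorem c1_10 : chk (tw .t1 ++ tw .t10) (tw .t10 ++ tw .t1) = true := by decide +kernel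

theorem c1_11 : chk (tw .t1 ++ tw .t11) (tw .t11 ++ tw .t1) = true := by decide +kernel

theorem c2_3 : chk (tw .t2 ++ tw .t3 ++ tw .t2) (tw .t3 ++ tw .t2 ++ tw .t3) = true := by decide +kernel

theorem c2_4 : chk (tw .t2 ++ tw .t4) (tw .t4 ++ tw .t2) = true := by decide +kernel

theorem c2_5 : chk (tw .t2 ++ tw .t5) (tw .t5 ++ tw .t2) = true := by decide +kernel

theorem c2_6 : chk (tw .t2 ++ tw .t6) (tw .t6 ++ tw .t2) = true := by decide +kernel

theorem c2_7 : chk (tw .t2 ++ tw .t7) (tw .t7 ++ tw .t2) = true := by decide +kernel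

theorem c2_8 : chk (tw .t2 ++ tw .t8) (tw .t8 ++ tw .t2) = true := by decide +kernel

theorem c2_9 : chk (tw .t2 ++ tw .t9) (tw .t9 ++ tw .t2) = true := by decide +kernel

theorem c2_10 : chk (tw .t2 ++ tw .t10) (tw .t10 ++ tw .t2) = true := by decide +kernel

theorem c2_11 : chk (tw .t2 ++ tw .t11) (tw .t11 ++ tw .t2) = true := by decide +kernel

theorem c3_4 : chk (tw .t3 ++ tw .t4 ++ tw .t3) (tw .t4 ++ tw .t3 ++ tw .t4) = true := by decide +kernel

theorem c3_5 : chk (tw .t3 ++ tw .t5) (tw .t5 ++ tw .t3) = true := by decide +kernel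

theorem c3_6 : chk (tw .t3 ++ tw .t6) (tw .t6 ++ tw .t3) = true := by decide +kernel

theorem c3_7 : chk (tw .t3 ++ tw .t7) (tw .t7 ++ tw .t3) = true := by decide +kernel

theorem c3_8 : chk (tw .t3 ++ tw .t8) (tw .t8 ++ tw .t3) = true := by decide +kernel

theorem c3_9 : chk (tw .t3 ++ tw .t9) (tw .t9 ++ tw .t3) = true := by decide +kernel

theorem c3_10 : chk (tw .t3 ++ tw .t10) (tw .t10 ++ tw .t3) = true := by decide +kernel

theorem c3_11 : chk (tw .t3 ++ tw .t11) (tw .t11 ++ tw .t3) = true := by decide +kernel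

theorem c4_5 : chk (tw .t4 ++ tw .t5 ++ tw .t4) (tw .t5 ++ tw .t4 ++ tw .t5) = true := by decide +kernel

theorem c4_6 : chk (tw .t4 ++ tw .t6) (tw .t6 ++ tw .t4) = true := by decide +kernel

theorem c4_7 : chk (tw .t4 ++ tw .t7) (tw .t7 ++ tw .t4) = true := by decide +kernel

theorem c4_8 : chk (tw .t4 ++ tw .t8) (tw .t8 ++ tw .t4) = true := by decide +kernel

theorem c4_9 : chk (tw .t4 ++ tw .t9) (tw .t9 ++ tw .t4) = true := by decide +kernel

theorem c4_10 : chk (tw .t4 ++ tw .t10) (tw .t10 ++ tw .t4) = true := by decide +kernel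

theorem c4_11 : chk (tw .t4 ++ tw .t11) (tw .t11 ++ tw .t4) = true := by decide +kernel

theorem c5_6 : chk (tw .t5 ++ tw .t6 ++ tw .t5) (tw .t6 ++ tw .t5 ++ tw .t6) = true := by decide +kernel

theorem c5_7 : chk (tw .t5 ++ tw .t7) (tw .t7 ++ tw .t5) = true := by decide +kernel

theorem c5_8 : chk (tw .t5 ++ tw .t8) (tw .t8 ++ tw .t5) = true := by decide +kernel

theorem c5_9 : chk (tw .t5 ++ tw .t9 ++ tw .t5) (tw .t9 ++ tw .t5 ++ tw .t9) = true := by decide +kernel

theorem c5_10 : chk (tw .t5 ++ tw .t10) (tw .t10 ++ tw .t5) = true := by decide +kernel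

theorem c5_11 : chk (tw .t5 ++ tw .t11) (tw .t11 ++ tw .t5) = true := by decide +kernel

theorem c6_7 : chk (tw .t6 ++ tw .t7 ++ tw .t6) (tw .t7 ++ tw .t6 ++ tw .t7) = true := by decide +kernel

theorem c6_8 : chk (tw .t6 ++ tw .t8) (tw .t8 ++ tw .t6) = true := by decide +kernel

theorem c6_9 : chk (tw .t6 ++ tw .t9) (tw .t9 ++ tw .t6) = true := by decide +kernel

theorem c6_10 : chk (tw .t6 ++ tw .t10) (tw .t10 ++ tw .t6) = true := by decide +kernel

theorem c6_11 : chk (tw .t6 ++ tw .t11) (tw .t11 ++ tw .t6) = true := by decide +kernel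

theorem c7_8 : chk (tw .t7 ++ tw .t8 ++ tw .t7) (tw .t8 ++ tw .t7 ++ tw .t8) = true := by decide +kernel

theorem c7_9 : chk (tw .t7 ++ tw .t9) (tw .t9 ++ tw .t7) = true := by decide +kernel

theorem c7_10 : chk (tw .t7 ++ tw .t10) (tw .t10 ++ tw .t7) = true := by decide +kernel

theorem c7_11 : chk (tw .t7 ++ tw .t11) (tw .t11 ++ tw .t7) = true := by decide +kernel

theorem c8_9 : chk (tw .t8 ++ tw .t9) (tw .t9 ++ tw .t8) = true := by decide +kernel

theorem c8_10 : chk (tw .t8 ++ tw .t10) (tw .t10 ++ tw .t8) = true := by decide +kernel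

theorem c8_11 : chk (tw .t8 ++ tw .t11) (tw .t11 ++ tw .t8) = true := by decide +kernel

theorem c9_10 : chk (tw .t9 ++ tw .t10 ++ tw .t9) (tw .t10 ++ tw .t9 ++ tw .t10) = true := by decide +kernel

theorem c9_11 : chk (tw .t9 ++ tw .t11) (tw .t11 ++ tw .t9) = true := by decide +kernel

theorem c10_11 : chk (tw .t10 ++ tw .t11 ++ tw .t10) (tw .t11 ++ tw .t10 ++ tw .t11) = true := by decide +kernel

end Cfsg.Agent.BM.StageW
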