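import Cfsg.Agent.Lib.PermNet

/-!
Packed tables: a table with 16-bit entries is a binary tree whose leaves are natural numbers with 1024 entries.
`chk` verifies such a leaf against bit planes.
-/

set_option autoImplicit false

namespace Cfsg.Agent.BM.Tab

open Cfsg.Agent.Lib.PermNet

/-- A binary tree of numbers. -/
inductive Tr : Type
  | leaf (n : ℕ) : Tr
  | node (a b : Tr) : Tr

/-- Entry `p` of a tree; `m` is half of the size of the current range. -/
noncomputable def Tr.get (t : Tr) : ℕ → ℕ → ℕ :=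
  Tr.rec (motive := fun _ => ℕ → ℕ → ℕ)
    (fun n _ p => Nat.land (Nat.shiftRight n (Nat.mul 16 p)) 65535)
    (fun _ _ ga gb m p => Bool.rec (ga (Nat.div m 2) p) (gb (Nat.div m 2) (Nat.sub p m)) (Nat.ble m p)) t

theorem Tr.get_leaf (n m p : ℕ) : (Tr.leaf n).get m p = (n >>> (16 * p)) &&& 65535 := rfl

theorem Tr.get_node (a b : Tr) (m p : ℕ) :
    (Tr.node a b).get m p = if p < m then a.get (m / 2) p else b.get (m / 2) (p - m) := by
  show (Bool.rec (a.get (m / 2) p) (b.get (m / 2) (p - m)) (Nat.ble m p) : ℕ) = _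
  by_cases h : p < m
  · rw [if_pos h, show Nat.ble m p = false by
      rw [← Bool.not_eq_true]; exact fun h' => absurd (Nat.le_of_ble_eq_true h') (by omega)]
  · rw [if_neg h, Nat.ble_eq_true_of_le (by omega)]

/-! ### Checking a packed number against bit planes -/

/-- Number with the given bits, lowest first. -/
noncomputable def asmB (Ps : List ℕ) : ℕ :=
  List.rec (motive := fun _ => ℕ) 0 (fun a _ ih => Nat.add a (Nat.mul 2 ih)) Ps

theorem asmB_nil : asmB [] = 0 := rfl
theorem asmB_cons (a : ℕ) (Ps : List ℕ) : asmB (a :: Ps) = a + 2 * asmB Ps := rfl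

/-- Low parts. -/
noncomputable def lows (m : ℕ) (Ps : List ℕ) : List ℕ :=
  List.rec (motive := fun _ => List ℕ) [] (fun a _ ih => Nat.land a m :: ih) Ps

/-- High parts. -/
noncomputable def highs (m : ℕ) (Ps : List ℕ) : List ℕ :=
  List.rec (motive := fun _ => List ℕ) [] (fun a _ ih => Nat.shiftRight a m :: ih) Ps

theorem lows_eq (m : ℕ) (Ps : List ℕ) : lows m Ps = Ps.map (fun a => a &&& m) := by
  induction Ps with
  | nil => rfl
  | cons a Ps ih => rw [List.map_cons, ← ih]; rfl

theorem highs_eq (m : ℕ) (Ps : List ℕ) : highs m Ps = Ps.map (fun a => a >>> m) := by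
  induction Ps with
  | nil => rfl
  | cons a Ps ih => rw [List.map_cons, ← ih]; rfl

/-- Entry `q` of the planes. -/
def entry (Ps : List ℕ) (q : ℕ) : ℕ :=
  match Ps with
  | [] => 0
  | a :: Ps => (if a.testBit q then 1 else 0) + 2 * entry Ps q

/-- `n` (with `2^k` entries of 16 bits) agrees with the planes `Ps` (each `< 2^2^k`). -/
noncomputable def chk (k : ℕ) : List ℕ → ℕ → Bool :=
  Nat.rec (motive := fun _ => List ℕ → ℕ → Bool) (fun Ps n => Nat.beq (asmB Ps) n)
    (fun k ih Ps n =>
      and (ih (lows (Nat.sub (Nat.pow 2 (Nat.pow 2 k)) 1) Ps)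
            (Nat.land n (Nat.sub (Nat.pow 2 (Nat.mul 16 (Nat.pow 2 k))) 1)))
          (ih (highs (Nat.pow 2 k) Ps) (Nat.shiftRight n (Nat.mul 16 (Nat.pow 2 k))))) k

theorem chk_zero (Ps : List ℕ) (n : ℕ) : chk 0 Ps n = Nat.beq (asmB Ps) n := rfl

theorem chk_succ (k : ℕ) (Ps : List ℕ) (n : ℕ) : chk (k + 1) Ps n =
    (chk k (lows (2 ^ 2 ^ k - 1) Ps) (n &&& (2 ^ (16 * 2 ^ k) - 1)) &&
      chk k (highs (2 ^ k) Ps) (n >>> (16 * 2 ^ k))) := rfl

theorem entry_lows (k : ℕ) (Ps : List ℕ) (q : ℕ) (hq : q < 2 ^ k) :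
    entry (lows (2 ^ 2 ^ k - 1) Ps) q = entry Ps q := by
  rw [lows_eq]
  induction Ps with
  | nil => rfl
  | cons a Ps ih =>
    rw [List.map_cons]
    show (if (a &&& (2 ^ 2 ^ k - 1)).testBit q then 1 else 0) + 2 * entry _ q = _
    rw [ih, Nat.and_two_pow_sub_one_eq_mod, Nat.testBit_mod_two_pow]
    simp [hq, entry]

theorem entry_highs (m : ℕ) (Ps : List ℕ) (q : ℕ) :
    entry (highs m Ps) q = entry Ps (m + q) := by
  rw [highs_eq]
  induction Ps with
  | nil => rfl
  | cons a Ps ih =>
    rw [List.map_cons]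
    show (if (a >>> m).testBit q then 1 else 0) + 2 * entry _ q = _
    rw [ih, Nat.testBit_shiftRight]
    rfl

theorem asmB_eq_entry (Ps : List ℕ) (h : ∀ a ∈ Ps, a < 2) : asmB Ps = entry Ps 0 := by
  induction Ps with
  | nil => rfl
  | cons a Ps ih =>
    rw [asmB_cons, ih (fun b hb => h b (List.mem_cons_of_mem _ hb))]
    have ha := h a List.mem_cons_self
    have : a = 0 ∨ a = 1 := by omega
    rcases this with rfl | rfl <;> simp [entry]

theorem chk_spec (k : ℕ) : ∀ (Ps : List ℕ) (n : ℕ), (∀ a ∈ Ps, a < 2 ^ 2 ^ k) →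
    Ps.length ≤ 16 → chk k Ps n = true → ∀ q < 2 ^ k, (n >>> (16 * q)) &&& 65535 = entry Ps q := by
  induction k with
  | zero =>
    intro Ps n hP hl h q hq
    have hq0 : q = 0 := by simpa using hq
    subst hq0
    rw [chk_zero] at h
    have h1 := Nat.eq_of_beq_eq_true h
    have hP' : ∀ a ∈ Ps, a < 2 := by simpa using hP
    rw [← asmB_eq_entry Ps hP', h1]
    simp only [Nat.mul_zero, Nat.shiftRight_zero]
    have hlt : asmB Ps < 2 ^ 16 := by
      refine lt_of_lt_of_le (b := 2 ^ Ps.length) ?_ (Nat.pow_le_pow_right (by norm_num) hl)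
      clear hl h h1 hP
      induction Ps with
      | nil => simp [asmB_nil]
      | cons a Ps ih =>
        rw [asmB_cons, List.length_cons, pow_succ]
        have h1 := hP' a List.mem_cons_self
        have h2 := ih (fun b hb => hP' b (List.mem_cons_of_mem _ hb))
        omega
    rw [h1] at hlt
    rw [show (65535 : ℕ) = 2 ^ 16 - 1 by norm_num, Nat.and_two_pow_sub_one_eq_mod, Nat.mod_eq_of_lt hlt]
  | succ k ih =>
    intro Ps n hP hl h q hq
    rw [chk_succ, Bool.and_eq_true] at h
    have hpow : 2 ^ (k + 1) = 2 ^ k + 2 ^ k := by rw [pow_succ]; ring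
    by_cases hqk : q < 2 ^ k
    · have h1 := ih _ _ (by
        rw [lows_eq]
        intro a ha
        obtain ⟨b, _, rfl⟩ := List.mem_map.1 ha
        rw [Nat.and_two_pow_sub_one_eq_mod]
        exact Nat.mod_lt _ (by positivity)) (by rw [lows_eq, List.length_map]; exact hl) h.1 q hqk
      rw [entry_lows k Ps q hqk] at h1
      rw [← h1]
      apply Nat.eq_of_testBit_eq
      intro i
      rw [show (65535 : ℕ) = 2 ^ 16 - 1 by norm_num]
      simp only [Nat.testBit_and, Nat.testBit_shiftRight, Nat.testBit_two_pow_sub_one]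
      by_cases hi : i < 16
      · have : 16 * q + i < 16 * 2 ^ k := by omega
        simp [hi, this]
      · simp [hi]
    · have h2 := ih _ _ (by
        rw [highs_eq]
        intro a ha
        obtain ⟨b, hb, rfl⟩ := List.mem_map.1 ha
        rw [Nat.shiftRight_eq_div_pow]
        apply Nat.div_lt_of_lt_mul
        rw [← pow_add, ← hpow]
        exact hP b hb) (by rw [highs_eq, List.length_map]; exact hl) h.2 (q - 2 ^ k) (by omega)
      rw [entry_highs, show 2 ^ k + (q - 2 ^ k) = q by omega] at h2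
      rw [← h2, ← Nat.shiftRight_add]
      congr 2
      have : 16 * 2 ^ k + 16 * (q - 2 ^ k) = 16 * q := by omega
      rw [this]

/-- The whole tree (leaves have `2^k` entries, depth `j`) against planes. -/
noncomputable def chkT (k : ℕ) (t : Tr) : ℕ → List ℕ → Bool :=
  Tr.rec (motive := fun _ => ℕ → List ℕ → Bool)
    (fun n j Ps => and (Nat.beq j k) (chk k Ps n))
    (fun _ _ ca cb j Ps => and (Nat.ble 1 j)
      (and (ca (Nat.pred j) (lows (Nat.sub (Nat.pow 2 (Nat.pow 2 (Nat.pred j))) 1) Ps))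
        (cb (Nat.pred j) (highs (Nat.pow 2 (Nat.pred j)) Ps)))) t

theorem chkT_spec (k : ℕ) (t : Tr) : ∀ (j : ℕ) (Ps : List ℕ), (∀ a ∈ Ps, a < 2 ^ 2 ^ j) →
    Ps.length ≤ 16 → chkT k t j Ps = true → ∀ q < 2 ^ j, t.get (2 ^ j / 2) q = entry Ps q := by
  induction t with
  | leaf n =>
    intro j Ps hP hl h q hq
    have h' : (Nat.beq j k && chk k Ps n) = true := h
    rw [Bool.and_eq_true] at h'
    have hj : j = k := Nat.eq_of_beq_eq_true h'.1
    subst hj
    rw [Tr.get_leaf]
    exact chk_spec j Ps n hP hl h'.2 q hq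
  | node a b iha ihb =>
    intro j Ps hP hl h q hq
    have h' : (Nat.ble 1 j && (chkT k a (j - 1) (lows (2 ^ 2 ^ (j - 1) - 1) Ps) &&
      chkT k b (j - 1) (highs (2 ^ (j - 1)) Ps))) = true := h
    rw [Bool.and_eq_true, Bool.and_eq_true] at h'
    have hj := Nat.le_of_ble_eq_true h'.1
    obtain ⟨i, rfl⟩ : ∃ i, j = i + 1 := ⟨j - 1, by omega⟩
    simp only [Nat.add_sub_cancel] at h'
    have hpow : 2 ^ (i + 1) = 2 ^ i + 2 ^ i := by rw [pow_succ]; ring
    have hh : 2 ^ (i + 1) / 2 = 2 ^ i := by omega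
    rw [Tr.get_node, hh]
    split_ifs with hqk
    · have h1 := iha i _ (by
        rw [lows_eq]
        intro a ha
        obtain ⟨b, _, rfl⟩ := List.mem_map.1 ha
        rw [Nat.and_two_pow_sub_one_eq_mod]
        exact Nat.mod_lt _ (by positivity)) (by rw [lows_eq, List.length_map]; exact hl) h'.2.1 q hqk
      rw [entry_lows i Ps q hqk] at h1
      exact h1
    · have h2 := ihb i _ (by
        rw [highs_eq]
        intro a ha
        obtain ⟨b, hb, rfl⟩ := List.mem_map.1 ha
        rw [Nat.shiftRight_eq_div_pow]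
        apply Nat.div_lt_of_lt_mul
        rw [← pow_add, ← hpow]
        exact hP b hb) (by rw [highs_eq, List.length_map]; exact hl) h'.2.2 (q - 2 ^ i) (by omega)
      rw [entry_highs, show 2 ^ i + (q - 2 ^ i) = q by omega] at h2
      exact h2

/-- The planes of a network: images of the index planes. -/
noncomputable def planes (L : Net) (k : ℕ) : List ℕ :=
  [L.app (plane k 0), L.app (plane k 1), L.app (plane k 2), L.app (plane k 3), L.app (plane k 4),
   L.app (plane k 5), L.app (plane k 6), L.app (plane k 7), L.app (plane k 8), L.app (plane k 9),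
   L.app (plane k 10), L.app (plane k 11), L.app (plane k 12), L.app (plane k 13), L.app (plane k 14)]

theorem entry_eq (Ps : List ℕ) : ∀ (q x : ℕ), x < 2 ^ Ps.length →
    (∀ i (hi : i < Ps.length), (Ps[i]).testBit q = x.testBit i) → entry Ps q = x := by
  induction Ps with
  | nil => intro q x hx _; simp only [List.length_nil, pow_zero, Nat.lt_one_iff] at hx; rw [hx]; rfl
  | cons a Ps ih =>
    intro q x hx h
    have h0 := h 0 (by simp)
    have h1 := ih q (x / 2) (by
      rw [List.length_cons, pow_succ] at hx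
      omega) (by
      intro i hi
      have := h (i + 1) (by simp; omega)
      simp only [List.getElem_cons_succ] at this
      rw [this, Nat.testBit_succ])
    show (if a.testBit q then 1 else 0) + 2 * entry Ps q = x
    rw [h1]
    simp only [List.getElem_cons_zero] at h0
    rw [h0, Nat.testBit_zero]
    have := Nat.div_add_mod x 2
    rcases Nat.mod_two_eq_zero_or_one x with h | h <;> rw [h] at this ⊢ <;> simp <;> omega

theorem app_lt {k : ℕ} {L : Net} (h : L.ok (2 ^ k) = true) {P : ℕ} (hP : P < 2 ^ 2 ^ k) :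
    L.app P < 2 ^ 2 ^ k := by
  apply Nat.lt_pow_two_of_testBit
  intro i hi
  rw [testBit_app h, perm_eq_of_le h hi]
  exact Nat.testBit_lt_two_pow (lt_of_lt_of_le hP (Nat.pow_le_pow_right (by norm_num) hi))

theorem plane_lt (k b : ℕ) (hb : b < k) : plane k b < 2 ^ 2 ^ k := by
  apply Nat.lt_pow_two_of_testBit
  intro i hi
  exact testBit_plane_of_le k b i hi hb

theorem planes_spec {L : Net} (h : L.ok (2 ^ 15) = true) (p : ℕ) (hp : p < 2 ^ 15) :
    entry (planes L 15) p = L.perm p := by
  have hlt := perm_lt h hp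
  apply entry_eq
  · exact hlt
  · intro i hi
    have hi' : i < 15 := hi
    have key : ∀ b < 15, (L.app (plane 15 b)).testBit p = (L.perm p).testBit b := by
      intro b hb
      rw [testBit_app h, testBit_plane 15 b _ hlt hb]
    interval_cases i <;> exact key _ (by norm_num)

theorem planes_lt {L : Net} (h : L.ok (2 ^ 15) = true) : ∀ a ∈ planes L 15, a < 2 ^ 2 ^ 15 := by
  have key : ∀ b < 15, L.app (plane 15 b) < 2 ^ 2 ^ 15 := fun b hb => app_lt h (plane_lt 15 b hb)
  unfold planes
  intro a ha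
  simp only [List.mem_cons, List.not_mem_nil, or_false] at ha
  rcases ha with rfl | rfl | rfl | rfl | rfl | rfl | rfl | rfl | rfl | rfl | rfl | rfl | rfl | rfl | rfl <;>
    exact key _ (by norm_num)

/-- Soundness: the table is the table of the permutation. -/
theorem get_eq_perm {L : Net} (h : L.ok (2 ^ 15) = true) {t : Tr} {k : ℕ}
    (hc : chkT k t 15 (planes L 15) = true) (p : ℕ) (hp : p < 2 ^ 15) :
    t.get 16384 p = L.perm p := by
  rw [← planes_spec h p hp]
  exact chkT_spec k t 15 _ (planes_lt h) (by simp [planes]) hc p hp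

end Cfsg.Agent.BM.Tab
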